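import Cfsg.Agent.STD.An3

/-! Standard components `2.A_n`: construction of the local setting. -/

set_option autoImplicit false

namespace Cfsg.Agent.STD

open Equiv Subgroup H3 H67 AN

variable {G : Type*} [Group G] {n : ℕ}

theorem perm_eq_one (h4 : 4 ≤ n) (h6 : n ≠ 6) {σ : Perm (Fin n)}
    (h : ∀ τ, Perm.sign τ = 1 → σ * τ * σ⁻¹ = τ) : σ = 1 :=
  (S2119.result n h4 h6).1 (by
    rw [map_one]
    exact MulEquiv.ext fun τ => Subtype.ext (h τ (Perm.mem_alternatingGroup.1 τ.2)))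

theorem exists_perm (h4 : 4 ≤ n) (h6 : n ≠ 6) {ρ : G →* Perm (Fin n)} (h : Cen ρ) (β : G ≃* G)
    (hβ : ∀ a, ρ a = 1 → ρ (β a) = 1) : ∃ σ : Perm (Fin n), ∀ a, ρ (β a) = σ * ρ a * σ⁻¹ := by
  let ρ' := ρ.codRestrict _ fun g => Perm.mem_alternatingGroup.2 (h.even g)
  have hs : Function.Surjective ρ' := fun σ => by
    obtain ⟨g, hg⟩ := h.surj σ (Perm.mem_alternatingGroup.1 σ.2)
    exact ⟨g, Subtype.ext hg⟩
  let f := ρ'.liftOfSurjective hs ⟨ρ'.comp β.toMonoidHom, fun a ha =>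
    Subtype.ext (hβ a (congrArg Subtype.val ha))⟩
  have hf : ∀ a, f (ρ' a) = ρ' (β a) := fun a => ρ'.liftOfRightInverse_comp_apply _ _ _ a
  obtain ⟨σ, hσ⟩ := (S2119.result n h4 h6).2 (MulEquiv.ofBijective f
    (Finite.surjective_iff_bijective.1 fun τ => by
      obtain ⟨a, rfl⟩ := hs τ
      exact ⟨ρ' (β.symm a), by rw [hf, β.apply_symm_apply]⟩))
  exact ⟨σ, fun a => congrArg Subtype.val ((hf a).symm.trans (DFunLike.congr_fun hσ (ρ' a)).symm)⟩

theorem exists_SA [Finite G] (h4 : 4 ≤ n) (h6 : n ≠ 6) {A : Subgroup G} (hA : IsStandardSubgroup A)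
    {ρ : A →* Perm (Fin n)} {z : A} (h : DC ρ z) : ∃ π : G → Perm (Fin n), SA (z : G) A π := by
  have z2 : (z : G) * z = 1 := congrArg Subtype.val h.z_sq
  have z1 : (z : G) ≠ 1 := fun e => h.ne (Subtype.ext e)
  have oz : orderOf (z : G) = 2 := orderOf_eq_prime (by rw [pow_two, z2]) z1
  have cz : ∀ a ∈ A, Commute a z := fun a ha => congrArg Subtype.val (h.comm_z ⟨a, ha⟩)
  have zK : (z : G) ∈ centralizer (A : Set G) := cz
  have hN : ∀ {g : G}, Commute g z → g ∈ normalizer (A : Set G) := fun hg =>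
    H46.standard_centralizer_le_normalizer hA oz zK (mem_centralizer_singleton_iff.2 hg)
  have nm : ∀ {g}, g ∈ normalizer (A : Set G) → ∀ {a}, a ∈ A → g * a * g⁻¹ ∈ A := fun hg a ha =>
    (mem_normalizer_iff.1 hg a).1 ha
  have uq : ∀ {σ τ : Perm (Fin n)}, (∀ a, σ * ρ a * σ⁻¹ = τ * ρ a * τ⁻¹) → σ = τ := fun {σ τ} e =>
    (inv_mul_eq_one.1 (perm_eq_one h4 h6 (σ := τ⁻¹ * σ) fun x hx => by
      obtain ⟨a, rfl⟩ := h.surj x hx
      calc _ = τ⁻¹ * (σ * ρ a * σ⁻¹) * τ := by group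
        _ = _ := by rw [e]; group)).symm
  have hZ : ∀ a : A, (∀ b ∈ A, Commute (a : G) b) → a = 1 ∨ a = z := fun a ha =>
    (h.ker a).1 (perm_eq_one h4 h6 fun x hx => by
      obtain ⟨b, rfl⟩ := h.surj x hx
      rw [← map_mul, show a * b = b * a from Subtype.ext (ha b b.2), map_mul, mul_inv_cancel_right])
  have hN' : ∀ {g : G}, g ∈ normalizer (A : Set G) → Commute g z := fun {g} hg => by
    rcases hZ ⟨_, nm hg z.2⟩ (fun b hb => by
      simpa [mul_assoc] using (cz _ (nm (inv_mem hg) hb)).symm.map (MulAut.conj g)) with e | e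
    · exact absurd (by simpa using congrArg Subtype.val e) h.ne
    · exact mul_inv_eq_iff_eq_mul.1 (congrArg Subtype.val e)
  have ex : ∀ g : G, ∃ σ : Perm (Fin n), ∀ hg : Commute g z, ∀ a : A,
      ρ ⟨g * a * g⁻¹, nm (hN hg) a.2⟩ = σ * ρ a * σ⁻¹ := fun g => by
    by_cases hg : Commute g z
    · obtain ⟨σ, hσ⟩ := exists_perm h4 h6 h.toCen (A.normalizerMonoidHom ⟨g, hN hg⟩) fun a ha => by
        rcases (h.ker a).1 ha with rfl | rfl
        · rw [map_one, map_one]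
        · exact (h.ker _).2 (.inr (Subtype.ext (mul_inv_eq_iff_eq_mul.2 hg)))
      exact ⟨σ, fun _ => hσ⟩
    · exact ⟨1, fun e => absurd e hg⟩
  choose π hπ using ex
  have hρ : ∀ a (ha : a ∈ A), π a = ρ ⟨a, ha⟩ := fun a ha => uq fun b => by
    rw [← hπ a (cz a ha), ← map_inv, ← map_mul, ← map_mul]
    rfl
  refine ⟨π, z.2, z1, z2, cz, fun {g k} hg hk => uq fun a => ?_, fun hg => nm (hN hg),
    fun {g} hg e a ha => ?_, fun {g} hg => uq fun a => ?_, fun a ha => hρ a ha ▸ h.even _,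
    fun σ hσ => ?_, fun a ha e => ?_, fun u hu a b c d h1 h2 => ?_,
    fun {k} k2 k1 hk g hg => hN' (H46.standard_centralizer_le_normalizer hA
      (orderOf_eq_prime (by rw [pow_two, k2]) k1) (fun a ha => (hk a ha).symm.eq)
      (mem_centralizer_singleton_iff.2 hg)), fun g hg => mul_inv_eq_iff_eq_mul.2 (hN' ?_)⟩
  · rw [← hπ _ (hg.mul_left hk), show π g * π k * ρ a * (π g * π k)⁻¹ =
      π g * (π k * ρ a * (π k)⁻¹) * (π g)⁻¹ by group, ← hπ k hk, ← hπ g hg]
    exact congrArg ρ (Subtype.ext (by simp [mul_assoc]))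
  · refine (H59.mem_centralizer_of_commutator_mem (H46.standard_qs hA) (hN hg) (fun l hl => ?_)
      a ha).symm
    have h1 := hπ g hg ⟨l, hl⟩
    rw [e, one_mul, inv_one, mul_one, ← mul_inv_eq_one, ← map_inv, ← map_mul, h.ker] at h1
    rcases h1 with h1 | h1 <;> rw [commutatorElement_def, show g * l * g⁻¹ * l⁻¹ = _ from
      congrArg Subtype.val h1]
    exacts [one_mem _, zK]
  · rw [← hπ g (hg z z.2), one_mul, inv_one, mul_one]
    exact congrArg ρ (Subtype.ext (mul_inv_eq_iff_eq_mul.2 (hg a a.2)))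
  · obtain ⟨a, rfl⟩ := h.surj σ hσ
    exact ⟨a, a.2, hρ a a.2⟩
  · exact ((h.ker ⟨a, ha⟩).1 (hρ a ha ▸ e)).imp (congrArg Subtype.val) (congrArg Subtype.val)
  · rw [← pow_two]
    exact congrArg Subtype.val (h.dt ⟨u, hu⟩ a b c d h1 (hρ u hu ▸ h2))
  · rw [hA.2.2.2]
    by_contra e
    refine (hA.2.1.2 g e).not_two_dvd_nat ?_
    rw [← oz, ← (MulAut.conj g).orderOf_eq]
    exact orderOf_dvd_natCard _ ⟨fun a ha => (hg a ha).symm.eq, z, zK, rfl⟩

/-- a perfect central extension of an alternating group with an involution but no element of order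
three in the kernel -/
theorem dc_of_perfect [Finite G] {α : Type} [DecidableEq α] [Fintype α] (h4 : 4 ≤ Fintype.card α)
    {ρ : G →* Perm α} (h : Cen ρ) (hp : commutator G = ⊤) (h3 : ∀ w, ρ w = 1 → w ^ 3 = 1 → w = 1)
    {z : G} (hz : ρ z = 1) (z1 : z ≠ 1) : DC ρ z := by
  have key : ∀ (u : G) (a b c d : α), [a, b, c, d].Nodup → ρ u = swap a b * swap c d →
      ∃ x w, (x ^ 2) ^ 2 = 1 ∧ w ∈ zpowers (x ^ 2) ∧ u = w * x ∧ ρ (x ^ 2) = 1 ∧
        ∀ w, ρ w = 1 → w ∈ zpowers (x ^ 2) := fun u a b c d h1 hu => by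
    simp only [List.nodup_cons, List.mem_cons, List.not_mem_nil, or_false, not_or] at h1
    obtain ⟨⟨e1, e2, e3⟩, ⟨e4, e5⟩, e6, -⟩ := h1
    obtain ⟨x, y, h2, h3, -, h7, L, h4, h5⟩ := h.carm h3 e2 (Ne.symm e1) e4 (Ne.symm e3) (Ne.symm e6) e5
    obtain ⟨w, -, h6, e⟩ := h.exists_eq (x := u) (y := x * y)
      (by rw [map_mul, h2, h3, c3_mul_c3 e2 (Ne.symm e1) e4 (Ne.symm e3) (Ne.symm e6) e5, hu])
    have h8 : ∀ w, w ∈ L := fun w => h.commutator_le h4 (hp ▸ mem_top w)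
    exact ⟨x * y, w, h7, h5 w (h8 w) h6, e, by
      rw [map_pow, map_mul, h2, h3, c3_pair e2 (Ne.symm e1) e4 (Ne.symm e3) (Ne.symm e6) e5],
      fun w => h5 w (h8 w)⟩
  have two : ∀ {y w : G}, y ^ 2 = 1 → w ∈ zpowers y → w = 1 ∨ w = y := fun {y w} hy ⟨m, hm⟩ => by
    have : y ^ (2 : ℤ) = 1 := by exact_mod_cast hy
    obtain ⟨k, rfl | rfl⟩ := Int.even_or_odd' m <;> simp [← hm, zpow_add, zpow_mul, this]
  obtain ⟨a, b, c, d, e1, e2, e3, e4, e5, e6⟩ := exists_four h4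
  obtain ⟨u, hu⟩ := h.surj (swap a c * swap b d) (by simp [e2.symm, e5.symm])
  obtain ⟨x, -, x1, -, -, -, x2⟩ := key u a c b d (by simp; grind) hu
  have x3 := (two x1 (x2 z hz)).resolve_left z1
  rw [← x3] at x1 x2
  refine ⟨⟨h, fun w hw => ?_⟩, z1, fun g => ⟨fun e => two x1 (x2 g e), ?_⟩, fun u a b c d h1 hu => ?_⟩
  · rcases two x1 (x2 w hw) with rfl | rfl
    exacts [one_pow 2, x1]
  · rintro (rfl | rfl)
    exacts [map_one ρ, hz]
  · obtain ⟨y, w, y1, y2, rfl, y3, y4⟩ := key u a b c d h1 hu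
    have y5 := (two y1 (y4 z hz)).resolve_left z1
    rw [← y5] at y2
    rcases two x1 y2 with rfl | rfl
    · rw [one_mul, y5]
    · rw [(show Commute w y from (mem_center_iff.1 (h.cent w hz) y).symm).mul_pow, x1, one_mul, y5]

theorem commutator_eq_top {A : Subgroup G} (hA : H44.QS A) : commutator A = ⊤ := by
  apply map_injective A.subtype_injective
  rw [commutator_def, map_commutator, ← MonoidHom.range_eq_map, range_subtype, hA.perfect]

/-- a standard component `A` with `A/Z(A) ≅ A_n`, `n ≥ 8`, and centre of even order -/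
theorem exists_SA' [Finite G] (h8 : 8 ≤ n) {A : Subgroup G} (hA : IsStandardSubgroup A)
    (hZ : Even (Nat.card (center A))) (e : A ⧸ center A ≃* alternatingGroup (Fin n)) :
    ∃ (z : G) (π : G → Perm (Fin n)), SA z A π := by
  obtain ⟨ρ, h, h1⟩ := cen_of_equiv le_rfl e
  have hp := commutator_eq_top (H46.standard_qs hA)
  obtain ⟨L, hL⟩ := h.exists_cov (by simpa using h8)
  have h2 : ∀ w, w ∈ L := fun w => h.commutator_le (fun σ hσ => by
    obtain ⟨g, hg⟩ := hL.surj σ hσ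
    exact ⟨g, g.2, hg⟩) (hp ▸ mem_top w)
  have : Fact (Nat.Prime 2) := ⟨Nat.prime_two⟩
  obtain ⟨z, hz⟩ := exists_prime_orderOf_dvd_card' 2 hZ.two_dvd
  obtain ⟨π, hπ⟩ := exists_SA (by omega) (by omega) hA (dc_of_perfect (by simp; omega) h hp
    (fun w h3 h4 => congrArg Subtype.val (hL.three ⟨w, h2 w⟩ h3 (Subtype.ext h4)))
    ((h1 z).2 z.2) fun e => by simp [show z = 1 from Subtype.ext e] at hz)
  exact ⟨_, π, hπ⟩

/-- in a simple group a standard component `2.A_n`, `n ≥ 8`, is an involution centraliser -/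
theorem cent_of_standard [Finite G] [IsSimpleGroup G] (hG : ¬ IsMulCommutative G) (h8 : 8 ≤ n)
    {A : Subgroup G} (hA : IsStandardSubgroup A)
    (h : IsNonsplitDoubleCover A (alternatingGroup (Fin n))) :
    ∃ z : G, orderOf z = 2 ∧ IsNonsplitDoubleCover (centralizer {z}) (alternatingGroup (Fin n)) := by
  obtain ⟨e⟩ := h.2.1
  obtain ⟨z, π, s⟩ := exists_SA' h8 hA (h.1 ▸ even_two) e
  exact ⟨z, s.ord, s.cent_eq (by simpa using h8) hG ▸ h⟩

theorem cent_sup_ne_top [Finite G] [IsSimpleGroup G] (hG : ¬ IsMulCommutative G) {z : G}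
    (hz : orderOf z = 2) : centralizer {z} ⊔ oddCore G ≠ ⊤ := fun e => by
  rcases (pPrimeCore_normal 2 G).eq_bot_or_eq_top with e1 | e1
  · rw [show oddCore G = ⊥ from e1, sup_bot_eq] at e
    have h1 : z ∈ center G := mem_center_iff.2 fun g =>
      mem_centralizer_singleton_iff.1 (e.ge (mem_top g))
    rcases (inferInstance : (center G).Normal).eq_bot_or_eq_top with e2 | e2
    · simp [mem_bot.1 (e2 ▸ h1)] at hz
    · exact hG ⟨⟨fun a b => mem_center_iff.1 (e2 ▸ mem_top b) a⟩⟩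
  · have := (H44.pPrimeCore_coprime (p := 2) (G := G)).coprime_dvd_left
      (orderOf_dvd_natCard _ (e1 ▸ mem_top z))
    rw [hz] at this
    exact absurd this (by decide)

end Cfsg.Agent.STD
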