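import Cfsg.Agent.H14.Local
import Cfsg.Agent.CONW.C3Defs

/-! `Sp₆(2)` on 28 points: classes and elements of order three centralising an involution
(generated by tools_h47/sp6c.py). -/

set_option autoImplicit false
set_option maxRecDepth 100000

namespace Cfsg.Agent.STD.Sp6

open Cfsg.Agent.H14 Cfsg.Agent.H78

def E : Enc (Fin 28) (nat_lit 28) (nat_lit 5) (nat_lit 32) := finEnc 28 5 32 rfl (by decide)

def LQ : List ℕ := [nat_lit 0xdeb38bdab49ca307b9ac5a928398a418820, nat_lit 0xdaa206348598b2839ad75e8307ba951c938, nat_lit 0xda640291ac5e45039ab4987487baf61c558, nat_lit 0x195b84c64a5d6c83bb219d2f079b42d9180, nat_lit 0x191989293145e8b7983985ab33b85ad95a0, nat_lit 0x592f8c85521d18879931dd5b03b85a996c0, nat_lit 0x9d32e65a5add62f861b7194274014259126, nat_lit 0x976f5de884c26a3e983b4a35c11c269b20, nat_lit 0xcb827b2d158a932c146dbc27478b4661360]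
def LG : List ℕ := [nat_lit 0xdaa206348598b2839ad75e8307ba951c938, nat_lit 0xda640291ac5e45039ab4987487baf61c558, nat_lit 0x195b84c64a5d6c83bb219d2f079b42d9180, nat_lit 0x191989293145e8b7983985ab33b85ad95a0, nat_lit 0x592f8c85521d18879931dd5b03b85a996c0, nat_lit 0x9d32e65a5add62f861b7194274014259126, nat_lit 0x976f5de884c26a3e983b4a35c11c269b20]
def certL0 : Lev := ⟨nat_lit 0, nat_lit 0xfffffff, (.node (nat_lit 14) (.node (nat_lit 7) (.node (nat_lit 3) (.node (nat_lit 1) (.leaf (nat_lit 0xdeb38bdab49ca307b9ac5a928398a418820)) (.node (nat_lit 2) (.leaf (nat_lit 0x4c55226183b4eb0138fa0e5e6a21776ec05)) (.leaf (nat_lit 0x4aa701b3470bf65452ebb563270b0468326)))) (.node (nat_lit 5) (.node (nat_lit 4) (.leaf (nat_lit 0x7c0aa5dd830cf69d1d146c7362604e048d5)) (.leaf (nat_lit 0x6e2f08edf5b69927527909c654094049166))) (.node (nat_lit 6) (.leaf (nat_lit 0xea681dd4f49f748158b6932234815b622e)) (.leaf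 (nat_lit 0x9d32e65a5add62f861b7194274014259126))))) (.node (nat_lit 10) (.node (nat_lit 8) (.leaf (nat_lit 0x4d3675b0b00a27a7aae368b24054d2b3a38)) (.node (nat_lit 9) (.leaf (nat_lit 0xc36a1b1144966fd1eebb1a202604e6cb35)) (.leaf (nat_lit 0xa8d2e0e172516d9444ed24c173305bd51f0)))) (.node (nat_lit 12) (.node (nat_lit 11) (.leaf (nat_lit 0x4be655dcfa0ab70a2183b0226138986d732)) (.leaf (nat_lit 0x6a0759433b7ac5621e3305dc9d60a60d18a))) (.node (nat_lit 13) (.leaf (nat_lit 0xb3067d7336acf2751404df4540b71b0c90)) (.leaf (nat_lit 0x6ac90abf710b3457500ab0cf240b334df06)))))) (.node (nat_lit 21) (.node (nat_lit 17) (.node (nat_lit 15) (.leaf (nat_lit 0x99626bb44ad9327402cc1d12f863525d42e)) (.node (nat_lit 16) (.leaf (nat_lit 0x48a781de460bb640558b6d23a7aa05b2327)) (.leaf (nat_lit 0x9a755ddc24cb6026183b432fd1e886962a)))) (.node (nat_lit 19) (.node (nat_lit 18) (.leaf (nat_lit 0x4c5e6c12ebb4c0570b470e5524506c6eeb0))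 (.leaf (nat_lit 0x4d7665dc980827270983b2b25450fa6be30))) (.node (nat_lit 20) (.leaf (nat_lit 0x6b96a29a3300e96d633b7b10921e5008af5)) (.leaf (nat_lit 0x936e5b2a04e26234ae36ea34815eab1f28))))) (.node (nat_lit 24) (.node (nat_lit 22) (.leaf (nat_lit 0x69d86ccc0ab12e540b710e172752af4e870)) (.node (nat_lit 23) (.leaf (nat_lit 0x68f46502790dc92409f5b2f057523b4b0f0)) (.leaf (nat_lit 0xe4ee0558b6cf143494f4c74281477b6c88)))) (.node (nat_lit 26) (.node (nat_lit 25) (.leaf (nat_lit 0xdaa206348598b2839ad75e8307ba951c938)) (.leaf (nat_lit 0x4e4103e983b6df2450980c6a5709776cd46))) (.node (nat_lit 27) (.leaf (nat_lit 0xb0188cece46aae2316714bc7484b580d56e)) (.leaf (nat_lit 0x4d78d986e6c69ab2b250cae44d5827c107)))))))⟩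
def certC0 : LevCert := ⟨certL0,
    [(nat_lit 24, nat_lit 0), (nat_lit 6, nat_lit 5), (nat_lit 14, nat_lit 5), (nat_lit 7, nat_lit 6), (nat_lit 2, nat_lit 6), (nat_lit 5, nat_lit 6), (nat_lit 15, nat_lit 0), (nat_lit 8, nat_lit 5), (nat_lit 18, nat_lit 0), (nat_lit 17, nat_lit 1), (nat_lit 4, nat_lit 2), (nat_lit 20, nat_lit 0), (nat_lit 23, nat_lit 1), (nat_lit 26, nat_lit 2), (nat_lit 10, nat_lit 5), (nat_lit 16, nat_lit 5), (nat_lit 19, nat_lit 3), (nat_lit 25, nat_lit 1), (nat_lit 21, nat_lit 2), (nat_lit 22, nat_lit 2), (nat_lit 12, nat_lit 4), (nat_lit 9, nat_lit 6), (nat_lit 1, nat_lit 1), (nat_lit 11, nat_lit 3), (nat_lit 3, nat_lit 4), (nat_lit 27, nat_lit 5), (nat_lit 13, nat_lit 2)],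
    [[nat_lit 0, nat_lit 10, nat_lit 12, nat_lit 4, nat_lit 10, nat_lit 12, nat_lit 8, nat_lit 0, nat_lit 4, nat_lit 12, nat_lit 12, nat_lit 6, nat_lit 10], [nat_lit 12, nat_lit 14, nat_lit 6, nat_lit 8, nat_lit 14, nat_lit 10, nat_lit 2, nat_lit 10, nat_lit 12, nat_lit 6, nat_lit 14]],
    [nat_lit 0xc59276a835c8d128956e64374b8a6679340, nat_lit 0x688fb9d6d0921711932f4d2eac30c12bb40]⟩
def certL1 : Lev := ⟨nat_lit 1, nat_lit 0xffffffe, (.node (nat_lit 14) (.node (nat_lit 7) (.node (nat_lit 4) (.node (nat_lit 2) (.leaf (nat_lit 0xdeb38bdab49ca307b9ac5a928398a418820)) (.node (nat_lit 3) (.leaf (nat_lit 0xdd6f8cd35639548599247c5b09ba4c18440)) (.leaf (nat_lit 0x6ca6f1c450b23643d72b496fac28d40b980)))) (.node (nat_lit 5) (.leaf (nat_lit 0x688fb9d6d0921711932f4d2eac30c12bb40)) (.node (nat_lit 6) (.leaf (nat_lit 0x7b338b8a251d8905b9aade928998353ca80)) (.leaf (nat_lit 0xc51b34c45ab8e05549e622376c84ee5b2a0)))))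 (.node (nat_lit 10) (.node (nat_lit 8) (.leaf (nat_lit 0xc5a2e6d732bcdfa6537049d650a86830880)) (.node (nat_lit 9) (.leaf (nat_lit 0xbc30d64adadc6afa65d328ce15992440940)) (.leaf (nat_lit 0x6a9cb1cac7d3f6c98ae689435c2519a4080)))) (.node (nat_lit 12) (.node (nat_lit 11) (.leaf (nat_lit 0x619a74ea037d5d488b68c0572b9496ccd40)) (.leaf (nat_lit 0xdc332badc299626a206c0a9b53eb044bec0))) (.node (nat_lit 13) (.leaf (nat_lit 0x6da7b3c055c1a8a4b2e11af319110f2e9c0)) (.leaf (nat_lit 0x92da71aaceca6a58e02861b62bbe7aa1200)))))) (.node (nat_lit 21) (.node (nat_lit 17) (.node (nat_lit 15) (.leaf (nat_lit 0xcbb0d95ab14292b284e3bc274dbd9a31040)) (.node (nat_lit 16) (.leaf (nat_lit 0x58eec2be0a3d3480ee69cc5b671302a9a40)) (.leaf (nat_lit 0x2918dc287146a61a18f5bd9cf5e450da640)))) (.node (nat_lit 19) (.node (nat_lit 18) (.leaf (nat_lit 0x6c8eb70d56c2031aa4b99befa60b66a1200)) (.leaf (nat_lit 0x70977dda4f884b5413143e9836ccca4e600)))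 (.node (nat_lit 20) (.leaf (nat_lit 0xc65ae8cad508ce54a96863f7abd27031040)) (.leaf (nat_lit 0x3ab775c3414be8344d8574b156932289ac0))))) (.node (nat_lit 24) (.node (nat_lit 22) (.leaf (nat_lit 0xc59276a835c8d128956e64374b8a6679340)) (.node (nat_lit 23) (.leaf (nat_lit 0x592f8c85521d18879931dd5b03b85a996c0)) (.leaf (nat_lit 0x592f80da451e987341a9dd62f722829ab20)))) (.node (nat_lit 26) (.node (nat_lit 25) (.leaf (nat_lit 0x6e0e14aad511b6c9c2f41972e9450b7e880)) (.leaf (nat_lit 0xd8838be6ba9952f3222c5c9a7741441d2c0))) (.node (nat_lit 27) (.leaf (nat_lit 0xc05a74d6cabce1460b668a172c946e7e880)) (.leaf (nat_lit 0x92f2cd94548995a69b1db8663a1f09e160)))))))⟩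
def certC1 : LevCert := ⟨certL1,
    [(nat_lit 21, nat_lit 0), (nat_lit 4, nat_lit 1), (nat_lit 20, nat_lit 0), (nat_lit 22, nat_lit 1), (nat_lit 2, nat_lit 0), (nat_lit 14, nat_lit 1), (nat_lit 8, nat_lit 0), (nat_lit 10, nat_lit 1), (nat_lit 26, nat_lit 0), (nat_lit 6, nat_lit 0), (nat_lit 12, nat_lit 0), (nat_lit 17, nat_lit 0), (nat_lit 18, nat_lit 1), (nat_lit 5, nat_lit 1), (nat_lit 11, nat_lit 0), (nat_lit 15, nat_lit 0), (nat_lit 16, nat_lit 1), (nat_lit 19, nat_lit 1), (nat_lit 3, nat_lit 1), (nat_lit 13, nat_lit 0), (nat_lit 23, nat_lit 1), (nat_lit 27, nat_lit 1), (nat_lit 7, nat_lit 0), (nat_lit 9, nat_lit 1), (nat_lit 24, nat_lit 1), (nat_lit 25, nat_lit 1)],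
    [[nat_lit 2, nat_lit 0, nat_lit 2, nat_lit 2], [nat_lit 2, nat_lit 2, nat_lit 2, nat_lit 4, nat_lit 2, nat_lit 2, nat_lit 2, nat_lit 2, nat_lit 2]],
    [nat_lit 0xb9b092d34a845af90a63ca0f6dac9573020, nat_lit 0x3a774322ba6bc4383a2c5971622af994c20]⟩
def certL2 : Lev := ⟨nat_lit 2, nat_lit 0xff00c, (.node (nat_lit 15) (.node (nat_lit 12) (.node (nat_lit 3) (.leaf (nat_lit 0xdeb38bdab49ca307b9ac5a928398a418820)) (.leaf (nat_lit 0x2ad27228c87b6728b20ec5b74be6ba10c20))) (.node (nat_lit 13) (.leaf (nat_lit 0x264fbaa17694e1168de24d2ea2e34663820)) (.node (nat_lit 14) (.leaf (nat_lit 0x260fa55aa98c2721b84c5de88c94db7b420)) (.leaf (nat_lit 0xb9b092d34a845af90a63ca0f6dac9573020))))) (.node (nat_lit 17) (.node (nat_lit 16) (.leaf (nat_lit 0xbaf04c9556845af1306ea20fa36ea99c820)) (.leaf (nat_lit 0xbeca8cd0cb844629326ec54ead58896bc20))) (.node (nat_lit 18) (.leaf (nat_lit 0x3a774322ba6bc4383a2c5971622af994c20))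 (.node (nat_lit 19) (.leaf (nat_lit 0x32a98be92518a307cdb2dd8883af3573020)) (.leaf (nat_lit 0xcd0892a2b810daf93a6c59b56ddd4784420))))))⟩
def certC2 : LevCert := ⟨certL2,
    [(nat_lit 14, nat_lit 0), (nat_lit 17, nat_lit 1), (nat_lit 3, nat_lit 0), (nat_lit 18, nat_lit 0), (nat_lit 13, nat_lit 1), (nat_lit 12, nat_lit 0), (nat_lit 16, nat_lit 1), (nat_lit 15, nat_lit 0), (nat_lit 19, nat_lit 1)],
    [[nat_lit 0, nat_lit 2, nat_lit 0, nat_lit 0, nat_lit 2, nat_lit 0, nat_lit 2, nat_lit 0, nat_lit 0, nat_lit 0, nat_lit 0, nat_lit 2], [nat_lit 2, nat_lit 2, nat_lit 4, nat_lit 4, nat_lit 4, nat_lit 2, nat_lit 4, nat_lit 4, nat_lit 2, nat_lit 4, nat_lit 2]],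
    [nat_lit 0xa6376ae6fa63a119be4d411462a4eb18820, nat_lit 0xd52d9c5f759c9cc6c1f1515073248b18820]⟩
def certL3 : Lev := ⟨nat_lit 4, nat_lit 0xff0, (.node (nat_lit 8) (.node (nat_lit 6) (.node (nat_lit 5) (.leaf (nat_lit 0xdeb38bdab49ca307b9ac5a928398a418820)) (.leaf (nat_lit 0xd52d9c5f759c9cc6c1f1515073248b18820))) (.node (nat_lit 7) (.leaf (nat_lit 0xc675bad2f694e116b1ee4a16a290e618820)) (.leaf (nat_lit 0xae757ddb148c18e9b64f3aca9220ca18820)))) (.node (nat_lit 10) (.node (nat_lit 9) (.leaf (nat_lit 0xcd2dabeeb88c1af93a6c599244154718820)) (.leaf (nat_lit 0xd5a99beeb86be3064dd232c893a8a818820))) (.node (nat_lit 11) (.leaf (nat_lit 0xa6376ae6fa63a119be4d411462a4eb18820)) (.leaf (nat_lit 0xc6b3bb5697639ed9467021cc54a96818820)))))⟩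
def certC3 : LevCert := ⟨certL3,
    [(nat_lit 10, nat_lit 0), (nat_lit 5, nat_lit 1), (nat_lit 9, nat_lit 0), (nat_lit 11, nat_lit 1), (nat_lit 7, nat_lit 0), (nat_lit 6, nat_lit 0), (nat_lit 8, nat_lit 1)],
    [[nat_lit 0, nat_lit 2, nat_lit 0], [nat_lit 4, nat_lit 2, nat_lit 4, nat_lit 4, nat_lit 2, nat_lit 2, nat_lit 2, nat_lit 4]],
    [nat_lit 0xbef15a66da845af649d32a0ea5992418820, nat_lit 0xddeb8a66da845af9ba4c415475992418820]⟩
def certL4 : Lev := ⟨nat_lit 8, nat_lit 0xfa0, (.node (nat_lit 9) (.node (nat_lit 7) (.leaf (nat_lit 0xd5eb9ddb1463a309b64f3aca95190418820)) (.node (nat_lit 8) (.leaf (nat_lit 0xa6f16d57377b653645d049d654194418820)) (.leaf (nat_lit 0xdeb38bdab49ca307b9ac5a928398a418820)))) (.node (nat_lit 10) (.leaf (nat_lit 0xbd2d5d633b7b5cc84a335250b298e418820)) (.node (nat_lit 11) (.leaf (nat_lit 0xbef15a66da845af649d32a0ea5992418820)) (.leaf (nat_lit 0xddeb8a66da845af9ba4c415475992418820)))))⟩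
def certC4 : LevCert := ⟨certL4,
    [(nat_lit 10, nat_lit 0), (nat_lit 11, nat_lit 1), (nat_lit 9, nat_lit 1), (nat_lit 7, nat_lit 0), (nat_lit 5, nat_lit 0)],
    [[nat_lit 2, nat_lit 0, nat_lit 2], [nat_lit 2, nat_lit 2]],
    [nat_lit 0xa6b36be2bb9c9cc7c5b02a8e84996418820, nat_lit 0xa5eb6d633b7b5cc9c6504a968298e418820]⟩
def certL5 : Lev := ⟨nat_lit 5, nat_lit 0xaa0, (.node (nat_lit 9) (.node (nat_lit 7) (.leaf (nat_lit 0xdeb38bdab49ca307b9ac5a928398a418820)) (.leaf (nat_lit 0xa5eb6d633b7b5cc9c6504a968298e418820))) (.node (nat_lit 11) (.leaf (nat_lit 0xddeb8d5b347b6309ba4c3a8a85992418820)) (.leaf (nat_lit 0xa6b36be2bb9c9cc7c5b02a8e84996418820))))⟩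
def certC5 : LevCert := ⟨certL5,
    [(nat_lit 11, nat_lit 0), (nat_lit 7, nat_lit 1), (nat_lit 9, nat_lit 1)],
    [],
    []⟩
def cert : List LevCert := [certC0, certC1, certC2, certC3, certC4, certC5]
def certL : List Lev := [certL0, certL1, certL2, certL3, certL4, certL5]
def c0 : Cls := ⟨nat_lit 0xdeb38bdab49ca307b9ac5a928398a418820, 1451520, [nat_lit 0xfffffff, nat_lit 0xffffffe, nat_lit 0xff00c, nat_lit 0xff0, nat_lit 0xfa0, nat_lit 0xaa0]⟩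
def c1 : Cls := ⟨nat_lit 0xdeb38bdab494e116b1ee5a928398a410c01, 23040, [nat_lit 0xff00f, nat_lit 2, nat_lit 0xff00c, nat_lit 0xff0, nat_lit 0xfa0, nat_lit 0xaa0]⟩
def c2 : Cls := ⟨nat_lit 0xb5eb4d6f389ca117b1ae398a45a92810c01, 4608, [nat_lit 0xff35fff, nat_lit 2, nat_lit 0x3500c, nat_lit 0xff0, nat_lit 256, nat_lit 0xaa0]⟩
def c3 : Cls := ⟨nat_lit 0x9373575b1166e907df5359d2550d0130880, 1536, [nat_lit 0x2418a05, nat_lit 0x53a35fa, nat_lit 0x18004, nat_lit 16, nat_lit 0x5a0, nat_lit 32]⟩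
def c4 : Cls := ⟨nat_lit 0xdda98aeaf95a4a7419449b64f83a2c18440, 384, [nat_lit 0x9000009, nat_lit 0xac5a56, nat_lit 4, nat_lit 0xa50, nat_lit 384, nat_lit 32]⟩
def c5 : Cls := ⟨nat_lit 0x7377a85ab38de927e70c5a92820cc1288e0, 2160, [nat_lit 0x609f05, nat_lit 0xf9f60fa, nat_lit 0x9004, nat_lit 16, nat_lit 0xf00, nat_lit 32]⟩
def c6 : Cls := ⟨nat_lit 0x34ee286a8fb20f9ab9615362548e58d900c, 648, [nat_lit 0xfffbfff, nat_lit 2, nat_lit 0xfa00c, nat_lit 16, nat_lit 0x980, nat_lit 32]⟩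
def c7 : Cls := ⟨nat_lit 0x4a14b21cc5a5af5c6b797b1ae9427118041, 108, [nat_lit 0x5c00a7, nat_lit 2, nat_lit 4, nat_lit 0xf50, nat_lit 768, nat_lit 32]⟩
def c8 : Cls := ⟨nat_lit 0x8bdb09b24ed6696beeb8591263a8a800c41, 384, [nat_lit 0xffff55f, nat_lit 2, nat_lit 4, nat_lit 0x550, nat_lit 256, nat_lit 0xaa0]⟩
def c9 : Cls := ⟨nat_lit 0x44b236b2b44cf02291ee5c74039af654361, 192, [nat_lit 0xcccf333, nat_lit 2, nat_lit 0x10004, nat_lit 560, nat_lit 256, nat_lit 544]⟩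
def c10 : Cls := ⟨nat_lit 0xbda95d6f389ca117358f31c855a92810c01, 192, [nat_lit 0x3000f, nat_lit 2, nat_lit 0x3000c, nat_lit 0xff0, nat_lit 256, nat_lit 32]⟩
def c11 : Cls := ⟨nat_lit 0xbd8a452f3818a117358f31eb4de92894c01, 128, [nat_lit 0x30003, nat_lit 2, nat_lit 0xcf00c, nat_lit 0xc30, nat_lit 256, nat_lit 32]⟩
def c12 : Cls := ⟨nat_lit 0xc5a2e936b908d0a2a4eb64374d5df331040, 32, [nat_lit 0x200001, nat_lit 0x9084216, nat_lit 4, nat_lit 16, nat_lit 384, nat_lit 32]⟩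
def c13 : Cls := ⟨nat_lit 0x8c94931dee1831bbdab45a213634a4ce841, 30, [nat_lit 0x4040007, nat_lit 2, nat_lit 4, nat_lit 0x830, nat_lit 256, nat_lit 0x820]⟩
def c14 : Cls := ⟨nat_lit 0x60cfa8dab2829331130e5de88cb4c02bf61, 144, [nat_lit 0xd96767b, nat_lit 2, nat_lit 0x98004, nat_lit 16, nat_lit 0x900, nat_lit 32]⟩
def c15 : Cls := ⟨nat_lit 0x765b895ab14292b19c2585e93dbd9a31040, 144, [nat_lit 0x1600001, nat_lit 0x6002016, nat_lit 4, nat_lit 16, nat_lit 0x920, nat_lit 0x820]⟩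
def c16 : Cls := ⟨nat_lit 0x3496c89d0da5b3ab82a353e054ba64c6c41, 72, [nat_lit 0xeffefe7, nat_lit 2, nat_lit 4, nat_lit 16, nat_lit 0x980, nat_lit 32]⟩
def c17 : Cls := ⟨nat_lit 0x125602a0ea7e6d09b2b86d35193afb190c1, 48, [nat_lit 0x32478c3, nat_lit 2, nat_lit 0x20004, nat_lit 16, nat_lit 256, nat_lit 544]⟩
def c18 : Cls := ⟨nat_lit 0x6c8a971910628919acefbeab9d8f00b0a81, 36, [nat_lit 0x3330333, nat_lit 2, nat_lit 4, nat_lit 16, nat_lit 800, nat_lit 32]⟩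
def c19 : Cls := ⟨nat_lit 0x664459ad10aa93679c188de92d8dc6d11a1, 36, [nat_lit 0x2003, nat_lit 2, nat_lit 12, nat_lit 16, nat_lit 0x920, nat_lit 0x820]⟩
def c20 : Cls := ⟨nat_lit 0x9a9878ac8fc6eb71e41a699302ba48a5841, 12, [nat_lit 0x402807, nat_lit 2, nat_lit 4, nat_lit 0x410, nat_lit 256, nat_lit 32]⟩
def c21 : Cls := ⟨nat_lit 0x744ab9b4cad6403c5376830e993c88adc41, 7, [nat_lit 0x48a0007, nat_lit 2, nat_lit 4, nat_lit 16, nat_lit 256, nat_lit 32]⟩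
def c22 : Cls := ⟨nat_lit 0x9c6127b1aebd696c677a21cc55a92800c41, 16, [nat_lit 15, nat_lit 2, nat_lit 4, nat_lit 240, nat_lit 256, nat_lit 32]⟩
def c23 : Cls := ⟨nat_lit 0x558dbd1d779c9af709834d7252628884401, 16, [nat_lit 3, nat_lit 2, nat_lit 0x3f00c, nat_lit 16, nat_lit 256, nat_lit 32]⟩
def c24 : Cls := ⟨nat_lit 0x9bd678b08ac6c03be6ba6c925838c8a5841, 9, [nat_lit 0x4c29007, nat_lit 2, nat_lit 4, nat_lit 16, nat_lit 256, nat_lit 32]⟩
def c25 : Cls := ⟨nat_lit 0xc51f2d3a15cc597b4dbb51904280e258d21, 10, [nat_lit 0xf5f, nat_lit 2, nat_lit 4, nat_lit 16, nat_lit 256, nat_lit 32]⟩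
def c26 : Cls := ⟨nat_lit 0x53d6c3c664c6f3a05c7534a057250da5841, 24, [nat_lit 0x6438a47, nat_lit 2, nat_lit 4, nat_lit 16, nat_lit 288, nat_lit 32]⟩
def c27 : Cls := ⟨nat_lit 0xd9aa9a04f3c42ed53056c946e5be24d4808, 24, [nat_lit 0x405103, nat_lit 2, nat_lit 0x52004, nat_lit 16, nat_lit 256, nat_lit 32]⟩
def c28 : Cls := ⟨nat_lit 0xac76fa4dd92196909c65d32566e2f052040, 12, [nat_lit 1, nat_lit 0x14d8356, nat_lit 4, nat_lit 16, nat_lit 256, nat_lit 32]⟩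
def c29 : Cls := ⟨nat_lit 0x53d6c89c93c6f3ab82a334a054b9a8a5841, 15, [nat_lit 0x6c3cac7, nat_lit 2, nat_lit 4, nat_lit 16, nat_lit 256, nat_lit 32]⟩
def cl : List Cls := [c0, c1, c2, c3, c4, c5, c6, c7, c8, c9, c10, c11, c12, c13, c14, c15, c16, c17, c18, c19, c20, c21, c22, c23, c24, c25, c26, c27, c28, c29]
def g1 : List ℕ := [nat_lit 0x4ed1a25ec5639ed04c32a98f45e32a10e11, nat_lit 0xb1ee6dad5a7b5cc1cc524e328a149500611]
def z1L0 : Lev := ⟨nat_lit 0, nat_lit 0xff00f, (.node (nat_lit 14) (.node (nat_lit 3) (.node (nat_lit 1) (.leaf (nat_lit 0xdeb38bdab49ca307b9ac5a928398a418820)) (.node (nat_lit 2) (.leaf (nat_lit 0x222db3af35844627cdb251a982a75773001)) (.leaf (nat_lit 0xcd907aed6494c628be0d5169a49af80818e)))) (.node (nat_lit 12) (.leaf (nat_lit 0xb1ee6dad5a7b5cc1cc524e328a149500611)) (.node (nat_lit 13) (.leaf (nat_lit 0x39548cead463a72104604acc4adf78845af)) (.leaf (nat_lit 0xda6a6ca8b68c1ed0c813a1d1a25f0b73043)))))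 (.node (nat_lit 17) (.node (nat_lit 15) (.leaf (nat_lit 0x45e8bb26aa73043781a1364bb3e09a84653)) (.node (nat_lit 16) (.leaf (nat_lit 0x4ed1a25ec5639ed04c32a98f45e32a10e11)) (.leaf (nat_lit 0x46f495e5589c8201c4502dc96a1aa7639af)))) (.node (nat_lit 18) (.leaf (nat_lit 0x3a69b512f994c018b20eb6165ae906189af)) (.node (nat_lit 19) (.leaf (nat_lit 0x2a377d5924081ed9ba4cae0ea32e998c062)) (.leaf (nat_lit 0xbac984d4db006721306e3e9142e5568c1af))))))⟩
def z1C0 : LevCert := ⟨z1L0,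
    [(nat_lit 15, nat_lit 0), (nat_lit 3, nat_lit 1), (nat_lit 17, nat_lit 0), (nat_lit 19, nat_lit 1), (nat_lit 2, nat_lit 0), (nat_lit 14, nat_lit 0), (nat_lit 13, nat_lit 1), (nat_lit 18, nat_lit 0), (nat_lit 16, nat_lit 0), (nat_lit 12, nat_lit 0), (nat_lit 1, nat_lit 0)],
    [[nat_lit 0, nat_lit 2, nat_lit 0, nat_lit 0, nat_lit 0, nat_lit 0, nat_lit 0, nat_lit 2, nat_lit 2], [nat_lit 2, nat_lit 4, nat_lit 2, nat_lit 4, nat_lit 4]],
    [nat_lit 0xd2aa4c24f6845cc14c72a157b35f287b420, nat_lit 0x3290449567845cc9be4da62dbbeab910c20]⟩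
def z1L1 : Lev := ⟨nat_lit 2, nat_lit 0xff00c, (.node (nat_lit 15) (.node (nat_lit 12) (.node (nat_lit 3) (.leaf (nat_lit 0xdeb38bdab49ca307b9ac5a928398a418820)) (.leaf (nat_lit 0x3290449567845cc9be4da62dbbeab910c20))) (.node (nat_lit 13) (.leaf (nat_lit 0x4d4dba20fa6be1160dc22e6ca262eb94c20)) (.node (nat_lit 14) (.leaf (nat_lit 0x5617925ae5639ed1c0513d686d251b9c820)) (.leaf (nat_lit 0xb97685e68663a7280a23b113ac28f56bc20))))) (.node (nat_lit 17) (.node (nat_lit 16) (.leaf (nat_lit 0xd2aa4c24f6845cc14c72a157b35f287b420)) (.leaf (nat_lit 0xae4ebdd8888c0629b64fd5ca9c50ca63820))) (.node (nat_lit 18) (.leaf (nat_lit 0x292954271994c437b1ae31ed752f7a84420)) (.node (nat_lit 19) (.leaf (nat_lit 0x21f1aad9491898e8ca13cecc55a2977b420)) (.leaf (nat_lit 0xcdc8a5971610daf7459041b55a6ce99c820))))))⟩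
def z1C1 : LevCert := ⟨z1L1,
    [(nat_lit 15, nat_lit 0), (nat_lit 3, nat_lit 1), (nat_lit 14, nat_lit 1), (nat_lit 13, nat_lit 0), (nat_lit 17, nat_lit 0), (nat_lit 12, nat_lit 1), (nat_lit 18, nat_lit 0), (nat_lit 16, nat_lit 0), (nat_lit 19, nat_lit 0)],
    [[nat_lit 0, nat_lit 2, nat_lit 0, nat_lit 2, nat_lit 2, nat_lit 0, nat_lit 2, nat_lit 2], [nat_lit 4, nat_lit 2, nat_lit 2, nat_lit 4, nat_lit 4]],
    [nat_lit 0xd5eb9ddb1463a309b64f3aca95190418820, nat_lit 0xaef17a6ad9732538b60f499643a0aa18820]⟩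
def z1L2 : Lev := ⟨nat_lit 4, nat_lit 0xff0, (.node (nat_lit 8) (.node (nat_lit 6) (.node (nat_lit 5) (.leaf (nat_lit 0xdeb38bdab49ca307b9ac5a928398a418820)) (.leaf (nat_lit 0xdd2d8aeaf97b653741913a4ab3208a18820))) (.node (nat_lit 7) (.leaf (nat_lit 0xb56f4cef586bd8e942715a12a390a618820)) (.leaf (nat_lit 0xb6374d573794ded83a2c3a4ab228c818820)))) (.node (nat_lit 10) (.node (nat_lit 9) (.leaf (nat_lit 0xaef17a6ad9732538b60f499643a0aa18820)) (.leaf (nat_lit 0xa56f6deb198c2537b1ae31c854a16a18820))) (.node (nat_lit 11) (.leaf (nat_lit 0xd5a99c5777845ed64dd2491663a8a818820)) (.leaf (nat_lit 0xc52dbcd75763a119366f220ca4956718820)))))⟩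
def z1C2 : LevCert := ⟨z1L2,
    [(nat_lit 8, nat_lit 1), (nat_lit 5, nat_lit 0), (nat_lit 6, nat_lit 1), (nat_lit 9, nat_lit 0), (nat_lit 10, nat_lit 1), (nat_lit 11, nat_lit 1), (nat_lit 7, nat_lit 0)],
    [[nat_lit 2, nat_lit 2, nat_lit 2, nat_lit 2, nat_lit 0, nat_lit 0], [nat_lit 4, nat_lit 2, nat_lit 2, nat_lit 4, nat_lit 2, nat_lit 2, nat_lit 2, nat_lit 2, nat_lit 4]],
    [nat_lit 0xbef15d5b347b630649d351d055992418820, nat_lit 0xdd2d8be6ba9c9af83a2c595274194418820]⟩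
def z1L3 : Lev := ⟨nat_lit 8, nat_lit 0xfa0, (.node (nat_lit 9) (.node (nat_lit 7) (.leaf (nat_lit 0xd5eb9ddb1463a309b64f3aca95190418820)) (.node (nat_lit 8) (.leaf (nat_lit 0xdd2d8be6ba9c9af83a2c595274194418820)) (.leaf (nat_lit 0xdeb38bdab49ca307b9ac5a928398a418820)))) (.node (nat_lit 10) (.leaf (nat_lit 0xbef15d5b347b630649d351d055992418820)) (.node (nat_lit 11) (.leaf (nat_lit 0xbef15a66da845af649d32a0ea5992418820)) (.leaf (nat_lit 0xa5eb6de71a639af9c65042d49298e418820)))))⟩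
def z1C3 : LevCert := ⟨z1L3,
    [(nat_lit 9, nat_lit 0), (nat_lit 7, nat_lit 1), (nat_lit 5, nat_lit 0), (nat_lit 10, nat_lit 0), (nat_lit 11, nat_lit 0)],
    [[nat_lit 0, nat_lit 0, nat_lit 0, nat_lit 2, nat_lit 0, nat_lit 2, nat_lit 0, nat_lit 2, nat_lit 2], [nat_lit 4, nat_lit 2, nat_lit 2, nat_lit 2, nat_lit 2, nat_lit 2, nat_lit 4, nat_lit 2, nat_lit 4]],
    [nat_lit 0xa5eb6d633b7b5cc9c6504a968298e418820, nat_lit 0xddeb8d5b347b6309ba4c3a8a85992418820]⟩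
def z1L4 : Lev := ⟨nat_lit 5, nat_lit 0xaa0, (.node (nat_lit 9) (.node (nat_lit 7) (.leaf (nat_lit 0xdeb38bdab49ca307b9ac5a928398a418820)) (.leaf (nat_lit 0xa5eb6d633b7b5cc9c6504a968298e418820))) (.node (nat_lit 11) (.leaf (nat_lit 0xddeb8d5b347b6309ba4c3a8a85992418820)) (.leaf (nat_lit 0xa6b36be2bb9c9cc7c5b02a8e84996418820))))⟩
def z1C4 : LevCert := ⟨z1L4,
    [(nat_lit 7, nat_lit 0), (nat_lit 9, nat_lit 1), (nat_lit 11, nat_lit 1)],
    [],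
    []⟩
def z1 : List LevCert := [z1C0, z1C1, z1C2, z1C3, z1C4]
def z1L : List Lev := [z1L0, z1L1, z1L2, z1L3, z1L4]
def y1 : List ℕ := [nat_lit 0xc2cb64ecf410ded0483325d593551a73211, nat_lit 0xb9768cacd463a72140714eac4a9d58081af, nat_lit 0xb1b4bc20b563a530c410b9d5b4e6846bc43, nat_lit 0x310e5de33a639af00c225a50aaded494e30, nat_lit 0xa157b3d938081ed1c8532555a35d198c18e, nat_lit 0xb688951eb810e3093a6c59a99ddca87b420, nat_lit 0xb951bc2aa76bc011c450d26c43517994d8e, nat_lit 0x52f5b39af69c8627b9acce128ad0a400611, nat_lit 0xa6b36c5f759c9cc8be0d2a8e83248b18820, nat_lit 0xc17464d2ea9ca3078da25daa83ef240058e, nat_lit 0x2eae9aaf278446270580361544589b94ded, nat_lit 0xddd0532f3410e309ba4c3ab15b69246bc20, nat_lit 0x2e93745b649c9ed0b80ca28d83e6ab18a30, nat_lit 0xaed2641f5410d8e8b60fbe08b2aad908253]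
def g2 : List ℕ := [nat_lit 0xb440686c2a9bca9965b5111d81a1943af57, nat_lit 0x48219096356ccca7ee5612dd719d9aa6104]
def z2L0 : Lev := ⟨nat_lit 0, nat_lit 0xff35fff, (.node (nat_lit 12) (.node (nat_lit 6) (.node (nat_lit 3) (.node (nat_lit 1) (.leaf (nat_lit 0xdeb38bdab49ca307b9ac5a928398a418820)) (.node (nat_lit 2) (.leaf (nat_lit 0x298875250b6bd8e9c251c6b79a5ed518801)) (.leaf (nat_lit 0xcd089c55057b46293a6c32eda51f7708211)))) (.node (nat_lit 4) (.leaf (nat_lit 0x22ebb3a3369c8627c1b1be126d50aa005cc)) (.node (nat_lit 5) (.leaf (nat_lit 0x71150430d1934eb7a665c0b61a0ec0ae6fa)) (.leaf (nat_lit 0x4c5c78158b6cd047aa46168391dc15a62db))))) (.node (nat_lit 9) (.node (nat_lit 7) (.leaf (nat_lit 0x75750cb2f16cf76951f858523380a251904)) (.node (nat_lit 8) (.leaf (nat_lit 0x40d94111d89bca9955b90aa1b01a36d5d67)) (.leaf (nat_lit 0x6228323b026cab99a5e5346c0543613aefa)))) (.node (nat_lit 10) (.leaf (nat_lit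 0xb321876e349beb995dba12808198243aca9)) (.node (nat_lit 11) (.leaf (nat_lit 0x61f435bae293edb6aa66c8130a84b1a6088)) (.leaf (nat_lit 0xa8e271660b7cb766926805dc90e98551a98)))))) (.node (nat_lit 22) (.node (nat_lit 17) (.node (nat_lit 14) (.leaf (nat_lit 0x2d959da4d56be3098640c2c97a1d1a1898e)) (.node (nat_lit 16) (.leaf (nat_lit 0xd96e84db449c98e781a15d3263e2aa18a30)) (.leaf (nat_lit 0xdd526cd8aa9c8207c1b1592f83a3541898e)))) (.node (nat_lit 20) (.leaf (nat_lit 0x492da417777b40193a6c32e9951f158c062)) (.node (nat_lit 21) (.leaf (nat_lit 0x82b61346c0937357a665c088ea0d0cd5ceb)) (.leaf (nat_lit 0x4b0377141a6cedb79248156071e62ba60ca))))) (.node (nat_lit 25) (.node (nat_lit 23) (.leaf (nat_lit 0x9883501026cb579e5f5c32d0a3b713ad25)) (.node (nat_lit 24) (.leaf (nat_lit 0xd85c405988936fa995e91620a1d22659f35)) (.leaf (nat_lit 0x75d20d30a16cd04959fb58b3038eb151b14)))) (.node (nat_lit 26) (.leaf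 (nat_lit 0xb440686c2a9bca9965b5111d81a1943af57)) (.node (nat_lit 27) (.leaf (nat_lit 0x48219096356ccca7ee5612dd719d9aa6104)) (.leaf (nat_lit 0x2730286b16ccca959fb58aee38f4ca6104)))))))⟩
def z2C0 : LevCert := ⟨z2L0,
    [(nat_lit 25, nat_lit 0), (nat_lit 26, nat_lit 1), (nat_lit 14, nat_lit 0), (nat_lit 24, nat_lit 1), (nat_lit 1, nat_lit 0), (nat_lit 4, nat_lit 1), (nat_lit 9, nat_lit 0), (nat_lit 8, nat_lit 0), (nat_lit 2, nat_lit 1), (nat_lit 21, nat_lit 0), (nat_lit 23, nat_lit 1), (nat_lit 10, nat_lit 0), (nat_lit 16, nat_lit 0), (nat_lit 27, nat_lit 1), (nat_lit 6, nat_lit 0), (nat_lit 11, nat_lit 0), (nat_lit 12, nat_lit 0), (nat_lit 20, nat_lit 1), (nat_lit 22, nat_lit 0), (nat_lit 17, nat_lit 1), (nat_lit 5, nat_lit 0), (nat_lit 3, nat_lit 1), (nat_lit 7, nat_lit 0)],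
    [[nat_lit 0, nat_lit 2, nat_lit 0, nat_lit 2, nat_lit 2, nat_lit 0], [nat_lit 2, nat_lit 2, nat_lit 2, nat_lit 4, nat_lit 2, nat_lit 2, nat_lit 4, nat_lit 2, nat_lit 4, nat_lit 4, nat_lit 4, nat_lit 2, nat_lit 2, nat_lit 2, nat_lit 4, nat_lit 2, nat_lit 4, nat_lit 2], [nat_lit 4, nat_lit 6, nat_lit 4, nat_lit 6, nat_lit 6, nat_lit 4, nat_lit 6, nat_lit 4, nat_lit 6, nat_lit 4, nat_lit 6, nat_lit 6, nat_lit 6]],
    [nat_lit 0x2a9073248b94dcc7c5b0a6ad9c5f7510c20, nat_lit 0xada97de71a6bd8e9c65042d4921cc518820, nat_lit 0x49b175169a9c8436c5f022f7541ed973020]⟩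
def z2L1 : Lev := ⟨nat_lit 5, nat_lit 0xff00ff0, (.node (nat_lit 20) (.node (nat_lit 8) (.node (nat_lit 6) (.node (nat_lit 5) (.leaf (nat_lit 0xada97de71a6bd8e9c65042d4921cc518820)) (.leaf (nat_lit 0xdeb38bdab49ca307b9ac5a928398a418820))) (.node (nat_lit 7) (.leaf (nat_lit 0xbd2d5c6b797b5cc942715250b3148718820)) (.leaf (nat_lit 0xc675bad2f694e116b1ee4a16a290e618820)))) (.node (nat_lit 10) (.node (nat_lit 9) (.leaf (nat_lit 0x5ed5ab1cd77b58e90e6225685467098c020)) (.leaf (nat_lit 0xb5ce6d6d6a94c626b9ecad0a4ce1288c020))) (.node (nat_lit 11) (.leaf (nat_lit 0xd1acb55f679c9cc689e3c1515a24998c020)) (.leaf (nat_lit 0x51efb59b566bc439326e2a2b8493348c020))))) (.node (nat_lit 24) (.node (nat_lit 22) (.node (nat_lit 21) (.leaf (nat_lit 0xca309256857b58e90a63b1cd7dad5a84420)) (.leaf (nat_lit 0x32d243a8a87b6309b24ed5b34beeb810c20))) (.node (nat_lit 23) (.leaf (nat_lit 0x49b175169a9c8436c5f022f7541ed973020))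 (.leaf (nat_lit 0x225662a0ea6be1193a6ccd356ae2fb10c20)))) (.node (nat_lit 26) (.node (nat_lit 25) (.leaf (nat_lit 0x3a14522cc99c98e6c1f1b669add71710c20)) (.leaf (nat_lit 0xa54a4ce1289c8627b1aebd8e6d6d6a84420))) (.node (nat_lit 27) (.leaf (nat_lit 0xa174a4e2e67b61198a43a917bca0f673020)) (.leaf (nat_lit 0x2a9073248b94dcc7c5b0a6ad9c5f7510c20))))))⟩
def z2C1 : LevCert := ⟨z2L1,
    [(nat_lit 27, nat_lit 0), (nat_lit 4, nat_lit 1), (nat_lit 22, nat_lit 2), (nat_lit 23, nat_lit 1), (nat_lit 9, nat_lit 2), (nat_lit 21, nat_lit 0), (nat_lit 7, nat_lit 1), (nat_lit 11, nat_lit 2), (nat_lit 26, nat_lit 1), (nat_lit 6, nat_lit 0), (nat_lit 24, nat_lit 1), (nat_lit 8, nat_lit 1), (nat_lit 20, nat_lit 0), (nat_lit 10, nat_lit 1), (nat_lit 25, nat_lit 2)],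
    [[nat_lit 0, nat_lit 4, nat_lit 2, nat_lit 4, nat_lit 4, nat_lit 2], [nat_lit 4, nat_lit 6, nat_lit 4, nat_lit 4, nat_lit 6, nat_lit 2]],
    [nat_lit 0xd9f245daa89ca30789a3ba934d18b863820, nat_lit 0xb5568cece46bc6294271bd12ad60a663820]⟩
def z2L2 : Lev := ⟨nat_lit 4, nat_lit 0x1100550, (.node (nat_lit 10) (.node (nat_lit 6) (.leaf (nat_lit 0xdeb38bdab49ca307b9ac5a928398a418820)) (.node (nat_lit 8) (.leaf (nat_lit 0xb56f4cef586bd8e942715a12a390a618820)) (.leaf (nat_lit 0xb6966becea6bc6293a6ccd124ae0a88c020)))) (.node (nat_lit 20) (.leaf (nat_lit 0xd9eea5db469c98e789a3c9134aa0b88c020)) (.node (nat_lit 24) (.leaf (nat_lit 0xb5568cece46bc6294271bd12ad60a663820)) (.leaf (nat_lit 0xd9f245daa89ca30789a3ba934d18b863820)))))⟩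
def z2C2 : LevCert := ⟨z2L2,
    [(nat_lit 24, nat_lit 0), (nat_lit 20, nat_lit 1), (nat_lit 6, nat_lit 1), (nat_lit 8, nat_lit 0), (nat_lit 10, nat_lit 1)],
    [[nat_lit 0, nat_lit 2, nat_lit 0, nat_lit 0, nat_lit 2]],
    [nat_lit 0xde96abd8e69c8627b9acce128ad0a48c020]⟩
def z2L3 : Lev := ⟨nat_lit 2, nat_lit 0x10004, (.node (nat_lit 16) (.leaf (nat_lit 0xdeb38bdab49ca307b9ac5a928398a418820)) (.leaf (nat_lit 0xde96abd8e69c8627b9acce128ad0a48c020)))⟩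
def z2C3 : LevCert := ⟨z2L3,
    [(nat_lit 16, nat_lit 0)],
    [],
    []⟩
def z2 : List LevCert := [z2C0, z2C1, z2C2, z2C3]
def z2L : List Lev := [z2L0, z2L1, z2L2, z2L3]
def y2 : List ℕ := [nat_lit 0x268f8ba1749ca30785a04daaa2ef2673062, nat_lit 0x6110a04916cafa99deb33b63532c2cd4a9, nat_lit 0x3c41782c3a93e989a1a41d5c916585b6d46, nat_lit 0x26936ba0bb9c9cc785a0aa8f8c997418a30, nat_lit 0xbba1966a359b698959fb12c0919c2532888, nat_lit 0xa8a071e62b6cf76792480dd89069c551a98, nat_lit 0x1188050d016cb359e9f7db290b3b113ad25]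
def g3 : List ℕ := [nat_lit 0x91c14b8a25d6d095b94d812c30d4d3c658f, nat_lit 0x90413741913ee89cdc8ab157841aba1bda2, nat_lit 0xb945193e980baabb6d0480d3a329b33e580]
def z3L0 : Lev := ⟨nat_lit 0, nat_lit 0x2418a05, (.node (nat_lit 15) (.node (nat_lit 9) (.node (nat_lit 2) (.leaf (nat_lit 0xdeb38bdab49ca307b9ac5a928398a418820)) (.leaf (nat_lit 0xd85e5be5063c8768388a4cc58646baa01ab))) (.node (nat_lit 11) (.leaf (nat_lit 0xdb615bbf1164a99b3b5311c0550d0132c89)) (.leaf (nat_lit 0xdaa01708986cab95dcfa046c6a206c2a66f)))) (.node (nat_lit 22) (.node (nat_lit 16) (.leaf (nat_lit 0xdb1fa725a80c8b605e6411a141d627c2d59)) (.leaf (nat_lit 0x92931bae886eca0138fac85e62606cac276))) (.node (nat_lit 25) (.leaf (nat_lit 0x93166b80750ef024ba64b6b346a2272bd50)) (.leaf (nat_lit 0x91c14b8a25d6d095b94d812c30d4d3c658f)))))⟩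
def z3C0 : LevCert := ⟨z3L0,
    [(nat_lit 25, nat_lit 0), (nat_lit 2, nat_lit 0), (nat_lit 15, nat_lit 1), (nat_lit 22, nat_lit 0), (nat_lit 9, nat_lit 0), (nat_lit 11, nat_lit 1), (nat_lit 16, nat_lit 0)],
    [[nat_lit 0, nat_lit 0, nat_lit 0, nat_lit 2, nat_lit 0, nat_lit 2, nat_lit 4, nat_lit 0, nat_lit 2], [nat_lit 6], [nat_lit 6, nat_lit 6, nat_lit 4]],
    [nat_lit 0xbd2d5de71a639af84a335a12a298e418820, nat_lit 0xb945193e980baabb6d0480d3a329b33e580, nat_lit 0x961f4be62c6ee7683aba58523228c8388a0]⟩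
def z3L1 : Lev := ⟨nat_lit 1, nat_lit 0x53a35fa, (.node (nat_lit 12) (.node (nat_lit 6) (.node (nat_lit 4) (.node (nat_lit 3) (.leaf (nat_lit 0xdeb38bdab49ca307b9ac5a928398a418820)) (.leaf (nat_lit 0x70c4c9427145e8bcecc5b29353931a0bda0))) (.node (nat_lit 5) (.leaf (nat_lit 0x9373575b1166e907df5359d2550d0130880)) (.leaf (nat_lit 0x74f34d8a281dcb05c986b692469c3853ea0)))) (.node (nat_lit 8) (.node (nat_lit 7) (.leaf (nat_lit 0xb9853dc1942ba2bcc868b1d38506ad23f40)) (.leaf (nat_lit 0xdd5f176693d499685f0d5912609c6550900))) (.node (nat_lit 10) (.leaf (nat_lit 0xbb33193e98d3ab0b6e6d58d2132888388a0)) (.leaf (nat_lit 0x961f4be62c6ee7683aba58523228c8388a0))))) (.node (nat_lit 20) (.node (nat_lit 17) (.node (nat_lit 13) (.leaf (nat_lit 0x961f4b8a2526d165baa1869236a8d33e580)) (.leaf (nat_lit 0x9105575b112ee8b7dc2881d2c50e7a365a0))) (.node (nat_lit 19) (.leaf (nat_lit 0x746d890aa445c2f5ee858312798d5a365a0))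 (.leaf (nat_lit 0xb945193e980baabb6d0480d3a329b33e580)))) (.node (nat_lit 24) (.node (nat_lit 21) (.leaf (nat_lit 0xdd165bbd01ac882b3a38831279e9436e4c0)) (.leaf (nat_lit 0xbe16495825a39027eeb183526d30679e540))) (.node (nat_lit 26) (.leaf (nat_lit 0x92b21bac986eeb0138fa799311b2889d8a0)) (.leaf (nat_lit 0xb85e8dacb4c3a361489581d2c56a636e4c0))))))⟩
def z3C1 : LevCert := ⟨z3L1,
    [(nat_lit 19, nat_lit 1), (nat_lit 10, nat_lit 2), (nat_lit 12, nat_lit 0), (nat_lit 4, nat_lit 1), (nat_lit 17, nat_lit 2), (nat_lit 8, nat_lit 0), (nat_lit 6, nat_lit 1), (nat_lit 20, nat_lit 2), (nat_lit 7, nat_lit 2), (nat_lit 13, nat_lit 0), (nat_lit 24, nat_lit 1), (nat_lit 21, nat_lit 2), (nat_lit 5, nat_lit 2), (nat_lit 26, nat_lit 0), (nat_lit 3, nat_lit 1)],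
    [[nat_lit 2, nat_lit 0, nat_lit 2, nat_lit 0, nat_lit 0, nat_lit 0, nat_lit 0], [nat_lit 6, nat_lit 4, nat_lit 6, nat_lit 6]],
    [nat_lit 0xb9b28dacb463a3014873b1d3856aa46bc20, nat_lit 0xbd168de4a66386284a33b552ac68e46bc20]⟩
def z3L2 : Lev := ⟨nat_lit 2, nat_lit 0x18004, (.node (nat_lit 15) (.leaf (nat_lit 0xdeb38bdab49ca307b9ac5a928398a418820)) (.node (nat_lit 16) (.leaf (nat_lit 0xb9b28dacb463a3014873b1d3856aa46bc20)) (.leaf (nat_lit 0xbd168de4a66386284a33b552ac68e46bc20))))⟩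
def z3C2 : LevCert := ⟨z3L2,
    [(nat_lit 15, nat_lit 0), (nat_lit 16, nat_lit 1)],
    [[nat_lit 2, nat_lit 2, nat_lit 0], [nat_lit 2, nat_lit 4]],
    [nat_lit 0xbd2d5de71a639af84a335a12a298e418820, nat_lit 0xdd2d8be6ba9c9af83a2c595274194418820]⟩
def z3L3 : Lev := ⟨nat_lit 5, nat_lit 0x5a0, (.node (nat_lit 8) (.node (nat_lit 7) (.leaf (nat_lit 0xdeb38bdab49ca307b9ac5a928398a418820)) (.leaf (nat_lit 0xbd2d5de71a639af84a335a12a298e418820))) (.node (nat_lit 10) (.leaf (nat_lit 0xbeb35ddb1463a307c9b359d255190418820)) (.leaf (nat_lit 0xdd2d8be6ba9c9af83a2c595274194418820))))⟩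
def z3C3 : LevCert := ⟨z3L3,
    [(nat_lit 7, nat_lit 0), (nat_lit 10, nat_lit 1), (nat_lit 8, nat_lit 1)],
    [],
    []⟩
def z3 : List LevCert := [z3C0, z3C1, z3C2, z3C3]
def z3L : List Lev := [z3L0, z3L1, z3L2, z3L3]
def y3 : List ℕ := [nat_lit 0xd8de7ba554aca36038d85ce08604ba209b9, nat_lit 0xd8d73bd98d54b427b8c706208ad0a48a439, nat_lit 0xd8458bdab444a2b7b8854ce0a634e6d0079]
def g4 : List ℕ := [nat_lit 0xdbce3321d048a8d8b355958255133702e78, nat_lit 0x22189bd6709234d5db212996cd4a9199db, nat_lit 0x6743150365922f819a99a987438b2c5ebb]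
def z4L0 : Lev := ⟨nat_lit 0, nat_lit 0x9000009, (.node (nat_lit 24) (.node (nat_lit 3) (.leaf (nat_lit 0xdeb38bdab49ca307b9ac5a928398a418820)) (.leaf (nat_lit 0xdbce3321d048a8d8b355958255133702e78))) (.node (nat_lit 27) (.leaf (nat_lit 0xdc5402158d0ae1aa55ee12279b5ce6c4923)) (.leaf (nat_lit 0x22189bd6709234d5db212996cd4a9199db))))⟩
def z4C0 : LevCert := ⟨z4L0,
    [(nat_lit 3, nat_lit 0), (nat_lit 27, nat_lit 1), (nat_lit 24, nat_lit 0)],
    [[nat_lit 0, nat_lit 2, nat_lit 4, nat_lit 0], [nat_lit 4, nat_lit 2, nat_lit 6], [nat_lit 4, nat_lit 4, nat_lit 6, nat_lit 8, nat_lit 8, nat_lit 8, nat_lit 6, nat_lit 8, nat_lit 4, nat_lit 4, nat_lit 8, nat_lit 4, nat_lit 8, nat_lit 6, nat_lit 8, nat_lit 8]],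
    [nat_lit 0xdc10331dcf1263aa55ac0aa59b5ca4c4d60, nat_lit 0xc675b1503624cf16a50e63d6a2ca061d6e0, nat_lit 0xc675bbd2b6218e55250b63dcd8ca1318440]⟩
def z4L1 : Lev := ⟨nat_lit 1, nat_lit 0xac5a56, (.node (nat_lit 12) (.node (nat_lit 6) (.node (nat_lit 2) (.leaf (nat_lit 0xdeb38bdab49ca307b9ac5a928398a418820)) (.node (nat_lit 4) (.leaf (nat_lit 0xc675bbd2b6218e55250b63dcd8ca1318440)) (.leaf (nat_lit 0x1b4b8929319de9079b425daa83bb21db080)))) (.node (nat_lit 9) (.leaf (nat_lit 0xd9de3341c8ab23aa09a9ba899b04b2c4d60)) (.node (nat_lit 11) (.leaf (nat_lit 0x1a21b9bd6720ad16cb356502a2a757c38c0)) (.leaf (nat_lit 0xdc10331dcf1263aa55ac0aa59b5ca4c4d60))))) (.node (nat_lit 19) (.node (nat_lit 14) (.leaf (nat_lit 0x1a21b33dc725ec554b21652ad8a742c2e60)) (.node (nat_lit 18) (.leaf (nat_lit 0xc45439152daacf9b050ebbe7aa0a06d9180)) (.leaf (nat_lit 0x1c5584964d706c83af35350507cf57d9180)))) (.node (nat_lit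 21) (.leaf (nat_lit 0xc15a39452a0b8f9b550b13cdaa5e13d9180)) (.node (nat_lit 23) (.leaf (nat_lit 0xc675b1503624cf16a50e63d6a2ca061d6e0)) (.leaf (nat_lit 0xdeb380d85499227439a95a98f818b21d6e0))))))⟩
def z4C1 : LevCert := ⟨z4L1,
    [(nat_lit 11, nat_lit 0), (nat_lit 21, nat_lit 1), (nat_lit 2, nat_lit 2), (nat_lit 9, nat_lit 1), (nat_lit 12, nat_lit 2), (nat_lit 14, nat_lit 0), (nat_lit 19, nat_lit 0), (nat_lit 23, nat_lit 1), (nat_lit 18, nat_lit 0), (nat_lit 4, nat_lit 2), (nat_lit 6, nat_lit 0)],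
    [[nat_lit 4, nat_lit 2, nat_lit 0, nat_lit 0, nat_lit 2], [nat_lit 2, nat_lit 4, nat_lit 2, nat_lit 6, nat_lit 2, nat_lit 6, nat_lit 4], [nat_lit 8, nat_lit 4, nat_lit 4, nat_lit 8, nat_lit 4, nat_lit 8, nat_lit 8, nat_lit 6, nat_lit 6, nat_lit 8, nat_lit 6, nat_lit 6, nat_lit 6, nat_lit 8, nat_lit 8, nat_lit 4]],
    [nat_lit 0xc675bad2f694e116b1ee4a16a290e618820, nat_lit 0xc6b3badaf4639ed8ca1321cc55250b18820, nat_lit 0xdda98beab9732307cdb2328883aca918820]⟩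
def z4L2 : Lev := ⟨nat_lit 4, nat_lit 0xa50, (.node (nat_lit 9) (.node (nat_lit 6) (.leaf (nat_lit 0xdeb38bdab49ca307b9ac5a928398a418820)) (.leaf (nat_lit 0xc675bad2f694e116b1ee4a16a290e618820))) (.node (nat_lit 11) (.leaf (nat_lit 0xdda98beab9732307cdb2328883aca918820)) (.leaf (nat_lit 0xc6b3badaf4639ed8ca1321cc55250b18820))))⟩
def z4C2 : LevCert := ⟨z4L2,
    [(nat_lit 6, nat_lit 0), (nat_lit 11, nat_lit 1), (nat_lit 9, nat_lit 2)],
    [[nat_lit 4, nat_lit 2, nat_lit 0, nat_lit 0, nat_lit 2, nat_lit 0, nat_lit 2]],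
    [nat_lit 0xdd2d8be6ba9c9af83a2c595274194418820]⟩
def z4L3 : Lev := ⟨nat_lit 5, nat_lit 0x420, (.node (nat_lit 10) (.leaf (nat_lit 0xdeb38bdab49ca307b9ac5a928398a418820)) (.leaf (nat_lit 0xdd2d8be6ba9c9af83a2c595274194418820)))⟩
def z4C3 : LevCert := ⟨z4L3,
    [(nat_lit 10, nat_lit 0)],
    [],
    []⟩
def z4 : List LevCert := [z4C0, z4C1, z4C2, z4C3]
def z4L : List Lev := [z4L0, z4L1, z4L2, z4L3]
def y4 : List ℕ := [nat_lit 0x1c11b31dcf9072a292d74e8516b295c2e60, nat_lit 0x455b6148dab9f4d060bb9cd6c89131a658, nat_lit 0x221873cc7487316b2d79684a29295dcd63, nat_lit 0xd9de39c16860745526972644d8cad5038d8]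

theorem pk_Q : pkOK (nat_lit 5) (nat_lit 32) (nat_lit 28) LQ CONW.C3.relsC CONW.C3.iv = true := by decide +kernel
theorem valid_Q : allL LQ (valid (nat_lit 5) (nat_lit 32) (nat_lit 28)) = true := by decide +kernel
theorem valid_G : allL LG (valid (nat_lit 5) (nat_lit 32) (nat_lit 28)) = true := by decide +kernel
theorem ss : ssOK (nat_lit 5) (nat_lit 32) (nat_lit 28) cert LG = true := by decide +kernel
theorem cl_ok : allL cl (clsOK (nat_lit 5) (nat_lit 32) (nat_lit 28) (cert.map LevCert.L) (nat_lit 0)) = true := by decide +kernel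
theorem cl_pairs : pairsOK (nat_lit 5) (nat_lit 32) (nat_lit 28) (cert.map LevCert.L) (nat_lit 0) cl = true := by decide +kernel

/-- an involution with neither 4 nor 28 fixed points -/
noncomputable def good (W : ℕ) : Bool :=
  Nat.beq (comp (nat_lit 5) (nat_lit 32) (nat_lit 28) W W) (idP (nat_lit 5) (nat_lit 28)) &&
    force (fixN (nat_lit 5) (nat_lit 32) (nat_lit 28) W) fun f => !(Nat.beq f 4) && !(Nat.beq f 28)

noncomputable def cube (P : ℕ) : Bool :=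
  Nat.beq (comp3 (nat_lit 5) (nat_lit 32) (nat_lit 28) P P P) (idP (nat_lit 5) (nat_lit 28))

noncomputable def leaf (Cs : List ℕ) (P : ℕ) : Bool :=
  bimp (cube P) (Nat.beq P (idP (nat_lit 5) (nat_lit 28)) || anyL Cs fun C =>
    force (comp (nat_lit 5) (nat_lit 32) (nat_lit 28) (comp3 (nat_lit 5) (nat_lit 32) (nat_lit 28) P C (inv (nat_lit 5) (nat_lit 32) (nat_lit 28) P)) (inv (nat_lit 5) (nat_lit 32) (nat_lit 28) C)) fun W =>
      good W || force (comp (nat_lit 5) (nat_lit 32) (nat_lit 28) W W) good)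

noncomputable def invOK (X : ℕ) (cs : List LevCert) (gs Cs : List ℕ) : Bool :=
  centOK (nat_lit 5) (nat_lit 32) (nat_lit 28) (cert.map LevCert.L) [X] cs gs &&
    allL Cs (fun C => valid (nat_lit 5) (nat_lit 32) (nat_lit 28) C && sift (nat_lit 5) (nat_lit 32) (nat_lit 28) (cert.map LevCert.L) C && cube C &&
      !(Nat.beq C (idP (nat_lit 5) (nat_lit 28))) && Nat.beq (comp (nat_lit 5) (nat_lit 32) (nat_lit 28) C X) (comp (nat_lit 5) (nat_lit 32) (nat_lit 28) X C)) &&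
    allElts (nat_lit 5) (nat_lit 32) (nat_lit 28) (leaf Cs) (cs.map LevCert.L) (idP (nat_lit 5) (nat_lit 28))

theorem ok1 : invOK c1.X z1 g1 y1 = true := by decide +kernel
theorem ok2 : invOK c2.X z2 g2 y2 = true := by decide +kernel
theorem ok3 : invOK c3.X z3 g3 y3 = true := by decide +kernel
theorem ok4 : invOK c4.X z4 g4 y4 = true := by decide +kernel

end Cfsg.Agent.STD.Sp6
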