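import Cfsg.Agent.STD.IS
import Cfsg.Agent.STD.Sp6Data
import Cfsg.Agent.CONW.C3Cover
import Cfsg.Agent.CONW.C3Am2
import Cfsg.Agent.CONW.C3Top
import Cfsg.Agent.H14.CentIso

/-! A standard component `2.Sp₆(2)` of a balanced simple group is an involution centraliser. -/

set_option autoImplicit false
set_option maxRecDepth 100000

namespace Cfsg.Agent.STD.Sp6

open Cfsg.Agent.H14 Cfsg.Agent.H78 Cfsg.Agent.H58 Cfsg.Agent.CONW.C3 Subgroup

abbrev K0 : Subgroup (Equiv.Perm (Fin 28)) := E.grp LG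

theorem chain : E.IsChain (cert.map LevCert.L) K0 :=
  Enc.isChain_of_ssOK (fun P hP => E.exists_pk_of_valid (allL_iff.1 valid_G P hP)) ss

theorem card_K0 : Nat.card K0 = 1451520 := by rw [chain.card]; decide +kernel

theorem classes : E.ClassList K0 cl :=
  chain.classList (E.fixes_zero _) (allL_iff.1 cl_ok) cl_pairs card_K0 (by decide +kernel)

/-- an involution with neither 4 nor 28 fixed points -/
def Good (w : Equiv.Perm (Fin 28)) : Prop :=
  w * w = 1 ∧ {a | w a = a}.ncard ≠ 4 ∧ {a | w a = a}.ncard ≠ 28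

theorem ncard_conj (g w : Equiv.Perm (Fin 28)) :
    {a | (g * w * g⁻¹) a = a}.ncard = {a | w a = a}.ncard :=
  (Set.ncard_congr (fun a _ => g a) (fun a ha => by simpa using ha) (fun a b _ _ e => g.injective e)
    fun b hb => ⟨g⁻¹ b, by simpa [Equiv.Perm.eq_inv_iff_eq, Equiv.eq_symm_apply] using hb, by simp⟩).symm

theorem of_good {w : Equiv.Perm (Fin 28)} (h : good (E.pk w) = true) : Good w := by
  simp only [good, force_eq, Bool.and_eq_true, beq_iff, Bool.not_eq_true', ← E.pk_mul, ← E.pk_one,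
    E.pk_inj, ← E.ncard_fix, ← Bool.not_eq_true] at h
  exact h

theorem cube_iff {w : Equiv.Perm (Fin 28)} : cube (E.pk w) = true ↔ w ^ 3 = 1 := by
  rw [cube, beq_iff, ← E.pk_mul3, ← E.pk_one, E.pk_inj, pow_three']

/-- the property of an involution certified by `invOK` -/
def PB (τ : Equiv.Perm (Fin 28)) : Prop :=
  (∃ c ∈ K0, c ^ 3 = 1 ∧ c ≠ 1 ∧ Commute c τ) ∧ ∀ y ∈ K0, y ^ 3 = 1 → y ≠ 1 → Commute y τ →
    ∃ c ∈ K0, c ^ 3 = 1 ∧ Commute c τ ∧ ∃ m, Good ((y * c * y⁻¹ * c⁻¹) ^ m)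

theorem pb_of {c : Cls} (hc : c ∈ cl) {cs : List LevCert} {gs Cs : List ℕ}
    (h : invOK c.X cs gs Cs = true) (h1 : c.c ≤ chainCard (nat_lit 28) (cs.map LevCert.L))
    (h2 : Cs ≠ []) : PB (E.perm c.X) := by
  simp only [invOK, Bool.and_eq_true, allL_iff] at h
  obtain ⟨⟨h3, h4⟩, h5⟩ := h
  have h6 := (chain.of_centOK h3 (S := {E.perm c.X}) (by simp [classes.pk_perm hc])
    (by rwa [classes.card _ hc])).1.forall_of_allElts h5
  have h7 : ∀ C ∈ Cs, ∃ x ∈ K0, E.pk x = C ∧ x ^ 3 = 1 ∧ x ≠ 1 ∧ Commute x (E.perm c.X) := fun C hC => by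
    obtain ⟨⟨⟨⟨e1, e2⟩, e3⟩, e4⟩, e5⟩ := h4 C hC
    obtain ⟨x, hx, rfl⟩ := chain.inG_of_sift e1 e2
    refine ⟨x, hx, rfl, cube_iff.1 e3, fun e => by simp [e, E.pk_one] at e4, E.pk_injective ?_⟩
    rw [E.pk_mul, E.pk_mul, classes.pk_perm hc, beq_iff.1 e5]
  refine ⟨?_, fun y hy y3 y1 yt => ?_⟩
  · obtain ⟨C, hC⟩ := List.exists_mem_of_ne_nil _ h2
    obtain ⟨x, hx, -, e⟩ := h7 C hC
    exact ⟨x, hx, e⟩
  have h8 := bimp_iff.1 (h6 y ⟨hy, mem_centralizer_singleton_iff.2 yt⟩) (cube_iff.2 y3)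
  simp only [Bool.or_eq_true, beq_iff, ← E.pk_one, E.pk_inj, y1, false_or, anyL_iff, force_eq] at h8
  obtain ⟨C, hC, h9⟩ := h8
  obtain ⟨x, hx, rfl, e1, -, e2⟩ := h7 C hC
  simp only [← E.pk_inv, ← E.pk_mul3, ← E.pk_mul] at h9
  exact ⟨x, hx, e1, e2, h9.elim (fun e => ⟨1, by simpa using of_good e⟩)
    fun e => ⟨2, by simpa only [pow_two] using of_good e⟩⟩

theorem PB.conj {τ g : Equiv.Perm (Fin 28)} (h : PB τ) (hg : g ∈ K0) : PB (g * τ * g⁻¹) := by
  refine ⟨?_, fun y hy y3 y1 yt => ?_⟩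
  · obtain ⟨c, c1, c2, c3, c4⟩ := h.1
    exact ⟨g * c * g⁻¹, mul_mem (mul_mem hg c1) (inv_mem hg), by simp [c2], by simpa using c3,
      c4.map (MulAut.conj g)⟩
  obtain ⟨c, c1, c2, c3, m, c4⟩ := h.2 (g⁻¹ * y * g⁻¹⁻¹)
    (mul_mem (mul_mem (inv_mem hg) hy) (inv_mem (inv_mem hg))) (by rw [conj_pow, y3]; simp)
    (fun e => y1 (conj_eq_one_iff.1 e)) (by simpa [mul_assoc] using yt.map (MulAut.conj g⁻¹))
  refine ⟨g * c * g⁻¹, mul_mem (mul_mem hg c1) (inv_mem hg), by simp [c2], c3.map (MulAut.conj g), m, ?_⟩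
  rw [show y * (g * c * g⁻¹) * y⁻¹ * (g * c * g⁻¹)⁻¹ =
    g * (g⁻¹ * y * g⁻¹⁻¹ * c * (g⁻¹ * y * g⁻¹⁻¹)⁻¹ * c⁻¹) * g⁻¹ by group, conj_pow]
  exact ⟨by rw [conj_mul, c4.1]; simp, by rw [ncard_conj]; exact c4.2⟩

theorem pb {τ : Equiv.Perm (Fin 28)} (h : τ ∈ K0) (h2 : orderOf τ = 2) : PB τ := by
  obtain ⟨c, hc, a, ha, rfl⟩ := classes.conj_of_orderOf (f := 16) [c1, c2, c3, c4]
    (by decide +kernel) h h2
  refine PB.conj ?_ ha
  simp only [List.mem_cons, List.not_mem_nil, or_false] at hc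
  rcases hc with rfl | rfl | rfl | rfl
  exacts [pb_of (by simp [cl]) ok1 (by decide +kernel) (by simp [y1]),
    pb_of (by simp [cl]) ok2 (by decide +kernel) (by simp [y2]),
    pb_of (by simp [cl]) ok3 (by decide +kernel) (by simp [y3]),
    pb_of (by simp [cl]) ok4 (by decide +kernel) (by simp [y4])]

variable {H : Type*} [Group H] {L : Lt H}

theorem exists_chi (h : CF L) : ∃ χ : H →* Equiv.Perm (Fin 28), χ.range = K0 ∧
    ∀ w : List ℕ, (∀ i ∈ w, i ≤ 8) → E.pk (χ (L.wv 1 w)) = prodP (nat_lit 5) (nat_lit 32) (nat_lit 28) LQ w := by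
  have : Finite H := Nat.finite_of_card_ne_zero (by rw [h.card]; decide)
  have R := ruleOK_prod (CovAux.rule h) (ruleOK_pk E pk_Q)
  set D := closure ((fun i => (L.el 1 i, elP E LQ i)) '' {x | x ∈ ([1, 2, 3, 4, 5, 6, 7] : List ℕ)})
  have hD : ∀ i ∈ ([1, 2, 3, 4, 5, 6, 7] : List ℕ), (L.el 1 i, elP E LQ i) ∈ D := fun i hi =>
    subset_closure ⟨i, hi, rfl⟩
  have hK : ∀ a ∈ (⊤ : Subgroup H), ∃ g, (a, g) ∈ D := by
    have : closure L.gens ≤ D.map (MonoidHom.fst _ _) := by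
      rw [closure_le]
      rintro a (rfl | rfl | rfl | rfl | rfl | rfl | rfl)
      exacts [⟨_, hD 1 (by decide), rfl⟩, ⟨_, hD 2 (by decide), rfl⟩, ⟨_, hD 3 (by decide), rfl⟩,
        ⟨_, hD 4 (by decide), rfl⟩, ⟨_, hD 5 (by decide), rfl⟩, ⟨_, hD 6 (by decide), rfl⟩,
        ⟨_, hD 7 (by decide), rfl⟩]
    intro a ha
    obtain ⟨p, hp, rfl⟩ := this (h.gen.ge ha)
    exact ⟨p.2, hp⟩
  obtain ⟨φ, h1, -⟩ := exists_hom_of_graph_le ⊤ D hK
    ⟨(CovAux.card_le R).1, (CovAux.card_le R).2.trans (by rw [card_top, h.card])⟩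
  let χ : H →* Equiv.Perm (Fin 28) := φ.comp topEquiv.symm.toMonoidHom
  have h2 : ∀ a g, (a, g) ∈ D → χ a = g := fun a g hg => h1 ⟨a, mem_top a⟩ g hg
  have h3 : ∀ i ≤ 8, χ (L.el 1 i) = elP E LQ i := fun i hi => h2 _ _ (by
    have e0 : (L.el 1 0, elP E LQ 0) = 1 := R.h0
    have e8 : (L.el 1 8, elP E LQ 8) = (L.el 1 7, elP E LQ 7)⁻¹ := R.hinv 7 (by decide)
    interval_cases i
    exacts [e0 ▸ one_mem _, hD 1 (by decide), hD 2 (by decide), hD 3 (by decide), hD 4 (by decide),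
      hD 5 (by decide), hD 6 (by decide), hD 7 (by decide), e8 ▸ inv_mem (hD 7 (by decide))])
  refine ⟨χ, le_antisymm ?_ (Enc.grp_le ?_), fun w hw => ?_⟩
  · rintro _ ⟨a, rfl⟩
    obtain ⟨g, hg⟩ := hK a (mem_top a)
    rw [h2 a g hg]
    have : D ≤ K0.comap (MonoidHom.snd _ _) := by
      rw [closure_le]
      rintro _ ⟨i, hi, rfl⟩
      refine (Enc.inG_grp_of_valid valid_G _ ?_).perm_mem
      simp only [List.mem_cons, List.not_mem_nil, or_false, Set.mem_ofPred_eq] at hi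
      rcases hi with rfl | rfl | rfl | rfl | rfl | rfl | rfl <;> decide +kernel
    exact this hg
  · have h4 : ∀ i ≤ 8, E.InG χ.range (nthD LQ (idP 5 28) i) :=
      fun i hi => ⟨_, ⟨_, h3 i hi⟩, pk_elP E valid_Q i⟩
    simp only [LG, List.forall_mem_cons]
    exact ⟨h4 1 (by decide), h4 2 (by decide), h4 3 (by decide), h4 4 (by decide),
      h4 5 (by decide), h4 6 (by decide), h4 7 (by decide), by simp⟩
  · rw [← pk_prod_elP E valid_Q, Lt.wv, map_list_prod, List.map_map,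
      List.map_congr_left (f := χ ∘ L.el 1) fun i hi => h3 i (hw i hi)]

theorem pn (h : CF L) (a : H) (a2 : a * a = 1 ∨ a * a = L.z) (a1 : a ≠ 1) (az : a ≠ L.z) :
    PN L.z a := by
  have : Finite H := Nat.finite_of_card_ne_zero (by rw [h.card]; decide)
  obtain ⟨χ, hr, hw⟩ := exists_chi h
  have hz : χ L.z = 1 := E.pk_injective (by
    rw [← L.wv_z, hw _ (by decide), E.pk_one]; decide +kernel)
  have hk : ∀ g, χ g = 1 → g = 1 ∨ g = L.z := fun g hg => by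
    have h1 := card_eq_card_quotient_mul_card_subgroup χ.ker
    rw [h.card, Nat.card_congr (QuotientGroup.quotientKerEquivRange χ).toEquiv, hr, card_K0] at h1
    obtain ⟨w, -, e⟩ := (Nat.card_eq_two_iff' (1 : χ.ker)).1 (by omega)
    exact or_iff_not_imp_left.2 fun g1 => congrArg Subtype.val ((e ⟨g, hg⟩ fun e =>
      g1 (congrArg Subtype.val e)).trans (e ⟨_, hz⟩ fun e => h.z_ne (congrArg Subtype.val e)).symm)
  have z3 : L.z ^ 3 = L.z := by rw [pow_three, h.z_sq, mul_one]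
  have zc : ∀ g, Commute g L.z := h.z_comm
  have lift : ∀ c ∈ K0, c ^ 3 = 1 → Commute c (χ a) → ∃ y, χ y = c ∧ y ^ 3 = 1 ∧ Commute y a :=
    fun c hc c3 ca => by
      obtain ⟨y, rfl, y3⟩ : ∃ y, χ y = c ∧ y ^ 3 = 1 := by
        obtain ⟨y, rfl⟩ := hr.ge hc
        rcases hk (y ^ 3) (by rw [map_pow, c3]) with e | e
        · exact ⟨y, rfl, e⟩
        · exact ⟨y * L.z, by rw [map_mul, hz, mul_one], by rw [(zc y).mul_pow, e, z3, h.z_sq]⟩
      refine ⟨y, rfl, y3, ?_⟩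
      rcases hk (y⁻¹ * (a * y * a⁻¹)) (by simp [← ca.eq]) with e | e
      · exact (mul_inv_eq_iff_eq_mul.1 (inv_mul_eq_one.1 e).symm).symm
      · have := congrArg (· ^ 3) (inv_mul_eq_iff_eq_mul.1 e)
        simp only [conj_pow, (zc y).mul_pow, y3, z3, mul_one, mul_inv_cancel, one_mul] at this
        exact absurd this.symm h.z_ne
  have hp := pb (hr.le ⟨a, rfl⟩) (orderOf_eq_prime (by
    rcases a2 with e | e <;> simp [pow_two, ← map_mul, e, hz]) fun e => (hk a e).elim a1 az)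
  refine ⟨?_, fun y y3 y1 ya M hM => ?_⟩
  · obtain ⟨c, c1, c2, c3, c4⟩ := hp.1
    obtain ⟨y, rfl, e1, e2⟩ := lift c c1 c2 c4
    exact ⟨y, e1, fun e => c3 (by rw [e, map_one]), e2⟩
  obtain ⟨c, c1, c2, c3, m, c4, c5, c6⟩ := hp.2 (χ y) (hr.le ⟨y, rfl⟩) (by rw [← map_pow, y3, map_one])
    (fun e => (hk y e).elim y1 fun e => h.z_ne (by rw [← z3, ← e, y3])) (ya.map χ)
  obtain ⟨c, rfl, -, e2⟩ := lift c c1 c2 c3
  have h1 := pow_mem (hM c e2) m
  simp only [← map_inv, ← map_mul, ← map_pow] at c4 c5 c6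
  generalize (y * c * y⁻¹ * c⁻¹) ^ m = w at h1 c4 c5 c6
  refine (hk _ c4).elim (fun e => False.elim ?_) fun e => e ▸ mul_mem h1 h1
  have k : ∀ x : H, IsConj x w → {a | χ x a = a}.ncard ≠ 4 := fun x e => by
    obtain ⟨g, rfl⟩ := isConj_iff.1 e
    rwa [map_mul, map_mul, map_inv, ncard_conj] at c5
  rcases h.cls w e with rfl | rfl | e | e
  · simp at c6
  · simp [hz] at c6
  · exact k _ e (by rw [E.ncard_fix, ← L.wv_t, hw _ (by decide)]; decide +kernel)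
  · exact k _ e (by
      rw [E.ncard_fix, show L.x = L.wv 1 [4] by simp [Lt.wv, Lt.el], hw _ (by decide)]; decide +kernel)

theorem gf (h : CF L) : GF L :=
  h.gf (MonoidHom.id H) Function.injective_id
    ((MonoidHom.range_eq_top.2 Function.surjective_id).trans
      (top_unique fun a _ => mem_centralizer_singleton_iff.2 (h.z_comm a)).symm)

variable {G : Type*} [Group G] {φ ψ : H →* G}

theorem conj_t (h : CF L) (p : IP L.z φ ψ) : ∃ a, IsConj L.t a ∧ ψ L.z = φ a := by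
  have : Finite H := Nat.finite_of_card_ne_zero (by rw [h.card]; decide)
  have g := gf h
  have k : ∀ {φ ψ : H →* G}, IP L.z φ ψ → ∃ a, (IsConj L.t a ∨ IsConj L.x a) ∧ ψ L.z = φ a :=
    fun {φ ψ} p => by
      obtain ⟨a, ha⟩ := p.mem (pn h)
      refine ⟨a, ((h.cls a (p.l.inj ?_)).resolve_left ?_).resolve_left ?_, ha.symm⟩
      · rw [map_mul, ha, p.r.sq', map_one]
      · rintro rfl
        exact p.nl (ha ▸ map_one φ ▸ one_mem _)
      · rintro rfl
        exact p.nl (ha ▸ p.l.z_mem)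
  obtain ⟨a, ha, e⟩ := k p
  refine ⟨a, ha.resolve_right fun ha => ?_, e⟩
  obtain ⟨b, hb, e'⟩ := k p.symm
  obtain ⟨s, s1, s2⟩ : ∃ s, Commute s b ∧ s * s = L.z := by
    obtain ⟨c, s, hc, s1, s2⟩ : ∃ c s, IsConj c b ∧ Commute s c ∧ s * s = L.z := by
      rcases hb with hb | hb
      · exact ⟨_, L.e * L.f, hb, H49.mem_cent1.1 (mul_mem (g.bD 0) (g.bD 1)).2, (pow_two _).symm⟩
      · obtain ⟨s, s1, s2⟩ := h.sqz
        exact ⟨_, s, hb, s1, s2⟩
    obtain ⟨u, rfl⟩ := isConj_iff.1 hc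
    exact ⟨u * s * u⁻¹, s1.map (MulAut.conj u), by rw [conj_mul, s2, h.z_comm, mul_inv_cancel_right]⟩
  obtain ⟨c, m, hm, e1⟩ := p.l.dec (e' ▸ s1.map ψ)
  have h1 := p.l.pow_cases hm (n := 2) (b := a) (by rw [← e1, ← map_pow, pow_two, s2, e])
  obtain ⟨u, rfl⟩ := isConj_iff.1 ha
  have h2 : ∀ w v : H, w ^ 2 = v * L.x * v⁻¹ → False := fun w v e => by
    have e3 : v⁻¹ * w * v * (v⁻¹ * w * v) = L.x := by
      calc _ = v⁻¹ * w ^ 2 * v := by rw [pow_two]; group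
        _ = _ := by rw [e]; group
    exact h.sqx _ (by rw [← e3]; group) e3
  refine h1.elim (h2 c u) fun e => ?_
  have xz : Commute L.x L.z := h.z_comm _
  rcases h.cls (L.x * L.z) (by rw [← pow_two, xz.mul_pow, pow_two, pow_two, g.xx, h.z_sq, mul_one])
    with e2 | e2 | e2 | e2
  · exact g.xz (by rw [eq_inv_of_mul_eq_one_left e2, inv_eq_of_mul_eq_one_right h.z_sq])
  · exact absurd h.ord_x (by simp [mul_eq_right.1 e2])
  · obtain ⟨f⟩ := cent_conj_equiv e2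
    have := Nat.card_congr f.toEquiv
    rw [h.cardT, show centralizer {L.x * L.z} = centralizer {L.x} from Subgroup.ext fun w => by
      simp only [mem_centralizer_singleton_iff]
      rw [← mul_assoc, mul_assoc L.x, ← h.z_comm, ← mul_assoc, mul_left_inj], h.cardX] at this
    omega
  · obtain ⟨v, hv⟩ := isConj_iff.1 e2
    exact h2 c (u * v) (by rw [e, conj_conj, hv, mul_assoc, h.z_comm]; group)

theorem cent_eq [Finite G] (h : CF L) (p : IP L.z φ ψ) (hO : centralizerPPrimeCore 2 (φ L.z) = ⊥) :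
    centralizer {φ L.z} = φ.range := by
  have : Finite H := Nat.finite_of_card_ne_zero (by rw [h.card]; decide)
  have g := gf h
  have hz : ∀ u : H, MulAut.conj u L.z = L.z := fun u => mul_inv_eq_iff_eq_mul.2 (h.z_comm u)
  obtain ⟨_, ⟨u, rfl⟩, e1⟩ := (conj_t h p).imp fun _ e => And.intro (isConj_iff.1 e.1) e.2
  obtain ⟨_, ⟨v, rfl⟩, e2⟩ := (conj_t h p.symm).imp fun _ e => And.intro (isConj_iff.1 e.1) e.2
  have k : ∀ (φ : H →* G) u, (φ.comp (MulAut.conj u).toMonoidHom) L.z = φ L.z :=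
    fun φ u => congrArg φ (hz u)
  have := ((p.comp _ (hz u)).symm.comp _ (hz v)).symm.cent_eq' (a := L.t) ((k _ _).trans e1)
    ((k _ _).trans e2) (pn h _ (.inl g.tt) g.t1 g.tz) (fun c ct hc => ?_) (by rwa [k])
  · rwa [k, MonoidHom.range_comp, MonoidHom.range_eq_top.2 (MulAut.conj u).surjective,
      ← MonoidHom.range_eq_map] at this
  have h1 := hc _ g.h3 (H49.mem_cent1.1 g.hD.2)
  have h2 : ∀ i, Commute (L.b i) c := fun i => by simpa using
    (hc _ (g.bh3 i) (H49.mem_cent1.1 (mul_mem (g.bD i) g.hD).2)).mul_left h1.inv_left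
  exact (h.cenE c ct (h2 0).symm ((h1.mul_left (h2 0)).mul_left h1.inv_left).symm).resolve_right
    fun e => absurd ((g.comm_iff (i := 0) e (g.in_b 1)).1 (h2 1).symm) (by decide)

end Cfsg.Agent.STD.Sp6
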