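import Cfsg.Agent.STD.O8Fac

/-! No conjugate of the centre of a standard `2.Ω₈⁺(2)` commutes with it. -/

set_option autoImplicit false

namespace Cfsg.Agent.STD.O8

open Subgroup

variable {G : Type*} [Group G] {Φ Ψ : G0 → G} {a b c d v w r : G0} {Y Y' : Subgroup G0} {j : ℕ}

theorem Syl.X (h : Syl w Y j) (ha : a ∈ Y) : a ∈ X := SS_le _ ((h a).1 ha).1

theorem ext_closure (h : Ctx Φ) (h' : Ctx Ψ) {S : Set G0} (hS : closure S ≤ X) (hY : Y ≤ X)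
    (e : ∀ a ∈ S, ∃ b ∈ Y, Φ a = Ψ b) (ha : a ∈ closure S) : ∃ b ∈ Y, Φ a = Ψ b := by
  induction ha using closure_induction with
  | mem a ha => exact e a ha
  | one => exact ⟨1, one_mem _, h.one.trans h'.one.symm⟩
  | mul a b a1 b1 h1 h2 =>
    obtain ⟨c, c1, c2⟩ := h1
    obtain ⟨d, d1, d2⟩ := h2
    exact ⟨_, mul_mem c1 d1, by rw [h.mul (hS a1) (hS b1), h'.mul (hY c1) (hY d1), c2, d2]⟩
  | inv a a1 h1 =>
    obtain ⟨c, c1, c2⟩ := h1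
    exact ⟨_, inv_mem c1, by rw [h.inv (hS a1), h'.inv (hY c1), c2]⟩

namespace Two

theorem red (h : Two Φ Ψ v w) (t : Ty v r) (hr : r ∈ W) : ∃ Φ', Φ' m = Φ m ∧ Two Φ' Ψ r w := by
  obtain ⟨g, hg, e⟩ := t
  exact ⟨O8.tw Φ g, tw_m hg, (h.tw hg).of_sign e hr⟩

theorem ty (h : Two Φ Ψ v w) : ∃ r, (r = wJ ∨ r = wR ∨ r = wA ∨ r = wT ∨ r = wB ∨ r = wE) ∧
    ∃ Φ', Φ' m = Φ m ∧ Two Φ' Ψ r w := by
  have h1 := h.av.mul h.av h.hv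
  rw [h.r.z_sq] at h1
  obtain ⟨r, r1, t⟩ := cls h.hv (by simpa using h.l.sign h1 Acts.one (mul_mem h.hv h.hv) (one_mem _))
  simp only [List.mem_cons, List.not_mem_nil, or_false] at r1
  rcases r1 with rfl | r1
  · obtain ⟨Φ', -, h'⟩ := h.red t (one_mem _)
    exact ((h'.l.uniq h'.av h'.r.z_sq).elim h'.r.z_ne h'.ne).elim
  · refine ⟨r, r1, h.red t ?_⟩
    rcases r1 with rfl | rfl | rfl | rfl | rfl | rfl
    exacts [X_le J_X.1, R_W.1, X_le A_X.1, T_W.1, X_le B_X.1, X_le E_X.1]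

theorem pair (h : Two Φ Ψ v w) : ∃ r, (r = wJ ∨ r = wR ∨ r = wA ∨ r = wT ∨ r = wB ∨ r = wE) ∧
    ∃ Ψ', Ψ' m = Ψ m ∧ Two Φ Ψ' v r := by
  obtain ⟨r, r1, Ψ', e, h'⟩ := h.symm.ty
  exact ⟨r, r1, Ψ', e, h'.symm⟩

theorem trY (h : Two Φ Ψ v w) (s : Syl v Y j) (s' : Syl w Y' j) (ha : a ∈ Y) : ∃ b ∈ Y', Φ a = Ψ b := by
  obtain ⟨b, b1, b2, b3⟩ := h.tr ((s a).1 ha).1 ((s a).1 ha).2
  exact ⟨b, (s' b).2 ⟨b1, b3⟩, b2⟩

theorem cm (h : Two Φ Ψ v w) (s : Syl v Y j) (s' : Syl w Y' j) (ha : a ∈ Y) (hb : b ∈ Y')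
    (e : Φ a = Ψ b) (hc : c ∈ X) (hd : d ∈ X) (e' : Φ c = Ψ d) (k : Cm c a Y) : Cm d b Y' := fun y hy => by
  obtain ⟨x, hx, e2⟩ := h.symm.trY s' s hy
  have e3 : Ψ (b * y) = Φ (a * x) := by rw [h.r.mul (s'.X hb) (s'.X hy), h.l.mul (s.X ha) (s.X hx), e, e2]
  have e4 : Ψ (y * b) = Φ (x * a) := by rw [h.r.mul (s'.X hy) (s'.X hb), h.l.mul (s.X hx) (s.X ha), e, e2]
  have x1 := mul_mem (s'.X hy) (s'.X hb)
  refine (k x hx).imp (fun e5 => h.r.inj (mul_mem (s'.X hb) (s'.X hy)) x1 (by rw [e3, e4, e5]))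
    fun e5 => h.r.inj (mul_mem (s'.X hb) (s'.X hy)) (mul_mem hd x1) ?_
  rw [e3, e5, h.r.mul hd x1, h.l.mul hc (mul_mem (s.X hx) (s.X ha)), e', e4]

theorem inner (h : Two Φ Ψ v w) (hv : v ∈ X) (v2 : v * v = 1) :
    ∃ c ∈ X, (c = v ∨ c = m * v) ∧ Φ c = Ψ m := by
  rcases h.l.inner h.av hv h.r.z_sq v2 with e | e
  exacts [⟨_, hv, .inl rfl, e.symm⟩, ⟨_, mul_mem m_X.1 hv, .inr rfl, e.symm⟩]

theorem v4 (h : Two Φ Ψ v w) (hv : v ∈ X) (v2 : v * v = 1) (hw : w ∈ X) (w2 : w * w = 1) (ha : a ∈ X)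
    (e : Φ a = Ψ b) (hb : V4 w b) : V4 v a := by
  obtain ⟨c, c1, c2, c3⟩ := h.inner hv v2
  obtain ⟨d, d1, d2, d3⟩ := h.symm.inner hw w2
  have k : ∀ x : G0, m * (m * x) = x := fun x => by rw [← mul_assoc, m_sq.1, one_mul]
  have hb' : b = 1 ∨ b = m ∨ b = d ∨ b = m * d := by
    rcases d2 with rfl | rfl
    · exact hb
    · rw [k]; exact hb.imp_right (Or.imp_right Or.symm)
  rcases hb' with rfl | rfl | rfl | rfl
  · exact .inl (h.l.inj1 ha (e.trans h.r.one))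
  · exact .inr (.inr (h.l.inj ha c1 (e.trans c3.symm) ▸ c2))
  · exact .inr (.inl (h.l.inj ha m_X.1 (e.trans d3)))
  · rw [h.r.mul m_X.1 d1, d3, h.comm.eq, ← c3, ← h.l.mul m_X.1 c1] at e
    rw [h.l.inj ha (mul_mem m_X.1 c1) e]
    rcases c2 with rfl | rfl
    exacts [.inr (.inr (.inr rfl)), .inr (.inr (.inl (k _)))]

theorem nd (h : Two Φ Ψ v w) (j : ℕ) {p q : ℕ} (h1 : Nat.card (SS W v) = p) (h2 : Nat.card (SS W w) = q)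
    (h3 : 2 ^ j ∣ p := by decide) (h4 : ¬ 2 ^ j ∣ q := by decide) : False :=
  h4 (h2 ▸ h.dvd (h1 ▸ h3))

end Two

theorem Ctx.bad (h : Ctx Φ) (ha : a ∈ X) (h1 : IsConj (Φ m) (Φ a)) (h2 : nf a ≠ 240) (t : Ty a r)
    (hr : r ∈ W) : ∃ (Φ' Ψ : G0 → G) (w : G0), Two Φ' Ψ r w := by
  obtain ⟨Ψ, w, -, h3⟩ := h.two h1 (fun e => h2 (by
    have f := fix_val _ List.mem_cons_self
    rw [h.inj ha m_X.1 e, ← mul_one m, nf_neg, nf, f.1, f.2]; rfl)) (X_le ha) (h.acts_self ha)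
  obtain ⟨Φ', -, h4⟩ := h3.red t hr
  exact ⟨Φ', Ψ, w, h4⟩

theorem no_J (h : Two Φ Ψ wJ w) : False := by
  obtain ⟨r, r1, Ψ, -, h⟩ := h.pair
  obtain ⟨b, b1, b2, b3⟩ := h.tr fJ (j := 1) (by rw [pow_one, pow_two, m_sq.1])
  have b4 := SS_le _ b1
  rw [pow_one, pow_two] at b3
  have r2 : r ∈ X ∧ r * r = 1 := by
    rcases h.r.sign h.aw (b2 ▸ h.r.acts_self b4) h.hw (X_le b4) with e | e <;> rw [e]
    exacts [⟨b4, b3⟩, ⟨mul_mem m_X.1 b4, neg_sq (X_le b4) b3⟩]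
  rcases r1 with rfl | rfl | rfl | rfl | rfl | rfl
  exacts [m_sq.2 (sq_val.1.symm.trans r2.2), R_W.2.1 r2.1, h.symm.nd 10 card_A card_J, T_W.2.1 r2.1,
    h.nd 9 card_J card_B, h.nd 9 card_J card_E]

theorem chain {g1 g2 g3 x x1 x2 x3 y : G} (h1 : g1 * x1 * g1⁻¹ = x) (h2 : g3 * x1 * g3⁻¹ = x2)
    (h3 : g2 * x3 * g2⁻¹ = x2) (h4 : g1 * x3 * g1⁻¹ = y) :
    g1 * g2⁻¹ * g3 * g1⁻¹ * x * (g1 * g2⁻¹ * g3 * g1⁻¹)⁻¹ = y := by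
  rw [← h1, ← h4, show x3 = g2⁻¹ * (g3 * x1 * g3⁻¹) * g2 by rw [h2, ← h3]; group]; group

theorem Ctx.no_ext (h : Ctx Φ) {g t s : G} (f1 : ∀ a ∈ SS W wR, g * Φ a * g⁻¹ = Φ a)
    (f2 : g * Φ m * g⁻¹ = t) (f3 : g * s * g⁻¹ = Φ m) (ht : Acts Φ t wR) (hs : Acts Φ s wR) : False := by
  have r2 := sq_val.2.1
  have r3 : wR⁻¹ = wR := inv_eq_of_mul_eq_one_right r2
  have t2 : t * t = 1 := by rw [← f2, conj_mul, h.z_sq, mul_one, mul_inv_cancel]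
  have t3 : t * Φ m = Φ m * t := ht.comm m_X.1 (m_comm R_W.1).symm
  have k0 : ∀ {k x}, k ∈ X → Acts Φ x wR → Φ (wR * k⁻¹ * wR⁻¹) * x = x * (Φ k)⁻¹ := fun hk hx => by
    rw [← hx _ (inv_mem hk), inv_mul_cancel_right, h.inv hk]
  have k1 : ∀ {k v}, k ∈ X → k⁻¹ * m * v * k * wR ∈ SS W wR →
      Φ k * g * (Φ k)⁻¹ * (Φ (v * wR) * s) * (Φ k * g * (Φ k)⁻¹)⁻¹ = Φ (v * wR) * t := fun {k v} hk ha => by
    have a1 := SS_le _ ha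
    have e := f1 _ ha
    have e1 : v * wR = k * (m * (k⁻¹ * m * v * k * wR)) * (wR * k⁻¹ * wR⁻¹) := by
      rw [(m_comm (inv_mem (X_le hk))).eq, r3]
      simp only [← mul_assoc]
      rw [mul_assoc k, m_sq.1, mul_assoc _ wR wR, r2]; group
    rw [e1]
    generalize k⁻¹ * m * v * k * wR = a at a1 e
    rw [h.mul (mul_mem hk (mul_mem m_X.1 a1)) (X_conj R_W.1 (inv_mem hk)), mul_assoc _ _ s, mul_assoc _ _ t,
      k0 hk hs, k0 hk ht, h.mul hk (mul_mem m_X.1 a1), h.mul m_X.1 a1, ← (h.z_comm a1).eq]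
    calc _ = Φ k * ((g * Φ a * g⁻¹) * (g * Φ m * g⁻¹) * (g * s * g⁻¹)) * (Φ k)⁻¹ := by group
      _ = _ := by rw [e, f2, f3, mul_assoc (Φ a), t3]; group
  have k2 : ∀ {k}, k ∈ X → Φ k * g * (Φ k)⁻¹ * Φ m * (Φ k * g * (Φ k)⁻¹)⁻¹ =
      Φ (k * wR * k⁻¹ * wR) * t := fun {k} hk => by
    rw [show k * wR * k⁻¹ * wR = k * (wR * k⁻¹ * wR⁻¹) by rw [r3]; group,
      h.mul hk (X_conj R_W.1 (inv_mem hk)), mul_assoc _ _ t, k0 hk ht, ← f2, mul_assoc _ _ (Φ m),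
      (h.z_comm hk).inv_left.eq]
    group
  have k3 : ∀ {a b}, a * wR ∈ X → b * wR ∈ X → Φ (a * wR) * t * (Φ (b * wR) * t) = Φ (a * b) ∧ a * b ∈ X :=
    fun {a b} ha hb => by
      have e : a * b = a * wR * (wR * (b * wR) * wR⁻¹) := by
        rw [mul_assoc wR, mul_inv_cancel_right, mul_assoc, ← mul_assoc wR, r2, one_mul]
      rw [e, h.mul ha (X_conj R_W.1 hb), ← ht _ hb, inv_eq_of_mul_eq_one_right t2]
      exact ⟨by group, mul_mem ha (X_conj R_W.1 hb)⟩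
  obtain ⟨p, p1, q, q1, u, -, u1, u2, u3⟩ := fR3
  simp only [List.forall_mem_cons] at u3
  obtain ⟨a1, a2, a3, a4, a5, a6, a7, -⟩ := u3
  have k4 : Φ 1 * g * (Φ 1)⁻¹ * (Φ (wR * wR) * s) * (Φ 1 * g * (Φ 1)⁻¹)⁻¹ = Φ m := by
    rw [r2, h.one, ← f3]; group
  have k5 := k2 (one_mem _)
  rw [one_mul wR, inv_one (G := G0), mul_one wR] at k5
  have c1 := chain k4 (k1 q1 a3) (k1 p1 a5) k4
  have c2 := chain k5 (k2 q1) (k1 p1 a6) (k1 (one_mem _) a2)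
  have c3 := chain (k1 (one_mem _) a1) (k1 q1 a4) (k1 p1 a7) (k1 (one_mem _) a1)
  have x : ∀ {v}, 1⁻¹ * m * v * 1 * wR ∈ SS W wR → v * wR ∈ X := fun hv =>
    (mul_mem_cancel_left m_X.1).1 (by simpa [mul_assoc] using SS_le _ hv)
  obtain ⟨d1, d2⟩ := k3 (r2 ▸ one_mem X : wR * wR ∈ X) (x a1)
  obtain ⟨d3, d4⟩ := k3 (x a2) (x a1)
  obtain ⟨v, hv, e⟩ := h.acts (mul_inv_eq_iff_eq_mul.1 c1)
  have e1 := e _ d2
  rw [← d1, ← conj_mul, c2, c3, d3] at e1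
  rw [h.inj d4 (X_conj hv d2) e1, nf_conj hv, u1] at u2
  omega

theorem no_RR (h : Two Φ Ψ wR wR) : False := by
  obtain ⟨g, hg⟩ : ∃ g, ∀ b ∈ X, Ψ b = g * Φ b * g⁻¹ := by
    obtain ⟨g, u, hu, e⟩ := h.rel
    obtain ⟨n, hn⟩ : ∃ n, Acts Φ n u⁻¹ := by
      by_cases c : u⁻¹ ∈ X
      · exact ⟨_, h.l.acts_self c⟩
      · exact ⟨_, by simpa only [inv_mul_cancel_right] using (h.l.acts_self (mul_mem_X (inv_mem hu)
          (inv_mem R_W.1) c (mt inv_mem_iff.1 R_W.2.1))).mul h.av R_W.1⟩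
    exact ⟨g * n, fun b hb => by rw [e, cj, tw, ← hn b hb]; group⟩
  have k : ∀ a : SS W wR, ∃ b ∈ SS W wR, Φ a = Ψ b := fun a =>
    ext_closure h.l h.r ((closure_le _).2 fun _ hb => SS_le _ hb.1) (SS_le _) (fun b hb =>
      (h.tr hb.1 (j := 1) (by rw [pow_one, pow_two, hb.2])).imp fun _ e => ⟨e.1, e.2.1⟩) (fR1.2 a.2)
  choose f f1 f2 using k
  let θ : SS W wR →* SS W wR := MonoidHom.mk' (fun a => ⟨f a, f1 a⟩) fun a b => Subtype.ext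
    (h.r.inj (SS_le _ (f1 _)) (SS_le _ (mul_mem (f1 a) (f1 b))) (by
      rw [← f2]
      exact (h.l.mul (SS_le _ a.2) (SS_le _ b.2)).trans
        (by rw [f2, f2, ← h.r.mul (SS_le _ (f1 a)) (SS_le _ (f1 b))]; rfl)))
  obtain ⟨⟨c, c1⟩, hc⟩ := fR2 (MulEquiv.ofBijective θ (Finite.injective_iff_bijective.1
    ((injective_iff_map_eq_one θ).2 fun a e => Subtype.ext (h.l.inj1 (SS_le _ a.2)
      (by rw [f2, show f a = 1 from congrArg Subtype.val e, h.r.one])))))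
  have c2 := SS_le _ c1
  have a1 : Acts Φ (g⁻¹ * Φ m * g) wR := fun a ha => by
    have := h.aw a ha
    rw [hg a ha, hg _ (X_conj R_W.1 ha)] at this
    rw [show Φ (wR * a * wR⁻¹) = g⁻¹ * (g * Φ (wR * a * wR⁻¹) * g⁻¹) * g by group, ← this]; group
  have a2 := (((h.l.acts_self c2).inv (X_le c2)).mul a1 R_W.1).mul (h.l.acts_self c2) (X_le c2)
  rw [(SS_comm c1).inv_left.eq, inv_mul_cancel_right] at a2
  refine h.l.no_ext (g := g * Φ c) (fun a ha => ?_) ?_ (by group) h.av a2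
  · have e : c * a * c⁻¹ = f ⟨a, ha⟩ := congrArg (fun α : MulAut (SS W wR) => (α ⟨a, ha⟩).1) hc
    rw [show g * Φ c * Φ a * (g * Φ c)⁻¹ = g * (Φ c * Φ a * (Φ c)⁻¹) * g⁻¹ by group,
      ← h.l.conj c2 (SS_le _ ha), e, ← hg _ (SS_le _ (f1 _)), ← f2]
  · rw [hg m m_X.1, mul_assoc g, (h.l.z_comm c2).eq]; group

theorem no_R (h : Two Φ Ψ wR w) : False := by
  obtain ⟨r, rfl | rfl | rfl | rfl | rfl | rfl, Ψ, -, h⟩ := h.pair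
  exacts [no_J h.symm, no_RR h, h.symm.nd 10 card_A card_R, h.nd 9 card_R card_T, h.nd 9 card_R card_B,
    h.nd 9 card_R card_E]

theorem no_A (h : Two Φ Ψ wA w) : False := by
  obtain ⟨r, rfl | rfl | rfl | rfl | rfl | rfl, Ψ, -, h⟩ := h.pair
  · exact no_J h.symm
  · exact no_R h.symm
  · obtain ⟨Y, s, f1, f2⟩ := fA
    obtain ⟨c, c1, c2, c3⟩ := h.inner A_X.1 sq_val.2.2.1
    obtain ⟨y, y1, y2, y3⟩ := f1 c c2
    obtain ⟨b, b1, b2⟩ := h.trY s s y1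
    exact y3 (h.v4 A_X.1 sq_val.2.2.1 A_X.1 sq_val.2.2.1 (s.X y1) b2
      (f2 b b1 (h.cm s s y1 b1 b2 c1 m_X.1 c3 y2)))
  exacts [h.nd 10 card_A card_T, h.nd 10 card_A card_B, h.nd 10 card_A card_E]

theorem no_TT (h : Two Φ Ψ wT wT) : False := by
  obtain ⟨Y, Q, s, q1, q2, q3, ⟨x, x1, x2, x3⟩, ⟨c, c1, c2, c3, c4, c5⟩, f⟩ := fT
  have hQ : Q ≤ X := fun _ hq => s.X (q2 hq)
  have key : ∀ {Φ Ψ : G0 → G}, Two Φ Ψ wT wT → ∀ q ∈ Q, ∃ q' ∈ Q, Φ q = Ψ q' := fun {Φ Ψ} h q hq => by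
    obtain ⟨a, a1, k, k1, -, e⟩ := h.r.tl h.aw h.hw (OO_symm (Φ m) (Ψ m) ▸ h.l.mem_OO h.av x1)
    have a2 := SS_le _ a1
    have A : Acts Ψ (Φ x) a := by simpa only [e, mul_one] using (h.r.acts_self a2).mul k1 (one_mem _)
    let K : Subgroup G0 :=
      { carrier := {y | y ∈ SS W wT ∧ y * a * y⁻¹ * a⁻¹ ∈ Q}
        one_mem' := ⟨one_mem _, by simp⟩
        mul_mem' := fun {y z} hy hz => ⟨mul_mem hy.1 hz.1, by
          convert mul_mem (q1 y hy.1 _ hz.2) hy.2 using 1; group⟩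
        inv_mem' := fun {y} hy => ⟨inv_mem hy.1, by
          convert q1 _ (inv_mem hy.1) _ (inv_mem hy.2) using 1; group⟩ }
    have hK : Y ≤ K := q3 K (fun y hy => ⟨((s y).1 (q2 hy)).1, by
      simpa only [mul_assoc] using mul_mem hy (q1 a a1 _ (inv_mem hy))⟩) fun b b1 b2 => by
        obtain ⟨d, d1, d2⟩ := h.symm.trY s s b1
        have := h.r.of_comm A (X_le a2) (s.X b1) (d2 ▸ (h.l.comm (SS_le _ x1) (s.X d1)).2 (x3 d d1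
          (h.symm.cm s s b1 d1 d2 (one_mem _) (one_mem _) (h.r.one.trans h.l.one.symm) b2)).symm)
        exact ⟨((s b).1 b1).1, by rw [← this.eq]; simp⟩
    have x4 : ∀ {y}, y ∈ Y → x * y⁻¹ * x⁻¹ ∈ X := fun hy => X_conj (X_le (SS_le _ x1)) (inv_mem (s.X hy))
    refine ext_closure h.l h.r ((closure_le _).2 ?_) hQ ?_ (x2 hq) <;> rintro _ ⟨y, hy, rfl⟩
    · simpa only [mul_assoc, SetLike.mem_coe] using mul_mem (s.X hy) (x4 hy)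
    · obtain ⟨z, z1, z2⟩ := h.trY s s hy
      refine ⟨_, (hK z1).2, ?_⟩
      rw [mul_assoc y, mul_assoc y, mul_assoc z, mul_assoc z, h.l.mul (s.X hy) (x4 hy),
        h.r.mul (s.X z1) (X_conj (X_le a2) (inv_mem (s.X z1))), ← A _ (inv_mem (s.X z1)),
        h.l.conj (SS_le _ x1) (inv_mem (s.X hy)), h.l.inv (s.X hy), h.r.inv (s.X z1), z2]
  obtain ⟨d, d1, d2⟩ := h.trY s s c1
  have d3 : d * d = 1 := h.r.inj1 (mul_mem (s.X d1) (s.X d1)) (by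
    rw [h.r.mul (s.X d1) (s.X d1), ← d2, ← h.l.mul (s.X c1) (s.X c1), c2, h.l.one])
  obtain ⟨g, g1, g2⟩ := (cls' (mul_mem (X_le (s.X d1)) T_W.1) (by
    rw [(s.w d1).symm.mul_mul_mul_comm, d3, sq_val.2.2.2.1, mul_one])).2.2 (f d d1 d3
      (mt (h.symm.cm s s d1 c1 d2.symm (one_mem _) (one_mem _) (h.r.one.trans h.l.one.symm)) c3)
      fun e => by
        obtain ⟨q, q4, q5⟩ := key h.symm d e
        exact c4 (h.l.inj (s.X c1) (hQ q4) (d2.trans q5) ▸ q4))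
  obtain ⟨g, g1, g2⟩ : ∃ g ∈ X, g * (d * wT) * g⁻¹ = wT := by
    by_cases e : g ∈ X
    · exact ⟨g, e, g2⟩
    · exact ⟨_, mul_mem_X T_W.1 g1 T_W.2.1 e, by
        rw [show wT * g * (d * wT) * (wT * g)⁻¹ = wT * (g * (d * wT) * g⁻¹) * wT⁻¹ by group, g2]; group⟩
  have e1 : Ψ g * Φ (c * m) * (Ψ g)⁻¹ = Φ m := by
    have e2 := h.aw _ (inv_mem g1)
    rw [h.l.mul (s.X c1) m_X.1, d2, ← h.r.inv g1, ← mul_assoc, ← h.r.mul g1 (s.X d1), mul_assoc,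
      mul_inv_eq_iff_eq_mul.1 e2, ← mul_assoc, ← h.r.mul (mul_mem g1 (s.X d1)) (X_conj T_W.1 (inv_mem g1)),
      show g * d * (wT * g⁻¹ * wT⁻¹) = g * (d * wT) * g⁻¹ * wT⁻¹ by group, g2, mul_inv_cancel, h.r.one,
      one_mul]
  rw [(s.m c1).eq] at e1
  have e3 : nf (m * c) = 48 := (nf_neg c).trans c5
  have e4 := mul_mem m_X.1 (s.X c1)
  obtain ⟨_, _, _, h'⟩ := h.l.bad e4 (isConj_iff.2 ⟨_, e1⟩).symm (by omega)
    ((cls' (X_le e4) (neg_sq (X_le (s.X c1)) c2)).1 e3) (X_le A_X.1)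
  exact no_A h'

theorem no_T (h : Two Φ Ψ wT w) : False := by
  obtain ⟨r, rfl | rfl | rfl | rfl | rfl | rfl, Ψ, -, h⟩ := h.pair
  exacts [no_J h.symm, no_R h.symm, no_A h.symm, no_TT h, h.symm.nd 8 card_B card_T,
    h.symm.nd 8 card_E card_T]

theorem Two.not_B (h : Two Φ Ψ v wB) (ha : a ∈ SS W v) (a2 : a * a = 1) : Φ a ≠ Ψ m := fun e => by
  obtain ⟨b, b1, b2, -⟩ := h.tr ha (j := 1) (by rw [pow_one, pow_two, a2])
  exact fB.1 (h.r.inj (SS_le _ b1) m_X.1 (b2.symm.trans e) ▸ b1)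

theorem no_EB (h : Two Φ Ψ wE wB) : False := by
  obtain ⟨c, -, rfl | rfl, e⟩ := h.inner E_X.1 sq_val.2.2.2.2.2
  exacts [h.not_B fE.2.1 sq_val.2.2.2.2.2 e,
    h.not_B (mul_mem fE.1 fE.2.1) (neg_sq (X_le E_X.1) sq_val.2.2.2.2.2) e]

theorem Two.B6 (h : Two Φ Ψ wB w) : Φ wB = Ψ m := by
  obtain ⟨r, rfl | rfl | rfl | rfl | rfl | rfl, Ψ, e, h⟩ := h.pair
  · exact (no_J h.symm).elim
  · exact (no_R h.symm).elim
  · exact (no_A h.symm).elim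
  · exact (no_T h.symm).elim
  · obtain ⟨c, -, rfl | rfl, e'⟩ := h.inner B_X.1 sq_val.2.2.2.2.1
    exacts [e'.trans e, (h.not_B fB.2.1 (neg_sq (X_le B_X.1) sq_val.2.2.2.2.1) e').elim]
  · exact (no_EB h.symm).elim

theorem no_B (h : Two Φ Ψ wB w) : False := by
  obtain ⟨-, -, ρ, r1, r2, a, b, c, d, o, i1, i2, i3, i4⟩ := fB
  have b2 := sq_val.2.2.2.2.1
  have e := h.B6
  have r3 := X_conj (X_le r1) B_X.1
  have r4 : ρ * wB * ρ⁻¹ * (ρ * wB * ρ⁻¹) = 1 := by rw [conj_mul, b2, mul_one, mul_inv_cancel]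
  have c1 : IsConj (Φ wB) (Φ (ρ * wB * ρ⁻¹)) := isConj_iff.2 ⟨_, (h.l.conj r1 B_X.1).symm⟩
  have c2 : IsConj (Φ wB) (Φ wB * Φ (ρ * wB * ρ⁻¹)) := c1.trans (isConj_iff.2 ⟨Φ ρ, by
    rw [← h.l.conj r1 r3, ← r2, h.l.mul B_X.1 r3]⟩)
  have c3 : Commute (ρ * wB * ρ⁻¹) wB := by
    have : wB * (ρ * wB * ρ⁻¹) * (wB * (ρ * wB * ρ⁻¹)) = 1 := by
      rw [r2, conj_mul, r4, mul_one, mul_inv_cancel]
    generalize ρ * wB * ρ⁻¹ = y at this r4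
    rw [commute_iff_eq, ← inv_eq_of_mul_eq_one_right this, mul_inv_rev, inv_eq_of_mul_eq_one_right r4,
      inv_eq_of_mul_eq_one_right b2]
  have n1 : Φ (ρ * wB * ρ⁻¹) ≠ Ψ m := fun n => h.r.z_ne (by
    rwa [n, e, h.r.z_sq, isConj_one_left] at c2)
  generalize ρ * wB * ρ⁻¹ = y at *
  obtain ⟨v, hv, a1⟩ := h.r.acts (e ▸ (h.l.comm r3 B_X.1).2 c3)
  obtain ⟨Θ, u, t1, t2⟩ := h.r.two (e ▸ c1) n1 hv a1
  obtain ⟨r, rfl | rfl | rfl | rfl | rfl | rfl, Ψ', e', t⟩ := t2.ty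
  · exact no_J t
  · exact no_R t
  · exact no_A t
  · exact no_T t
  · have x1 := mul_mem m_X.1 B_X.1
    rw [← t1, ← t.B6, e, ← e', ← t.l.mul m_X.1 B_X.1] at c2
    have x2 : m * wB ≠ m := fun n => t.r.z_ne (by rw [← t.B6, mul_eq_left.1 n, t.l.one])
    obtain ⟨Θ', _, t3, t4⟩ := t.l.two c2 (mt (t.l.inj x1 m_X.1) x2) (X_le x1) (t.l.acts_self x1)
    exact m_sq.2 (mul_eq_right.1 (t.l.inj x1 B_X.1
      (t3.symm.trans (t4.of_sign (.inr rfl) (X_le B_X.1)).B6.symm)))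
  · obtain ⟨-, -, Y, s, -⟩ := fE
    have k : ∀ x ∈ [a, b, c, d], x ∈ X ∧ Φ x ∈ OO (Ψ' m) (Θ m) := fun x hx => by
      obtain ⟨o1, o2, o3, o4⟩ := o x hx
      have o5 := odd_mem_X o1 o2
      exact ⟨o5, subset_closure ⟨h.l.ord o5 ▸ o2, by rw [e', ← e]; exact (h.l.comm o5 B_X.1).2 o3,
        t1 ▸ (h.l.comm o5 r3).2 o4⟩⟩
    have k' : ∀ x ∈ [a, b, c, d], ∀ x' ∈ [a, b, c, d], x * x' * (x * x') = 1 →
        x * x' ∈ X ∧ ∃ p ∈ Y, Φ (x * x') = Ψ' p := fun x hx x' hx' n => by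
      have x1 := mul_mem (k x hx).1 (k x' hx').1
      obtain ⟨p, p1, p2, p3⟩ := t.l.tl2 t.av t.hv (mul_mem (k x hx).2 (k x' hx').2) (j := 1) (by
        rw [← h.l.mul (k x hx).1 (k x' hx').1, pow_one, pow_two, ← h.l.mul x1 x1, n, h.l.one])
      exact ⟨x1, p, (s p).2 ⟨p1, by rw [pow_succ' 2, pow_mul, ← pow_one 2, p3, one_pow]⟩,
        (h.l.mul (k x hx).1 (k x' hx').1).trans p2⟩
    obtain ⟨x1, p, p1, p2⟩ := k' a (by simp) b (by simp) i1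
    obtain ⟨x2, q, q1, q2⟩ := k' c (by simp) d (by simp) i2
    refine i3 (eq_one_of_odd (j := 8) (Odd.of_dvd_nat (by decide) (orderOf_dvd_of_pow_eq_one i4))
      (h.l.inj1 (pow_mem (mul_mem x1 x2) _) ?_))
    rw [h.l.pow (mul_mem x1 x2), h.l.mul x1 x2, p2, q2, ← t.l.mul (s.X p1) (s.X q1),
      ← t.l.pow (s.X (mul_mem p1 q1)), ((s _).1 (mul_mem p1 q1)).2, t.l.one]

theorem no_E (h : Two Φ Ψ wE w) : False := by
  obtain ⟨r, rfl | rfl | rfl | rfl | rfl | rfl, Ψ, -, h⟩ := h.pair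
  · exact no_J h.symm
  · exact no_R h.symm
  · exact no_A h.symm
  · exact no_T h.symm
  · exact no_EB h
  obtain ⟨-, -, Y, s, ⟨a, a1, a2, a3, g, g1, g2⟩, ⟨k, k1, k2⟩, f⟩ := fE
  have e2 := sq_val.2.2.2.2.2
  obtain ⟨c, -, c2, c3⟩ := h.inner E_X.1 e2
  obtain ⟨d, d1, d2, d3⟩ := h.symm.inner E_X.1 e2
  obtain ⟨b, b1, b2⟩ := h.trY s s a1
  have c4 : IsConj (Ψ m) (Ψ b) := by
    rw [← b2, ← c3]
    refine IsConj.trans ?_ (isConj_iff.2 ⟨Φ g, by rw [← h.l.conj g1 E_X.1, g2]⟩)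
    rcases c2 with rfl | rfl
    exacts [IsConj.refl _, (isConj_iff.2 ⟨Φ k, by rw [← h.l.conj k1 E_X.1, k2]⟩).symm]
  have b3 : b * b = 1 := h.r.inj1 (mul_mem (s.X b1) (s.X b1)) (by
    obtain ⟨x, hx⟩ := isConj_iff.1 c4
    rw [h.r.mul (s.X b1) (s.X b1), ← hx, conj_mul, h.r.z_sq, mul_one, mul_inv_cancel])
  have b4 := h.cm s s a1 b1 b2 m_X.1 d1 d3.symm a2
  rcases f b b1 b3 (by rcases d2 with rfl | rfl; exacts [.inl b4, .inr b4]) with b5 | b5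
  · exact a3 (h.v4 E_X.1 e2 E_X.1 e2 (s.X a1) b2 b5)
  · obtain ⟨_, _, _, h'⟩ := h.r.bad (s.X b1) c4 (by omega) ((cls' (X_le (s.X b1)) b3).2.1 b5) (X_le B_X.1)
    exact no_B h'

theorem Ctx.main (h : Ctx Φ) {s : G} (h1 : IsConj (Φ m) s) (h2 : Commute s (Φ m)) : s = Φ m := by
  by_contra n
  obtain ⟨v, hv, e⟩ := h.acts h2
  obtain ⟨Ψ, w, -, t⟩ := h.two h1 n hv e
  obtain ⟨r, rfl | rfl | rfl | rfl | rfl | rfl, _, -, t⟩ := t.ty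
  exacts [no_J t, no_R t, no_A t, no_T t, no_B t, no_E t]

end Cfsg.Agent.STD.O8
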