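import Cfsg.Agent.STD.O8W
import Cfsg.Agent.STD.O8D4
import Cfsg.Agent.STD.O8Cov
import Cfsg.Agent.S2098
import Cfsg.Agent.H29.Transport

/-! The double cover of `Ω₈⁺(2)` is `X = W(E₈)'`, its automorphisms are induced by `W(E₈)`; the elements of
`W(E₈)` with square `±1`. -/

set_option autoImplicit false
set_option maxRecDepth 100000

namespace Cfsg.Agent.STD.O8

open Cfsg.Agent.H14 Cfsg.Agent.H96 Subgroup Function
open scoped commutatorElement

noncomputable def sig : X →* Om :=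
  (pi.comp (inclusion X_le)).codRestrict Om fun a => (mem_X _).1 a.2

theorem sig_coe (a : X) : (sig a : G1) = pi ⟨a, X_le a.2⟩ := rfl

theorem sig_surj : Surjective sig := fun q => by
  obtain ⟨a, ha⟩ := range_pi.ge (Om_le q.2)
  exact ⟨⟨a, (mem_X a.2).2 (ha ▸ q.2)⟩, Subtype.ext ha⟩

theorem mem_ker_sig {a : X} : a ∈ sig.ker ↔ a.1 = 1 ∨ a.1 = m := by
  refine ⟨fun h => ker_pi (g := ⟨a, X_le a.2⟩) (congrArg Subtype.val h), ?_⟩
  obtain ⟨a, ha⟩ := a
  rintro (rfl | rfl)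
  exacts [one_mem _, Subtype.ext pi_m]

theorem card_ker_sig : Nat.card sig.ker = 2 := by
  have := card_of_surj sig_surj
  rw [card_X, card_Om] at this
  omega

theorem mem_center_X {a : X} : a ∈ center X ↔ a ∈ sig.ker := by
  rw [mem_ker_sig, mem_center_iff]
  refine ⟨fun h => faith (X_le a.2) fun b hb => congrArg Subtype.val (h ⟨b, hb⟩).symm, fun h b => ?_⟩
  refine Subtype.ext (h.elim (fun e => ?_) fun e => ?_)
  · simp [e]
  · simpa [e] using (m_comm (X_le b.2)).eq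

theorem stem_sig : IsStemExtension sig := by
  refine ⟨sig_surj, fun a => mem_center_X.2, fun a ha => ?_⟩
  obtain ⟨x, a1, a2⟩ : ∃ x ∈ X, E.pk x = nqa := ⟨_, inX_mem (allL_iff.1 in_ok nqa (by simp))⟩
  obtain ⟨y, b1, b2⟩ : ∃ x ∈ X, E.pk x = nqb := ⟨_, inX_mem (allL_iff.1 in_ok nqb (by simp))⟩
  have h := q_ok
  simp only [Bool.and_eq_true, beq_iff] at h
  rw [← a2, ← b2, ← m_X.2] at h
  simp only [pk_mu, pk_iv, E.pk_inj] at h
  rcases mem_ker_sig.1 ha with e | e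
  · exact (show a = 1 from Subtype.ext e) ▸ one_mem _
  · exact (show ⁅(⟨_, a1⟩ : X), (⟨_, b1⟩ : X)⁆ = a from Subtype.ext (h.1.1.trans e.symm)) ▸
      commutator_mem_commutator (mem_top _) (mem_top _)

theorem center_Om : center (commutator O8p) = ⊥ := eq_bot_iff.2 fun _ hx => mem_bot.2 (Subtype.ext
  (mem_bot.1 (cent_comm_O8p ▸ fun y hy => congrArg Subtype.val (mem_center_iff.1 hx ⟨y, hy⟩))))

noncomputable def eP : POmega (ZMod 2) (quadFormPlus 4 (ZMod 2)) ≃* Om :=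
  ((QuotientGroup.quotientMulEquivOfEq center_Om).trans QuotientGroup.quotientBot).trans eOm

/-- conjugation by `W` -/
noncomputable def cX (v : W) : X ≃* X where
  toFun a := ⟨v * a * v⁻¹, X_conj v.2 a.2⟩
  invFun a := ⟨v.1⁻¹ * a * v.1⁻¹⁻¹, X_conj (inv_mem v.2) a.2⟩
  left_inv a := Subtype.ext (by simp [mul_assoc])
  right_inv a := Subtype.ext (by simp [mul_assoc])
  map_mul' a b := Subtype.ext (by simp [mul_assoc])

noncomputable def cO' : Wb →* MulAut Om :=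
  Om.normalizerMonoidHom.comp (inclusion fun _ hg => mem_normalizer_fintype fun _ => Om_conj hg)

theorem cO'_coe (g : Wb) (q : Om) : (cO' g q : G1) = g * q * g⁻¹ := rfl

theorem cO'_sig (v : W) (a : X) : sig (cX v a) = cO' ⟨pi v, pi_mem v⟩ (sig a) := by
  refine Subtype.ext ?_
  rw [cO'_coe, sig_coe, sig_coe, coe_inv, ← map_inv, ← map_mul, ← map_mul]; rfl

theorem index_cO' : cO'.range.index = 3 := by
  have hi : Injective cO' := (injective_iff_map_eq_one _).2 fun g hg => Subtype.ext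
    (cent_Om g.2 fun q hq => mul_inv_eq_iff_eq_mul.1
      ((cO'_coe g ⟨q, hq⟩).symm.trans (by rw [hg]; rfl)))
  have h := cO'.range.card_mul_index
  rw [← Nat.card_congr (MonoidHom.ofInjective hi).toEquiv, card_Wb,
    ← Nat.card_congr (MulAut.congr eOm).toEquiv, card_aut_comm_O8p] at h
  omega

theorem exists_tri : ∃ α : MulAut Om, α ∉ Lift sig := by
  have colD1 : colOK (nat_lit 240) (nat_lit 120) (rowD 0) = true := colOK_rowD (by decide)
  have colD2 : colOK (nat_lit 240) (nat_lit 120) (rowD 120) = true := colOK_rowD (by decide)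
  have dg1_ok := allL_iff.2 fun z hz => incOK_of_res E (by decide) (allL_iff.1 dg1_ok z hz)
  have dg2_ok := allL_iff.2 fun z hz => incOK_of_res E (by decide) (allL_iff.1 dg2_ok z hz)
  obtain ⟨χ, c1, c2⟩ := exists_hom (E := E) (E' := E7) colD1 dg1_ok
  obtain ⟨ψ, d1, d2⟩ := exists_hom (E := E) (E' := E7) colD2 dg2_ok
  have ch := Enc.isChain_of_ssOK (E := E) (fun P hP => by
    obtain ⟨z, hz, rfl⟩ := List.mem_map.1 hP
    exact ⟨_, (mem_Inc (E' := E7) (allL_iff.1 dg1_ok z hz)).1⟩) ssD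
  have hc : Nat.card (E.grp (dg1.map Prod.fst)) = 174182400 := by rw [ch.card]; decide +kernel
  rw [dg_eq.2.1] at c2
  rw [dg_eq.2.2, show E7.grp (xs.rotate 1) = Om by simp only [Om, Enc.grp, List.mem_rotate]] at d2
  revert ψ
  rw [dg_eq.1]
  intro ψ d1 d2
  have k : ∀ f : E.grp (dg1.map Prod.fst) →* G1, f.range = Om →
      ∃ e : E.grp (dg1.map Prod.fst) ≃* Om, ∀ g, (e g : G1) = f g := fun f hf =>
    ⟨(MulEquiv.ofBijective _ (f.rangeRestrict_surjective.bijective_of_nat_card_le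
      (by rw [hc, hf, card_Om]))).trans (MulEquiv.subgroupCongr hf), fun _ => rfl⟩
  obtain ⟨e1, f1⟩ := k χ c2
  obtain ⟨e2, f2⟩ := k ψ d2
  refine ⟨e1.symm.trans e2, ?_⟩
  rintro ⟨e, he⟩
  have h := de_ok
  simp only [Bool.and_eq_true] at h
  obtain ⟨j, j1, j2, j3⟩ : ∃ j, ∃ j1 : j ∈ X, E.pk j = nj ∧ (sig ⟨j, j1⟩ : G1) = E7.perm (piP nj) :=
    ⟨_, (inX_mem (allL_iff.1 in_ok nj (by simp))).1, (inX_mem (allL_iff.1 in_ok nj (by simp))).2,
      (sig_coe _).trans (of_inX (allL_iff.1 in_ok nj (by simp))).2.2.1⟩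
  have b3 : (sig ⟨wB, B_X.1⟩ : G1) = E7.perm (piP nB) :=
    (sig_coe _).trans (of_inX (allL_iff.1 in_ok nB (by simp))).2.2.1
  obtain ⟨d, d0, i1, i2⟩ : ∃ d ∈ E.grp (dg1.map Prod.fst), (d, E7.perm (piP nB)) ∈ Inc E E7 (rowD 0) ∧
      (d, E7.perm (piP nj)) ∈ Inc E E7 (rowD 120) := ⟨_, (of_inG ch h.1.1).1,
    (mem_Inc (incOK_of_res E (by decide) h.1.2)).2.2, (mem_Inc (incOK_of_res E (by decide) h.2)).2.2⟩
  have g1 : e1 ⟨d, d0⟩ = sig ⟨wB, B_X.1⟩ :=
    Subtype.ext (((f1 _).trans (Inc_right colD1 (c1 ⟨d, d0⟩) i1)).trans b3.symm)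
  have g2 : e2 ⟨d, d0⟩ = sig ⟨j, j1⟩ :=
    Subtype.ext (((f2 _).trans (Inc_right colD2 (d1 ⟨d, d0⟩) i2)).trans j3.symm)
  have g3 := he ⟨wB, B_X.1⟩
  rw [← g1, MulEquiv.trans_apply, e1.symm_apply_apply, g2, ← inv_mul_eq_one, ← map_inv, ← map_mul] at g3
  have q1 := q_ok
  have q2 := allL_iff.1 sq_ok nB (by simp)
  simp only [Bool.and_eq_true, beq_iff] at q1 q2
  rw [← j2, ← m_X.2] at q1
  rw [← B_X.2] at q2
  simp only [pk_mu, pk_one, E.pk_inj] at q1 q2
  have q3 : (e ⟨wB, B_X.1⟩).1 * (e ⟨wB, B_X.1⟩).1 = 1 := by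
    rw [← coe_mul, ← map_mul, show (⟨wB, B_X.1⟩ * ⟨wB, B_X.1⟩ : X) = 1 from Subtype.ext q2, map_one]; rfl
  refine m_sq.2 (q1.1.2.symm.trans ?_)
  rcases mem_ker_sig.1 g3 with r | r <;> rw [coe_mul, coe_inv, inv_mul_eq_iff_eq_mul] at r
  · rw [show j = _ from r, mul_one, q3]
  · rw [show j = _ from r, (m_comm (X_le (e ⟨wB, B_X.1⟩).2)).symm.mul_mul_mul_comm, q3, m_sq.1,
      mul_one]

theorem lift_eq : Lift sig = cO'.range := by
  have h1 : cO'.range ≤ Lift sig := by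
    rintro _ ⟨g, rfl⟩
    obtain ⟨v, hv⟩ := range_pi.ge g.2
    exact ⟨cX v, fun x => (cO'_sig v x).trans (by rw [show g = ⟨pi v, pi_mem v⟩ from Subtype.ext hv.symm])⟩
  have h2 := index_dvd_of_le h1
  rw [index_cO', Nat.dvd_prime Nat.prime_three] at h2
  obtain ⟨α, hα⟩ := exists_tri
  have h3 := relIndex_mul_index h1
  rw [index_cO', h2.resolve_left fun e => hα (index_eq_one.1 e ▸ mem_top α)] at h3
  exact le_antisymm (relIndex_eq_one.1 (by omega)) h1

theorem perfect_Om : Group.IsPerfect Om := by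
  let e := H11.isoOG _ _ (H11.qPlus_eq (ZMod 2) 4)
  have h1 := (H11.nd_qPlus (ZMod 2) 4).omega_perfect (by simp)
  rw [_root_.commutator_def, ← Subgroup.map_top_of_surjective e.toMonoidHom e.surjective,
    ← map_commutator, ← map_commutator, ← _root_.commutator_def] at h1
  have : Group.IsPerfect (commutator O8p) :=
    (Subgroup.isPerfect_iff).2 (map_injective e.injective h1)
  exact Group.IsPerfect.ofSurjective (f := eOm.toMonoidHom) eOm.surjective

theorem aut_X (e : X ≃* X) : ∃ v : W, ∀ a, e a = cX v a := by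
  obtain ⟨α, hα⟩ := exists_ind sig_surj e fun x hx => mem_center_X.1 (mem_center_iff.2 fun b => by
    obtain ⟨b, rfl⟩ := e.surjective b
    rw [← map_mul, ← map_mul, mem_center_iff.1 (mem_center_X.2 hx)])
  obtain ⟨g, rfl⟩ := lift_eq.le ⟨e, hα⟩
  obtain ⟨v, hv⟩ := range_pi.ge g.2
  refine ⟨v, fun a => DFunLike.congr_fun (H81.lift_unique_of_perfect
    (H81.isPerfect_of_stem perfect_Om stem_sig) stem_sig.2.1 (φ := e.toMonoidHom)
    (ψ := (cX v).toMonoidHom) (MonoidHom.ext fun x => ?_)) a⟩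
  exact (hα x).trans ((cO'_sig v x).trans
    (by rw [show g = ⟨pi v, pi_mem v⟩ from Subtype.ext hv.symm])).symm

theorem equiv_X {L : Type*} [Group L] [Finite L] (hp : commutator L = ⊤) (h2 : Nat.card (center L) = 2)
    (e : L ⧸ center L ≃* POmega (ZMod 2) (quadFormPlus 4 (ZMod 2))) : Nonempty (L ≃* X) := by
  have hk : ((e.trans eP).toMonoidHom.comp (QuotientGroup.mk' _)).ker = center L := Subgroup.ext fun a =>
    (MulEquiv.map_eq_one_iff (e.trans eP)).trans (QuotientGroup.eq_one_iff a)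
  exact cover3 (H81.mult_congr_left (S2098.result (ZMod.card 2)) eP) (by simp) perfect_Om stem_sig
    card_ker_sig (lift_eq ▸ index_cO') ⟨(e.trans eP).surjective.comp (QuotientGroup.mk'_surjective _),
      hk.le, hp ▸ le_top⟩ (by rw [hk]; exact h2)

end Cfsg.Agent.STD.O8
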