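import Cfsg.Agent.AN.Red

/-! Standard components `2.A_n`: the local setting (project STD, see notes/STD.md). -/

set_option autoImplicit false

namespace Cfsg.Agent.STD

open Equiv Subgroup H3 H67 AN

variable {G : Type*} [Group G] {α : Type} [DecidableEq α] [Fintype α]

/-- `A` is a double cover of the alternating group with centre `⟨z⟩`, normal in `C(z)`, and `π` is the
action of `C(z)` on the points; `C(A)` is tightly embedded -/
structure SA (z : G) (A : Subgroup G) (π : G → Perm α) : Prop where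
  mem : z ∈ A
  ne : z ≠ 1
  sq : z * z = 1
  cz : ∀ a ∈ A, Commute a z
  mul : ∀ {g h}, Commute g z → Commute h z → π (g * h) = π g * π h
  norm : ∀ {g}, Commute g z → ∀ {a}, a ∈ A → g * a * g⁻¹ ∈ A
  ker : ∀ {g}, Commute g z → π g = 1 → ∀ a ∈ A, Commute g a
  kerK : ∀ {g}, (∀ a ∈ A, Commute g a) → π g = 1
  even : ∀ a ∈ A, Perm.sign (π a) = 1
  surj : ∀ σ, Perm.sign σ = 1 → ∃ a ∈ A, π a = σ
  kerA : ∀ a ∈ A, π a = 1 → a = 1 ∨ a = z
  dt : ∀ u ∈ A, ∀ {a b c d : α}, [a, b, c, d].Nodup → π u = swap a b * swap c d → u * u = z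
  tight : ∀ {k}, k * k = 1 → k ≠ 1 → (∀ a ∈ A, Commute k a) → ∀ {g}, Commute g k → Commute g z
  wc : ∀ g, (∀ a ∈ A, Commute (g * z * g⁻¹) a) → g * z * g⁻¹ = z

namespace SA

variable {z t : G} {A : Subgroup G} {π : G → Perm α}

theorem one (h : SA z A π) : π 1 = 1 := h.kerK fun _ _ => .one_left _

theorem map_z (h : SA z A π) : π z = 1 := h.kerK fun a ha => (h.cz a ha).symm

theorem inv (h : SA z A π) {g : G} (hg : Commute g z) : π g⁻¹ = (π g)⁻¹ :=
  eq_inv_of_mul_eq_one_left (by rw [← h.mul hg.inv_left hg, inv_mul_cancel, h.one])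

theorem conj (h : SA z A π) {g k : G} (hg : Commute g z) (hk : Commute k z) :
    π (g * k * g⁻¹) = π g * π k * (π g)⁻¹ := by
  rw [h.mul (hg.mul_left hk) hg.inv_left, h.mul hg hk, h.inv hg]

theorem pow (h : SA z A π) {g : G} (hg : Commute g z) (m : ℕ) : π (g ^ m) = π g ^ m := by
  induction m with
  | zero => simpa using h.one
  | succ m ih => rw [pow_succ, pow_succ, h.mul (hg.pow_left m) hg, ih]

theorem comm (h : SA z A π) {g k : G} (hg : Commute g z) (hk : Commute k z) (e : Commute g k) :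
    Commute (π g) (π k) := by
  change π g * π k = π k * π g
  rw [← h.mul hg hk, e.eq, h.mul hk hg]

theorem app (h : SA z A π) {g k : G} (hg : Commute g z) (hk : Commute k z) (e : Commute g k) (p : α) :
    π g (π k p) = π k (π g p) := by
  rw [← Perm.mul_apply, (h.comm hg hk e).eq, Perm.mul_apply]

theorem app2 (h : SA z A π) {g : G} (hg : Commute g z) (e : g * g = 1) (p : α) : π g (π g p) = p := by
  rw [← Perm.mul_apply, ← h.mul hg hg, e, h.one, Perm.one_apply]

theorem app3 (h : SA z A π) {g : G} (hg : Commute g z) (e : g ^ 3 = 1) (p : α) :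
    π g (π g (π g p)) = p := by
  rw [← Perm.mul_apply, ← Perm.mul_apply, ← pow_three', ← h.pow hg, e, h.one, Perm.one_apply]

/-- the action of `A` as a homomorphism -/
def hom (h : SA z A π) : A →* Perm α :=
  MonoidHom.mk' (fun a => π a) fun a b => h.mul (h.cz a a.2) (h.cz b b.2)

theorem dc (h : SA z A π) : DC h.hom ⟨z, h.mem⟩ := by
  refine ⟨⟨⟨fun g => h.even g g.2, fun σ hσ => ?_, fun g hg => mem_center_iff.2 fun k =>
    Subtype.ext (h.ker (h.cz g g.2) hg k k.2).symm.eq⟩, fun g hg => Subtype.ext ?_⟩,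
    fun e => h.ne (congrArg Subtype.val e), fun g => ⟨fun hg => (h.kerA g g.2 hg).imp Subtype.ext
      Subtype.ext, ?_⟩, fun u a b c d h1 h2 => Subtype.ext ?_⟩
  · obtain ⟨a, ha, e⟩ := h.surj σ hσ
    exact ⟨⟨a, ha⟩, e⟩
  · rcases h.kerA g g.2 hg with e | e <;> simp [e, pow_two, h.sq]
  · rintro (rfl | rfl)
    exacts [h.one, h.map_z]
  · rw [coe_pow, pow_two]
    exact h.dt u u.2 h1 h2

theorem eq_or (h : SA z A π) {a b : G} (ha : a ∈ A) (hb : b ∈ A) (e : π a = π b) :
    a = b ∨ a = b * z :=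
  (h.dc.eq_or (g := ⟨a, ha⟩) (k := ⟨b, hb⟩) e).imp (congrArg Subtype.val) (congrArg Subtype.val)

theorem lift3 (h : SA z A π) {σ : Perm α} (h3 : σ ^ 3 = 1) : ∃ a ∈ A, π a = σ ∧ a ^ 3 = 1 := by
  obtain ⟨a, h1, h2⟩ := h.dc.toCov.exists_lift (m := 3) (by decide) h3
  exact ⟨a, a.2, h1, congrArg Subtype.val h2⟩

theorem comm3 (h : SA z A π) {g a : G} (hg : Commute g z) (ha : a ∈ A) (h3 : a ^ 3 = 1)
    (e : Commute (π g) (π a)) : Commute g a := by
  rcases h.eq_or (h.norm hg ha) ha (by rw [h.conj hg (h.cz a ha), e.eq, mul_inv_cancel_right])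
    with e1 | e1
  · exact mul_inv_eq_iff_eq_mul.1 e1
  · have := congrArg (· ^ 3) e1
    simp only [conj_pow, (h.cz a ha).mul_pow, h3, mul_one, mul_inv_cancel, one_mul] at this
    rw [pow_three, h.sq, mul_one] at this
    exact absurd this.symm h.ne

/-- an element of `A` commutes with every element of `C(z)` acting by a disjoint permutation -/
theorem comm_disj (h : SA z A π) {g a : G} (hg : Commute g z) (ha : a ∈ A)
    (hd : Perm.Disjoint (π a) (π g)) : Commute a g := by
  by_cases h0 : π a = 1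
  · rcases h.kerA a ha h0 with rfl | rfl
    exacts [.one_left _, hg.symm]
  obtain ⟨p, hp⟩ : ∃ p, π a p ≠ p := by
    by_contra! h1
    exact h0 (Equiv.ext h1)
  have hb : π a (π a p) ≠ π a p := fun e => hp ((π a).injective e)
  obtain ⟨c, hc, h1⟩ : π a ∈ ((centralizer {g}).subgroupOf A).map h.hom :=
    Alt_le (Δ := (π a).support) p (π a p) (fun i hi h1 h2 => by
      obtain ⟨y, h3, h4, h5⟩ := h.lift3 (c3_cube hp.symm h1 h2)
      refine ⟨⟨y, h3⟩, mem_centralizer_singleton_iff.2 (h.comm3 hg h3 h5 ?_).symm.eq, h4⟩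
      refine Perm.Disjoint.commute fun q => ?_
      by_cases h6 : π g q = q
      · exact .inl h6
      have h7 := (hd q).resolve_right h6
      rw [h4]
      exact .inr (c3_apply_of_ne (fun e => hp (e ▸ h7)) (fun e => hb (e ▸ h7))
        fun e => Perm.mem_support.1 hi (e ▸ h7))) (mem_Alt_support (h.even a ha))
  have h2 : Commute (c : G) g := mem_centralizer_singleton_iff.1 hc
  rcases h.eq_or ha c.2 h1.symm with e | e <;> rw [e]
  · exact h2
  · exact h2.mul_left hg.symm

/-- a lift of the product of two transpositions of `π t` commutes with `t` -/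
theorem exists_two (h : SA z A π) (ht : Commute t z) (t2 : t * t = 1) {a b : α}
    (hn : [a, π t a, b, π t b].Nodup) :
    ∃ v ∈ A, π v = swap a (π t a) * swap b (π t b) ∧ Commute v t := by
  have x2 := h.app2 ht t2
  simp only [List.nodup_cons, List.mem_cons, List.not_mem_nil, or_false, not_or] at hn
  obtain ⟨v, hA, hv⟩ := h.surj (swap a (π t a) * swap b (π t b)) (by simp [hn.1.1, hn.2.2.1])
  refine ⟨v, hA, hv, ?_⟩
  have : Commute v (v⁻¹ * t) := h.comm_disj ((h.cz v hA).inv_left.mul_left ht) hA (by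
    rw [h.mul (h.cz v hA).inv_left ht, h.inv (h.cz v hA), hv, mul_inv_rev, swap_inv, swap_inv]
    intro p
    have := x2 a
    have := x2 b
    simp only [Perm.mul_apply, swap_apply_def]
    grind)
  simpa using (Commute.refl v).mul_right this

theorem mem_of_dt (h : SA z A π) {M : Subgroup G} {y v : G} (hy : y ∈ M) (yz : Commute y z)
    (hv : v ∈ A) (hM : v * y⁻¹ * v⁻¹ ∈ M) {a b c d : α} (hn : [a, b, c, d].Nodup)
    (e : π y * π v * (π y)⁻¹ * (π v)⁻¹ = swap a b * swap c d) : z ∈ M := by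
  have vz := h.cz v hv
  have k : y * v * y⁻¹ * v⁻¹ ∈ M := by simpa only [mul_assoc] using mul_mem hy hM
  rw [← h.dt (y * v * y⁻¹ * v⁻¹) (mul_mem (h.norm yz hv) (inv_mem hv)) hn (by
    rw [h.mul ((yz.mul_left vz).mul_left yz.inv_left) vz.inv_left, h.conj yz vz, h.inv vz, e])]
  exact mul_mem k k

/-- an element of order three of `C(z, t)` moving a point moved by `t` -/
theorem mem_of_moves (h : SA z A π) (ht : Commute t z) (t2 : t * t = 1) {M : Subgroup G}
    (hM : ∀ c ∈ A, Commute c t → ∀ y ∈ M, c * y * c⁻¹ ∈ M) {y : G} (hy : y ∈ M) (yz : Commute y z)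
    (yt : Commute y t) (h3 : y ^ 3 = 1) {a : α} (a1 : π t a ≠ a) (a2 : π y a ≠ a) : z ∈ M := by
  have x2 := h.app2 ht t2
  have yx := h.app yz ht yt
  have y3 := h.app3 yz h3
  have := x2 a
  have := y3 a
  have := yx a
  have := yx (π y a)
  have := yx (π y (π y a))
  have := x2 (π y a)
  have := x2 (π y (π y a))
  have := y3 (π y a)
  obtain ⟨v, hA, hv, hv'⟩ := h.exists_two ht t2 (a := a) (b := π y a) (by simp; grind)
  refine h.mem_of_dt hy yz hA (hM v hA hv' _ (inv_mem hy)) (a := a) (b := π t a)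
    (c := π y (π y a)) (d := π y (π y (π t a))) (by simp; grind) ?_
  rw [hv, ← yx, ← conj_mul, ← swap_apply_apply, ← swap_apply_apply, mul_inv_rev, swap_inv, swap_inv]
  ext p
  simp only [Perm.mul_apply, swap_apply_def]
  grind

/-- transport along an automorphism -/
theorem map (h : SA z A π) (β : G ≃* G) :
    SA (β z) (A.comap β.symm.toMonoidHom) fun x => π (β.symm x) := by
  have c : ∀ {g k : G}, Commute g (β k) → Commute (β.symm g) k := fun {g k} e => by
    simpa using e.map β.symm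
  have c' : ∀ {g k : G}, Commute (β.symm g) k → Commute g (β k) := fun {g k} e => by
    simpa using e.map β
  have k : ∀ {g : G}, (∀ a ∈ A.comap β.symm.toMonoidHom, Commute g a) →
      ∀ a ∈ A, Commute (β.symm g) a := fun e a ha => c (e _ (by simpa using ha))
  refine ⟨by simpa using h.mem, by simpa using h.ne, by rw [← map_mul, h.sq, map_one],
    fun a ha => c' (h.cz _ ha), fun hg hk => by rw [map_mul, h.mul (c hg) (c hk)],
    fun hg a ha => by simpa using h.norm (c hg) ha,
    fun hg e a ha => by simpa using (h.ker (c hg) e _ ha).map β, fun e => h.kerK (k e),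
    fun a ha => h.even _ ha, fun σ hσ => ?_, fun a ha e => ?_, fun u hu a b c d hn e => ?_,
    fun {x} x2 x1 e g hg => c' (h.tight (k := β.symm x) (by rw [← map_mul, x2, map_one])
      (by simpa using x1) (k e) (hg.map β.symm)), fun g e => ?_⟩
  · obtain ⟨a, ha, rfl⟩ := h.surj σ hσ
    exact ⟨β a, by simpa using ha, by simp⟩
  · exact (h.kerA _ ha e).imp (by simp) fun e => by rw [← e]; simp
  · rw [← h.dt _ hu hn e]; simp
  · have := h.wc (β.symm g) (by simpa using k e)
    simpa using congrArg β this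

end SA

/-- the elements of `C(z, t)` fixing every point moved by `t` -/
def SA.Fx {z : G} {A : Subgroup G} {π : G → Perm α} (h : SA z A π) (t : G) : Subgroup G where
  carrier := {g | Commute g z ∧ Commute g t ∧ ∀ p, π t p ≠ p → π g p = p}
  one_mem' := ⟨.one_left _, .one_left _, fun p _ => by simp [h.one]⟩
  mul_mem' := fun {g k} hg hk => ⟨hg.1.mul_left hk.1, hg.2.1.mul_left hk.2.1, fun p hp => by
    rw [h.mul hg.1 hk.1, Perm.mul_apply, hk.2.2 p hp, hg.2.2 p hp]⟩
  inv_mem' := fun {g} hg => ⟨hg.1.inv_left, hg.2.1.inv_left, fun p hp => by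
    rw [h.inv hg.1, Perm.inv_eq_iff_eq, hg.2.2 p hp]⟩

theorem supp_le {φ τ : Perm α} (f1 : φ * φ = τ) (t2 : τ * τ = 1)
    (f2 : ∀ u : Perm α, u ^ 3 = 1 → Commute τ u →
      φ * (u * φ * u⁻¹) = u * φ * u⁻¹ * φ ∨ φ * (u * φ * u⁻¹) = u * φ * u⁻¹ * φ * τ) :
    τ.support.card ≤ 8 := by
  by_contra! h9
  have x2 : ∀ p, τ (τ p) = p := fun p => by rw [← Perm.mul_apply, t2, Perm.one_apply]
  have ff : ∀ p, τ p = φ (φ p) := fun p => by rw [← f1, Perm.mul_apply]
  obtain ⟨a, ha, -⟩ := exists_not_mem (S := τ.support) [] (by simp only [List.length_nil]; omega)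
  obtain ⟨c, hc, hc'⟩ := exists_not_mem (S := τ.support) [a, φ a, τ a, τ (φ a)] (by simp; omega)
  obtain ⟨p, hp, hp'⟩ := exists_not_mem (S := τ.support)
    [a, φ a, τ a, τ (φ a), c, φ c, τ c, τ (φ c)] (by simp; omega)
  rw [Perm.mem_support] at ha hc hp
  simp only [List.mem_cons, List.not_mem_nil, or_false, not_or] at hc' hp'
  have f4 : ∀ q, φ (φ (φ (φ q))) = q := fun q => by rw [← ff, ← ff, x2]
  simp only [ff] at ha hc hp hc' hp'
  have n1 := four_nodup f4 ha
  have n2 := four_nodup f4 hc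
  have n3 := four_ne f4 hc'
  have n4 := four_ne f4 (a := a) (c := p) (by tauto)
  have n5 := four_ne f4 (a := c) (c := p) (by tauto)
  simp only [List.nodup_cons, List.mem_cons, List.not_mem_nil, or_false, not_or, forall_eq_or_imp,
    forall_eq] at n1 n2 n3 n4 n5
  obtain ⟨u, t1, t2, t3, t4, t5, t6⟩ := two_c3 (a := a) (b := φ a) (c := c) (a' := φ (φ a))
    (b' := φ (φ (φ a))) (c' := φ (φ c)) (by simp; grind)
  simp only [List.mem_cons, List.not_mem_nil, or_false, not_or] at t5
  have g1 : ∀ q, (u * φ * u⁻¹) (u q) = u (φ q) := fun q => by simp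
  have h1 := f2 u t1 (t6 _ x2 (ff _) (ff _) (ff _))
  generalize u * φ * u⁻¹ = g at *
  rcases h1 with e | e
  · have e1 := congrArg (fun w => w a) e
    have e2 := g1 c
    have e3 := g1 a
    simp only [Perm.mul_apply] at e1
    rw [t4, t5 (φ c) (by grind)] at e2
    rw [t2, t3] at e3
    rw [e2, e3] at e1
    exact hc e1
  · have e1 := congrArg (fun w => w p) e
    have e2 := g1 p
    have e3 := g1 (φ (φ (φ p)))
    simp only [Perm.mul_apply] at e1
    rw [t5 p (by grind), t5 (φ p) (by grind)] at e2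
    rw [f4, t5 p (by grind), t5 (φ (φ (φ p))) (by grind)] at e3
    rw [e2, ff, e3] at e1
    exact hp e1

end Cfsg.Agent.STD
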