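import Cfsg.Agent.STD.An1

/-! Standard components `2.A_n`: two commuting conjugates of the central involution. -/

set_option autoImplicit false

namespace Cfsg.Agent.STD

open Equiv Subgroup H3 H67 AN

variable {G : Type*} [Group G] {α : Type} [DecidableEq α] [Fintype α]

theorem mem_of_card {S : Finset α} {l : List α} (hn : l.Nodup) (hl : ∀ x ∈ l, x ∈ S)
    (h : S.card ≤ l.length) {p : α} (hp : p ∈ S) : p ∈ l := by
  rw [← List.mem_toFinset, Finset.eq_of_subset_of_card_le (s := l.toFinset) (t := S)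
    (fun x hx => hl x (List.mem_toFinset.1 hx)) (by rwa [List.toFinset_card_of_nodup hn])]
  exact hp

/-- two commuting involutions with standard components, neither centralising the other component -/
structure P2 (z : G) (A : Subgroup G) (π : G → Perm α) (t : G) (B : Subgroup G) (ρ : G → Perm α) :
    Prop where
  l : SA z A π
  r : SA t B ρ
  c : Commute t z
  nl : π t ≠ 1
  nr : ρ z ≠ 1

/-- `M` is normalised by `C(z, t)` -/
def Nm (z t : G) (M : Subgroup G) : Prop :=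
  ∀ c, Commute c z → Commute c t → ∀ y ∈ M, c * y * c⁻¹ ∈ M

theorem Nm.symm {z t : G} {M : Subgroup G} (h : Nm z t M) : Nm t z M := fun c h1 h2 => h c h2 h1

namespace P2

variable {z t : G} {A B : Subgroup G} {π ρ : G → Perm α}

theorem symm (h : P2 z A π t B ρ) : P2 t B ρ z A π := ⟨h.r, h.l, h.c.symm, h.nr, h.nl⟩

theorem nm_Fx (h : P2 z A π t B ρ) : Nm z t (h.l.Fx t) := fun c cz ct g hg =>
  ⟨(cz.mul_left hg.1).mul_left cz.inv_left, (ct.mul_left hg.2.1).mul_left ct.inv_left, fun p hp => by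
    have e := h.l.app cz.inv_left h.c ct.inv_left p
    rw [h.l.conj cz hg.1, Perm.mul_apply, Perm.mul_apply, ← h.l.inv cz, hg.2.2, h.l.inv cz]
    · simp
    rw [← e]
    exact fun e => hp ((π c⁻¹).injective e)⟩

theorem not_mem_Fx (h : P2 z A π t B ρ) : t ∉ h.l.Fx t := fun e =>
  h.nl (Equiv.ext fun p => by_contra fun hp => hp (e.2.2 p hp))

theorem mem_of_moves (h : P2 z A π t B ρ) {M : Subgroup G} (hM : Nm z t M) {y : G} (hy : y ∈ M)
    (yz : Commute y z) (yt : Commute y t) (h3 : y ^ 3 = 1) (hF : y ∉ h.l.Fx t) : z ∈ M := by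
  obtain ⟨a, a1, a2⟩ : ∃ a, π t a ≠ a ∧ π y a ≠ a := by
    by_contra! e
    exact hF ⟨yz, yt, e⟩
  exact h.l.mem_of_moves h.c h.r.sq (fun c hc => hM c (h.l.cz c hc)) hy yz yt h3 a1 a2

theorem fix_le (h : P2 z A π t B ρ) : (π t).supportᶜ.card ≤ 3 := by
  by_contra! h4
  obtain ⟨a, a1, -⟩ := exists_not_mem (S := (π t).supportᶜ) [] (by simp only [List.length_nil]; omega)
  obtain ⟨b, b1, b2⟩ := exists_not_mem (S := (π t).supportᶜ) [a] (by simp only [List.length_singleton]; omega)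
  obtain ⟨c, c1, c2⟩ := exists_not_mem (S := (π t).supportᶜ) [a, b] (by simp only [List.length_cons, List.length_nil]; omega)
  obtain ⟨d, d1, d2⟩ := exists_not_mem (S := (π t).supportᶜ) [a, b, c] h4
  simp only [Finset.mem_compl, Perm.mem_support, not_not, List.mem_cons, List.not_mem_nil, or_false,
    not_or] at a1 b1 b2 c1 c2 d1 d2
  have k : ∀ i, π t i = i → Perm.Disjoint (c3 a b i) (π t) := fun i hi p => by
    simp only [c3, Perm.mul_apply, swap_apply_def]
    grind
  obtain ⟨u, uA, hu, u3⟩ := h.l.lift3 (c3_cube (Ne.symm b2) c2.1 c2.2)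
  obtain ⟨v, vA, hv⟩ := h.l.surj _ (sign_c3 (Ne.symm b2) d2.1)
  have ut := h.l.comm_disj h.c uA (hu ▸ k c c1)
  have vt := h.l.comm_disj h.c vA (hv ▸ k d d1)
  have uz := h.l.cz u uA
  by_cases hF : u ∈ h.r.Fx z
  · refine h.symm.not_mem_Fx (h.l.mem_of_dt hF uz vA
      (h.symm.nm_Fx v vt (h.l.cz v vA) _ (inv_mem hF)) (a := a) (b := b) (c := c) (d := d)
      (by simp; grind) ?_)
    rw [hv, c3_conj, hu, c3_first (Ne.symm b2) c2.2, c3_second,
      c3_apply_of_ne d2.1 d2.2.1 d2.2.2, c3, c3, mul_inv_rev, swap_inv, swap_inv]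
    ext p
    simp only [Perm.mul_apply, swap_apply_def]
    grind
  · exact h.not_mem_Fx (h.symm.mem_of_moves h.nm_Fx.symm
      ⟨uz, ut, fun p hp => hu ▸ (k c c1 p).resolve_right hp⟩ ut uz u3 hF)

theorem supp_ge (h : P2 z A π t B ρ) (h8 : 8 ≤ Fintype.card α) : 5 ≤ (π t).support.card := by
  have := h.fix_le
  have := Finset.card_add_card_compl (π t).support
  omega

theorem supp_eq' (h : P2 z A π t B ρ) (h8 : 8 ≤ Fintype.card α) : (ρ z).support.card = 8 := by
  have h5 := h.supp_ge h8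
  have x2 := h.l.app2 h.c h.r.sq
  obtain ⟨a, a1, -⟩ := exists_not_mem (S := (π t).support) [] (by simp only [List.length_nil]; omega)
  obtain ⟨b, b1, b2⟩ := exists_not_mem (S := (π t).support) [a, π t a] (by simp; omega)
  rw [Perm.mem_support] at a1 b1
  simp only [List.mem_cons, List.not_mem_nil, or_false, not_or] at b2
  have := x2 a
  have := x2 b
  have hn : [a, π t a, b, π t b].Nodup := by simp; grind
  obtain ⟨v, vA, hv, vt⟩ := h.l.exists_two h.c h.r.sq hn
  have f1 : ρ v * ρ v = ρ z := by rw [← h.r.mul vt vt, h.l.dt v vA hn hv]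
  have f2 : ρ z * ρ z = 1 := by rw [← h.r.mul h.c.symm h.c.symm, h.l.sq, h.r.one]
  have h1 := supp_le f1 f2 fun u u3 hu => by
    obtain ⟨c, cB, rfl, c3⟩ := h.r.lift3 u3
    have ct := h.r.cz c cB
    have cz := (h.r.comm3 h.c.symm cB c3 hu).symm
    have vz := h.l.cz v vA
    have wA := h.l.norm cz vA
    have wt := (ct.mul_left vt).mul_left ct.inv_left
    have hc := h.l.app cz h.c ct
    rw [← h.r.conj ct vt, ← h.r.mul vt wt, ← h.r.mul wt vt, ← h.r.mul (wt.mul_left vt) h.c.symm]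
    refine (h.l.eq_or (mul_mem vA wA) (mul_mem wA vA) ?_).imp (congrArg ρ) (congrArg ρ)
    rw [h.l.mul vz (h.l.cz _ wA), h.l.mul (h.l.cz _ wA) vz, h.l.conj cz vz, hv, ← conj_mul,
      ← swap_apply_apply, ← swap_apply_apply, hc, hc]
    have k := swap_comm_inv x2
    exact (((k _ _).mul_right (k _ _)).mul_left ((k _ _).mul_right (k _ _))).eq
  obtain ⟨k, -, hk⟩ := cycleType_inv (σ := ρ z) (by rw [sq, f2])
    (by rw [← f1, map_mul, Int.units_mul_self])
  have := h.symm.supp_ge h8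
  omega

theorem supp_eq (h : P2 z A π t B ρ) (h8 : 8 ≤ Fintype.card α) : (π t).support.card = 8 :=
  h.symm.supp_eq' h8

theorem card_le (h : P2 z A π t B ρ) (h8 : 8 ≤ Fintype.card α) : Fintype.card α ≤ 11 := by
  have := h.fix_le
  have := h.supp_eq h8
  have := Finset.card_add_card_compl (π t).support
  omega

theorem exists_three (h : P2 z A π t B ρ) (h8 : 8 ≤ Fintype.card α) :
    ∃ y ∈ A, y ^ 3 = 1 ∧ Commute y t ∧ y ∉ h.r.Fx z := by
  have h5 := h.supp_ge h8
  have x2 := h.l.app2 h.c h.r.sq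
  obtain ⟨a, a1, -⟩ := exists_not_mem (S := (π t).support) [] (by simp only [List.length_nil]; omega)
  obtain ⟨b, b1, b2⟩ := exists_not_mem (S := (π t).support) [a, π t a] (by simp; omega)
  obtain ⟨c, c1, c2⟩ := exists_not_mem (S := (π t).support) [a, π t a, b, π t b] (by simp; omega)
  rw [Perm.mem_support] at a1 b1 c1
  simp only [List.mem_cons, List.not_mem_nil, or_false, not_or] at b2 c2
  have := x2 a
  have := x2 b
  have := x2 c
  obtain ⟨u, t1, t2, -, -, -, t6⟩ := two_c3 (a := a) (b := b) (c := c) (a' := π t a)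
    (b' := π t b) (c' := π t c) (by simp; grind)
  obtain ⟨y, yA, rfl, y3⟩ := h.l.lift3 t1
  have yt := (h.l.comm3 h.c yA y3 (t6 _ x2 rfl rfl rfl)).symm
  refine ⟨y, yA, y3, yt, fun e => h.symm.not_mem_Fx (h.mem_of_moves h.symm.nm_Fx.symm e
    (h.l.cz y yA) yt y3 fun e => b2.1 ?_)⟩
  rw [← t2, e.2.2 a a1]

theorem mem (h : P2 z A π t B ρ) (h8 : 8 ≤ Fintype.card α) : t ∈ A := by
  obtain ⟨y, yA, y3, yt, hy⟩ := h.exists_three h8
  exact h.symm.mem_of_moves (fun c _ cz y hy => h.l.norm cz hy) yA yt (h.l.cz y yA) y3 hy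

/-- `C(A) = ⟨z⟩ × (C(A) ∩ F)` -/
theorem mem_or (h : P2 z A π t B ρ) (h8 : 8 ≤ Fintype.card α) {k : G} (hk : ∀ a ∈ A, Commute k a) :
    k ∈ h.r.Fx z ∨ k * z ∈ h.r.Fx z := by
  obtain ⟨y, yA, y3, yt, hy⟩ := h.exists_three h8
  have yz := h.l.cz y yA
  obtain ⟨a, a1, a2⟩ : ∃ a, ρ z a ≠ a ∧ ρ y a ≠ a := by
    by_contra! e
    exact hy ⟨yt, yz, e⟩
  have hs := h.supp_eq' h8
  have x2 := h.r.app2 h.c.symm h.l.sq
  have yx := h.r.app yt h.c.symm yz
  have y3' := h.r.app3 yt y3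
  obtain ⟨b, hb⟩ : ∃ b, ρ y a = b := ⟨_, rfl⟩
  obtain ⟨c, hc⟩ : ∃ c, ρ y b = c := ⟨_, rfl⟩
  have ha : ρ y c = a := by rw [← hc, ← hb, y3']
  obtain ⟨d, d1, d2⟩ := exists_not_mem (S := (ρ z).support) [a, b, c, ρ z a, ρ z b, ρ z c]
    (by simp; omega)
  rw [Perm.mem_support] at d1
  simp only [List.mem_cons, List.not_mem_nil, or_false, not_or] at d2
  have e1 := yx a
  have e2 := yx b
  have e3 := yx c
  have e4 := yx d
  have := x2 a
  have := x2 b
  have := x2 c
  have := x2 d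
  have := y3' (ρ z a)
  have hn : [a, b, c, d, ρ z a, ρ z b, ρ z c, ρ z d].Nodup := by
    simp only [List.nodup_cons, List.mem_cons, List.not_mem_nil, or_false, not_or, List.nodup_nil]
    and_intros <;> grind
  have all : ∀ p, ρ z p ≠ p → p = a ∨ p = b ∨ p = c ∨ p = d ∨ p = ρ z a ∨ p = ρ z b ∨ p = ρ z c ∨
      p = ρ z d := fun p hp => by
    simpa using mem_of_card hn (S := (ρ z).support) (by simp; grind) (by simp; omega)
      (Perm.mem_support.2 hp)
  simp only [List.nodup_cons, List.mem_cons, List.not_mem_nil, or_false, not_or] at hn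
  have hd : ρ y d = d := by
    have := all (ρ y d) (by grind)
    have := y3' d
    grind
  obtain ⟨u, t1, t2, t3, -, -, t6⟩ := two_c3 (a := a) (b := b) (c := d) (a' := ρ z a)
    (b' := ρ z b) (c' := ρ z d) (by simp; grind)
  obtain ⟨s, sB, rfl, s3⟩ := h.r.lift3 t1
  have sz := (h.r.comm3 h.c.symm sB s3 (t6 _ x2 rfl rfl rfl)).symm
  have st := h.r.cz s sB
  have wd : ρ (s * y * s⁻¹) b = d := by
    rw [h.r.conj st yt, Perm.mul_apply, Perm.mul_apply, Perm.inv_eq_iff_eq.2 t2.symm, hb, t3]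
  have key : ∀ k, (∀ a ∈ A, Commute k a) → ρ k d = d → k ∈ h.r.Fx z := fun k hk kd => by
    have kt := hk t (h.mem h8)
    have kz := hk z h.l.mem
    have k1 := h.r.app kt yt (hk y yA)
    have k2 := h.r.app kt h.c.symm kz
    have k3 := h.r.app kt ((st.mul_left yt).mul_left st.inv_left) (hk _ (h.l.norm sz yA)) b
    have kb : ρ k b = b := (ρ (s * y * s⁻¹)).injective (by rw [← k3, wd, kd])
    have kc : ρ k c = c := by rw [← hc, k1, kb]
    have ka : ρ k a = a := by rw [← ha, k1, kc]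
    refine ⟨kt, kz, fun p hp => ?_⟩
    rcases all p hp with e | e | e | e | e | e | e | e <;> simp only [e, k2, ka, kb, kc, kd]
  have kt := hk t (h.mem h8)
  have k1 := h.r.app kt yt (hk y yA) d
  have k2 := h.r.app kt h.c.symm (hk z h.l.mem) d
  have h1 : ρ k d = d ∨ ρ k d = ρ z d := by
    have := all (ρ k d) fun e => d1 ((ρ k).injective (k2.trans e))
    grind
  refine h1.imp (key k hk) fun e => key _ (fun a ha => (hk a ha).mul_left (h.l.cz a ha).symm) ?_
  rw [h.r.mul kt h.c.symm, Perm.mul_apply, k2, e, x2]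

theorem no_inv (h : P2 z A π t B ρ) (h8 : 8 ≤ Fintype.card α) {k : G} (hk : ∀ a ∈ A, Commute k a)
    (hF : k ∈ h.r.Fx z) (k2 : k * k = 1) : k = 1 := by
  by_contra k1
  have h5 := h.symm.supp_ge h8
  have x2 := h.r.app2 h.c.symm h.l.sq
  obtain ⟨a, a1, -⟩ := exists_not_mem (S := (ρ z).support) [] (by simp only [List.length_nil]; omega)
  obtain ⟨b, b1, b2⟩ := exists_not_mem (S := (ρ z).support) [a, ρ z a] (by simp; omega)
  rw [Perm.mem_support] at a1 b1
  simp only [List.mem_cons, List.not_mem_nil, or_false, not_or] at b2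
  obtain ⟨u, uB, hu⟩ := h.r.surj _ (sign_c3 a1.symm b2.1)
  have := x2 a
  have h1 := h.r.app (h.r.cz u uB) h.c.symm (h.l.tight k2 k1 hk (h.r.comm_disj hF.1 uB fun p => by
    have := hF.2.2 p
    rw [hu]
    simp only [c3, Perm.mul_apply, swap_apply_def]
    grind)) a
  rw [hu, c3_second, c3_first a1.symm b2.2, x2] at h1
  exact b2.1 h1

theorem odd_iff [Finite G] (h : P2 z A π t B ρ) (h8 : 8 ≤ Fintype.card α) {k : G}
    (hk : ∀ a ∈ A, Commute k a) : Odd (orderOf k) ↔ k ∈ h.r.Fx z := by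
  refine ⟨fun ho => (h.mem_or h8 hk).resolve_right fun e => h.symm.not_mem_Fx ?_, fun hF => ?_⟩
  · have := pow_mem e (orderOf k)
    obtain ⟨m, hm⟩ := ho
    rwa [(hk z h.l.mem).mul_pow, pow_orderOf_eq_one, one_mul, hm, pow_succ, pow_mul, sq, h.l.sq,
      one_pow, one_mul] at this
  · by_contra ho
    obtain ⟨m, hm⟩ := Nat.not_odd_iff_even.1 ho
    have := orderOf_pos k
    have h1 := orderOf_dvd_of_pow_eq_one (h.no_inv h8 (k := k ^ m) (fun a ha => (hk a ha).pow_left m)
      (pow_mem hF m) (by rw [← pow_add, ← hm, pow_orderOf_eq_one]))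
    have := Nat.le_of_dvd (by omega) h1
    omega

/-- an element of order four of `A` inverted by `t`, centralising the elements of odd order of `C(B)` -/
theorem exists_c [Finite G] (h : P2 z A π t B ρ) (h8 : 8 ≤ Fintype.card α) :
    ∃ c ∈ A, c * c = z ∧ c * t * c⁻¹ = t * z ∧
      ∀ k, (∀ b ∈ B, Commute k b) → Odd (orderOf k) → Commute c k := by
  have tA := h.mem h8
  obtain ⟨a, b, c, d, u, r, e1, e2, e0, e3, e4, e5, e6, -⟩ := h.l.dc.exists_dt (x := ⟨t, tA⟩)
    (Subtype.ext (by simp [pow_two, h.r.sq])) (fun e => h.r.ne (congrArg Subtype.val e))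
    (fun e => h.nl (by rw [show t = z from congrArg Subtype.val e, h.l.map_z]))
  obtain ⟨u, uA⟩ := u
  obtain ⟨r, rA⟩ := r
  replace e0 : t = u * r := congrArg Subtype.val e0
  change π u = _ at e2
  change π r _ = _ at e3 e4 e5 e6
  have e7 := e1
  simp only [List.nodup_cons, List.mem_cons, List.not_mem_nil, or_false, not_or] at e7
  obtain ⟨k, kA, hk⟩ := h.l.surj (swap a c * swap b d) (by simp [e7.1.2.1, e7.2.1.2])
  have hc : Commute k r := h.l.comm_disj (h.l.cz r rA) kA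
    (by rw [hk]; exact H84.dt_disjoint e3 e5 e4 e6)
  have h2 := h.l.dt k kA (a := a) (b := c) (c := b) (d := d) (by simp; grind) hk
  have h3 := h.l.dt u uA e1 e2
  have h4 := h.l.dt (k * u) (mul_mem kA uA) (a := a) (b := d) (c := b) (d := c) (by simp; grind) (by
    rw [h.l.mul (h.l.cz k kA) (h.l.cz u uA), hk, e2]
    ext p; simp only [Perm.mul_apply, swap_apply_def]; grind)
  refine ⟨k, kA, h2, ?_, fun x hx ho => ?_⟩
  · have h5 : k * u * k⁻¹ = u * z := by
      have a1 : k⁻¹ = k * z := by rw [inv_eq_iff_mul_eq_one, ← mul_assoc, h2, h.l.sq]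
      have a2 : k * u * k * u = z := by rw [← h4]; group
      have a3 : u⁻¹ = u * z := by rw [inv_eq_iff_mul_eq_one, ← mul_assoc, h3, h.l.sq]
      rw [a1, ← mul_assoc, eq_mul_inv_of_mul_eq a2, ← (h.l.cz _ (inv_mem uA)).eq, mul_assoc, h.l.sq,
        mul_one, a3]
    calc k * t * k⁻¹ = k * u * k⁻¹ * (k * r * k⁻¹) := by rw [e0]; group
      _ = t * z := by
        rw [h5, hc.eq, mul_inv_cancel_right, mul_assoc, ← (h.l.cz r rA).eq, e0, mul_assoc]
  · have hF := (h.symm.odd_iff h8 hx).1 ho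
    have h6 : π t = (swap a b * swap c d) * π r := by rw [e0, h.l.mul (h.l.cz u uA) (h.l.cz r rA), e2]
    refine h.l.comm_disj hF.1 kA (hk ▸ H84.dt_disjoint ?_ ?_ ?_ ?_) <;> refine hF.2.2 _ ?_ <;>
      simp only [h6, Perm.mul_apply, e3, e4, e5, e6, swap_apply_def] <;> grind

end P2

end Cfsg.Agent.STD
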