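import Cfsg.Agent.STD.An2
import Cfsg.Agent.STD.Top
import Cfsg.Agent.STD1.Ctx
import Cfsg.Agent.S2119

/-! Standard components `2.A_n`, `n ≥ 8`, in simple groups are involution centralisers. -/

set_option autoImplicit false

namespace Cfsg.Agent.STD

open Equiv Subgroup H3 H67 AN

variable {G : Type*} [Group G] {α : Type} [DecidableEq α] [Fintype α]

namespace SA

variable {z : G} {A : Subgroup G} {π : G → Perm α}

theorem p2 (h : SA z A π) {g : G} (hc : Commute (g * z * g⁻¹) z) (hne : g * z * g⁻¹ ≠ z) :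
    P2 z A π (g * z * g⁻¹) (A.comap (MulAut.conj g).symm.toMonoidHom)
      fun x => π ((MulAut.conj g).symm x) := by
  refine ⟨h, h.map (MulAut.conj g), hc, fun e => hne (h.wc g (h.ker hc e)), fun e => hne ?_⟩
  have := h.wc g⁻¹ (by
    simpa using h.ker (by simpa [mul_assoc] using hc.symm.map (MulAut.conj g).symm) e)
  exact (congrArg (g * · * g⁻¹) this.symm).trans (by group)

theorem ord (h : SA z A π) : orderOf z = 2 := orderOf_eq_prime (by rw [pow_two, h.sq]) h.ne

/-- the elements of odd order of `C(A)` -/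
def Od (A : Subgroup G) : Set G := {k | (∀ a ∈ A, Commute k a) ∧ Odd (orderOf k)}

theorem od_conj' (h : SA z A π) {g k : G} (hg : Commute g z) (hk : k ∈ Od A) :
    g * k * g⁻¹ ∈ Od A :=
  ⟨fun a ha => by simpa [mul_assoc] using (hk.1 _ (h.norm hg.inv_left ha)).map (MulAut.conj g),
    ((MulAut.conj g).orderOf_eq k).symm ▸ hk.2⟩

variable [Finite G]

theorem od_conj (h : SA z A π) (h8 : 8 ≤ Fintype.card α) {g k : G}
    (hg : Commute (g * z * g⁻¹) z) (hk : k ∈ Od A) : g * k * g⁻¹ ∈ Od A := by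
  by_cases hne : g * z * g⁻¹ = z
  · exact h.od_conj' (mul_inv_eq_iff_eq_mul.1 hne) hk
  have p := h.p2 hg hne
  obtain ⟨c, -, -, c1, c2⟩ := p.exists_c h8
  obtain ⟨d, -, -, d1, d2⟩ := p.symm.exists_c h8
  have h1 := h.od_conj' (g := d⁻¹ * c * g) (mul_inv_eq_iff_eq_mul.1 (by
    calc d⁻¹ * c * g * z * (d⁻¹ * c * g)⁻¹ = d⁻¹ * (c * (g * z * g⁻¹) * c⁻¹) * d := by group
      _ = z := by rw [c1, hg.eq, ← d1]; group)) hk
  have h2 := c2 (g * k * g⁻¹) (fun b hb => by
    simpa [mul_assoc] using (hk.1 _ hb).map (MulAut.conj g))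
    (((MulAut.conj g).orderOf_eq k).symm ▸ hk.2)
  have h3 := d2 _ h1.1 h1.2
  have h4 : d⁻¹ * c * g * k * (d⁻¹ * c * g)⁻¹ = d⁻¹ * (g * k * g⁻¹) * d := by
    calc _ = d⁻¹ * (c * (g * k * g⁻¹) * c⁻¹) * d := by group
      _ = _ := by rw [h2.eq, mul_inv_cancel_right]
  rw [h4] at h1 h3
  rwa [show g * k * g⁻¹ = d * (d⁻¹ * (g * k * g⁻¹) * d) * d⁻¹ by group, h3.eq, mul_inv_cancel_right]

theorem two_central (h : SA z A π) (h8 : 8 ≤ Fintype.card α) :
    ∃ S : Sylow 2 G, z ∈ S ∧ ∀ s ∈ S, Commute s z :=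
  STD.two_central h.ord fun g hc hne => by
    obtain ⟨c, cA, c1, c2, -⟩ := (h.p2 hc hne).exists_c h8
    exact ⟨c, 2, by rw [show 2 ^ 2 = 2 * 2 from rfl, pow_mul, pow_two, pow_two, c1, h.sq],
      h.cz c cA, c2⟩

variable [IsSimpleGroup G]

theorem exists_conj (h : SA z A π) (hG : ¬ IsMulCommutative G) :
    ∃ g : G, Commute (g * z * g⁻¹) z ∧ g * z * g⁻¹ ≠ z := by
  have hO : oddCore G = ⊥ := (pPrimeCore_normal 2 G).eq_bot_or_eq_top.resolve_right fun e => by
    have := (H44.pPrimeCore_coprime (p := 2) (G := G)).coprime_dvd_left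
      (orderOf_dvd_natCard _ (e ▸ mem_top z))
    rw [h.ord] at this
    exact absurd this (by decide)
  rcases STD1.central_or_conj hO h.ord with e | ⟨g, h1, h2⟩
  · rcases (inferInstance : (center G).Normal).eq_bot_or_eq_top with e1 | e1
    · exact absurd (mem_bot.1 (e1 ▸ mem_center_iff.2 e)) h.ne
    · exact absurd ⟨⟨fun a b => mem_center_iff.1 (e1 ▸ mem_top b) a⟩⟩ hG
  · exact ⟨g, h2, h1⟩

theorem eq_of_cent (h : SA z A π) (h8 : 8 ≤ Fintype.card α) (hG : ¬ IsMulCommutative G) {k : G}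
    (hk : ∀ a ∈ A, Commute k a) : k = 1 ∨ k = z := by
  obtain ⟨S, hz, hS⟩ := h.two_central h8
  obtain ⟨g, hc, hne⟩ := h.exists_conj hG
  have p := h.p2 hc hne
  obtain ⟨c, cA, c1, c2, -⟩ := p.exists_c h8
  generalize g * z * g⁻¹ = t at p c2
  have c4 : orderOf c = 4 := orderOf_eq_prime_pow (p := 2) (n := 1)
    (by rw [pow_one, pow_two, c1]; exact h.ne)
    (by rw [show 2 ^ (1 + 1) = 2 * 2 from rfl, pow_mul, pow_two, pow_two, c1, h.sq])
  have hM : normalizer (Od A) = ⊤ := zd_top h.ord hS hz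
    (fun g hg => mem_set_normalizer_iff.2 fun k => ⟨h.od_conj h8 hg, fun hk => by
      simpa [mul_assoc] using h.od_conj h8 (g := g⁻¹)
        (by simpa [mul_assoc] using hg.symm.map (MulAut.conj g).symm) hk⟩)
    (fun g hg hne => by
      obtain ⟨d, -, -, d1, -⟩ := (h.p2 hg hne).symm.exists_c h8
      exact ⟨d, d1⟩) (a := c * t) (b := t)
    (orderOf_eq_prime (by
      calc (c * t) ^ 2 = c * t * c⁻¹ * (c * c) * t := by rw [pow_two]; group
        _ = 1 := by rw [c2, c1, mul_assoc t, h.sq, mul_one, p.r.sq]) fun e => by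
      rw [eq_inv_of_mul_eq_one_left e, orderOf_inv, p.r.ord] at c4
      exact absurd c4 (by decide)) p.r.ord (by rw [mul_assoc, p.r.sq, mul_one, c4])
  have hO : ((centralizer (A : Set G) ⊓ p.r.Fx z : Subgroup G) : Set G) = Od A := by
    ext x
    exact and_congr ⟨fun e a ha => (e a ha).symm, fun e a ha => (e a ha).symm.eq⟩ Iff.rfl |>.trans
      (and_congr_right fun hx => (p.odd_iff h8 hx).symm)
  rw [← hO] at hM
  have h1 := (normalizer_eq_top_iff.1 hM).eq_bot_or_eq_top.resolve_right fun e =>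
    p.symm.not_mem_Fx (e.ge (mem_top z)).2
  have h2 : ∀ k, (∀ a ∈ A, Commute k a) → k ∈ p.r.Fx z → k = 1 := fun k hk e =>
    mem_bot.1 (h1.le ⟨fun a ha => (hk a ha).symm.eq, e⟩)
  refine (p.mem_or h8 hk).imp (h2 k hk) fun e => ?_
  rw [eq_inv_of_mul_eq_one_left (h2 _ (fun a ha => (hk a ha).mul_left (h.cz a ha).symm) e),
    inv_eq_of_mul_eq_one_right h.sq]

theorem mem_of_comm (h : SA z A π) (h8 : 8 ≤ Fintype.card α) (hG : ¬ IsMulCommutative G) {g : G}
    (hg : Commute g z) : g ∈ A := by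
  have ev : ∀ {g}, Commute g z → Perm.sign (π g) = 1 → g ∈ A := fun {g} hg e => by
    obtain ⟨a, ha, e1⟩ := h.surj _ e
    have az := (h.cz a ha).inv_left
    refine (mul_mem_cancel_left (inv_mem ha)).1 ?_
    rcases h.eq_of_cent h8 hG (h.ker (az.mul_left hg)
      (by rw [h.mul az hg, h.inv (h.cz a ha), e1, inv_mul_cancel])) with e | e <;> rw [e]
    exacts [one_mem _, h.mem]
  refine ev hg ((Int.units_eq_one_or _).resolve_right fun e => ?_)
  obtain ⟨u, uz, u2, u1⟩ : ∃ u, Commute u z ∧ u * u = 1 ∧ Perm.sign (π u) = -1 := by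
    obtain ⟨p, -, q, -, -, -, hpq⟩ := H67.exists_two (S := (Finset.univ : Finset α)) (T := ∅) (by simp; omega)
    obtain ⟨a, ha, e1⟩ := h.surj (swap p q * (π g)⁻¹) (by simp [hpq, e])
    have sz := (h.cz a ha).mul_left hg
    have hs : π (a * g) = swap p q := by rw [h.mul (h.cz a ha) hg, e1, inv_mul_cancel_right]
    generalize a * g = s at sz hs
    rcases h.eq_of_cent h8 hG (h.ker (sz.mul_left sz) (by rw [h.mul sz sz, hs, swap_mul_self]))
      with e2 | e2
    · exact ⟨s, sz, e2, by simp [hs, hpq]⟩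
    obtain ⟨a, -, b, -, a1, b1, hab⟩ := H67.exists_two (S := (Finset.univ : Finset α)) (T := {p, q})
      (by have := Finset.card_le_two (a := p) (b := q); simp; omega)
    obtain ⟨c, -, d, -, c1, d1, hcd⟩ := H67.exists_two (S := (Finset.univ : Finset α)) (T := {p, q, a, b})
      (by have := Finset.card_le_four (a := p) (b := q) (c := a) (d := b); simp; omega)
    simp only [Finset.mem_insert, Finset.mem_singleton, not_or] at a1 b1 c1 d1
    obtain ⟨v, vA, hv⟩ := h.surj (swap a b * swap c d) (by simp [hab, hcd])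
    have vs := h.comm_disj sz vA (by
      rw [hv, hs]
      exact H84.dt_disjoint (by grind) (by grind) (by grind) (by grind))
    refine ⟨v * s, (h.cz v vA).mul_left sz, ?_, by
      simp [h.mul (h.cz v vA) sz, hv, hs, hab, hcd, hpq]⟩
    rw [← pow_two, vs.mul_pow, pow_two, pow_two, h.dt v vA (by simp; grind) hv, e2, h.sq]
  obtain ⟨S, -, hS⟩ := h.two_central h8
  obtain ⟨x, a, ha, e1⟩ := transfer_into hG hS (MonoidHom.mk' (fun g => Perm.sign (π g)) fun a b => by
    rw [coe_mul, h.mul (mem_centralizer_singleton_iff.1 a.2) (mem_centralizer_singleton_iff.1 b.2),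
      map_mul]) (u := ⟨u, mem_centralizer_singleton_iff.2 uz⟩) (Subtype.ext u2) (by simp [u1])
  have aA := ev (mem_centralizer_singleton_iff.1 a.2) ha
  rw [← e1] at aA
  obtain ⟨y, hy⟩ : ∃ y : G, y * z * y⁻¹ = u := by
    by_cases e2 : x * u * x⁻¹ = z
    · exact ⟨x⁻¹, by rw [← e2]; group⟩
    obtain ⟨k, hc, hne⟩ := h.exists_conj hG
    have p := h.p2 hc hne
    obtain ⟨m, hm⟩ := h.dc.inv_conj (p.card_le h8) (x := ⟨_, p.mem h8⟩) (y := ⟨_, aA⟩)
      (Subtype.ext (by rw [coe_pow, pow_two]; exact p.r.sq)) (fun e => p.r.ne (congrArg Subtype.val e))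
      (fun e => hne (congrArg Subtype.val e))
      (Subtype.ext (by simp [pow_two, u2])) (fun e => by
        have : u = 1 := by simpa using congrArg Subtype.val e
        simp [this, h.one] at u1) fun e => e2 (congrArg Subtype.val e)
    replace hm : (m : G) * (k * z * k⁻¹) * (m : G)⁻¹ = x * u * x⁻¹ := congrArg Subtype.val hm
    exact ⟨x⁻¹ * m * k, by
      calc _ = x⁻¹ * (m * (k * z * k⁻¹) * (m : G)⁻¹) * x := by group
        _ = u := by rw [hm]; group⟩
  subst hy
  rw [h.even _ ((h.p2 uz fun e => by simp [e, h.map_z] at u1).mem h8)] at u1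
  exact absurd u1 (by decide)

theorem cent_eq (h : SA z A π) (h8 : 8 ≤ Fintype.card α) (hG : ¬ IsMulCommutative G) :
    centralizer {z} = A :=
  le_antisymm (fun _ hg => h.mem_of_comm h8 hG (mem_centralizer_singleton_iff.1 hg))
    fun a ha => mem_centralizer_singleton_iff.2 (h.cz a ha)

end SA

end Cfsg.Agent.STD
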