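import Cfsg.Agent.STD.O8W
import Cfsg.Agent.STD.O8D5

/-! The elements of `W(E₈)` with square `±1`; the dictionary between packed permutations and elements. -/

set_option autoImplicit false
set_option maxRecDepth 100000

namespace Cfsg.Agent.STD.O8

open Cfsg.Agent.H14 Subgroup

variable {P Q C : ℕ} {a b c g v w r : G0} {gs : List ℕ}

noncomputable def fix (a : G0) : ℕ := {x | a x = x}.ncard
noncomputable def nf (a : G0) : ℕ := fix a + fix (m * a)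
/-- `[a, Y] ≤ ⟨c⟩` -/
def Cm (c a : G0) (Y : Subgroup G0) : Prop := ∀ y ∈ Y, a * y = y * a ∨ a * y = c * (y * a)
def V4 (w a : G0) : Prop := a = 1 ∨ a = m ∨ a = w ∨ a = m * w
/-- `Y` is the set of `2`-elements of `SS W w` -/
def Syl (w : G0) (Y : Subgroup G0) (j : ℕ) : Prop := ∀ a, a ∈ Y ↔ a ∈ SS W w ∧ a ^ 2 ^ j = 1
def Ty (v r : G0) : Prop := ∃ g ∈ W, g * v * g⁻¹ = r ∨ g * v * g⁻¹ = m * r

theorem is_mu (ha : E.pk a = P) (hb : E.pk b = Q) : E.pk (a * b) = mu P Q := by rw [← ha, ← hb, pk_mu]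
theorem is_iv (ha : E.pk a = P) : E.pk a⁻¹ = iv P := by rw [← ha, pk_iv]
theorem is_one : E.pk 1 = one := pk_one.symm
theorem is_eq (ha : E.pk a = P) (hb : E.pk b = Q) : Nat.beq P Q = true ↔ a = b := by
  rw [beq_iff, ← ha, ← hb, E.pk_inj]
theorem is_cmt (ha : E.pk a = P) (hb : E.pk b = Q) : cmt P Q = true ↔ Commute a b := by
  rw [← ha, ← hb, cmt_iff]
theorem is_fx (ha : E.pk a = P) {j : ℕ} (h : Nat.beq (fx P) j = true) : fix a = j := by
  rw [← beq_iff.1 h, ← ha]; exact E.ncard_fix a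
theorem is_nf (ha : E.pk a = P) {j : ℕ} (h : Nat.beq (nfB P) j = true) : nf a = j := by
  rw [← beq_iff.1 h, nf, is_fx ha (beq_iff.2 rfl), is_fx (is_mu m_X.2 ha) (beq_iff.2 rfl)]; rfl
theorem is_inV (hw : E.pk w = Q) (ha : E.pk a = P) : inV Q P = true ↔ V4 w a := by
  simp only [inV, Bool.or_eq_true, is_eq ha is_one, is_eq ha m_X.2, is_eq ha hw,
    is_eq ha (is_mu m_X.2 hw), V4, or_assoc]
theorem is_odd (ha : E.pk a = P) (h : oddOK (nat_lit 8) (nat_lit 256) (nat_lit 240) P = true) :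
    Odd (orderOf a) := odd_of_ok (E := E) (ha ▸ h)
theorem is_mem {cs : List Lev} {K : Subgroup G0} (hc : E.IsChain cs K) (ha : E.pk a = P) :
    sift (nat_lit 8) (nat_lit 256) (nat_lit 240) cs P = true ↔ a ∈ K := ha ▸ hc.mem_iff_sift.symm
theorem is_inG {cs : List LevCert} {K : Subgroup G0} (hc : E.IsChain (cs.map LevCert.L) K)
    (ha : E.pk a = P) (h : inG cs P = true) : a ∈ K := by
  have := (of_inG hc h).1
  rwa [← ha, E.perm_pk] at this
theorem ex_inG {cs : List LevCert} {K : Subgroup G0} (hc : E.IsChain (cs.map LevCert.L) K)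
    (h : inG cs P = true) : ∃ a ∈ K, E.pk a = P := ⟨_, of_inG hc h⟩
theorem ex_inX (h : inX true P = true) : ∃ a ∈ X, E.pk a = P := ⟨_, inX_mem h⟩

theorem is_cmB (hc : E.pk c = C) (ha : E.pk a = P) (hb : E.pk b = Q) :
    cmB C P Q = true ↔ a * b = b * a ∨ a * b = c * (b * a) := by
  simp only [cmB, force_eq, Bool.or_eq_true, is_eq (is_mu ha hb) (is_mu hb ha),
    is_eq (is_mu ha hb) (is_mu hc (is_mu hb ha))]

theorem cm_closure {S : Set G0} (hc : ∀ y ∈ closure S, Commute y c) (c2 : c * c = 1)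
    (h : ∀ y ∈ S, a * y = y * a ∨ a * y = c * (y * a)) : Cm c a (closure S) := fun y hy => by
  induction hy using closure_induction with
  | mem y hy => exact h y hy
  | one => simp
  | mul y z hy _ h1 h2 =>
    rw [← mul_assoc a]
    rcases h1 with h1 | h1 <;> rcases h2 with h2 | h2 <;> rw [h1] <;>
      simp only [mul_assoc, h2, (hc y hy).left_comm, true_or, or_true]
    rw [← mul_assoc, c2, one_mul]; exact .inl rfl
  | inv y hy h1 =>
    refine h1.imp (fun e => (show Commute a y from e).inv_right) fun e => ?_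
    rw [← mul_left_cancel_iff (a := c * y), ← mul_assoc, mul_assoc c, ← e, mul_inv_cancel_right, mul_assoc,
      (hc y hy).left_comm, ← mul_assoc, c2, one_mul, mul_inv_cancel_left]

theorem cm_iff (hv : ∀ P ∈ gs, ∃ y, E.pk y = P) (hc : ∀ y ∈ E.grp gs, Commute y c) (c2 : c * c = 1)
    (hC : E.pk c = C) (ha : E.pk a = P) : allL gs (cmB C P) = true ↔ Cm c a (E.grp gs) := by
  rw [allL_iff]
  refine ⟨fun h => cm_closure hc c2 fun y hy => (is_cmB hC ha rfl).1 (h _ hy), fun h Q hQ => ?_⟩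
  obtain ⟨y, rfl⟩ := hv Q hQ
  exact (is_cmB hC ha rfl).2 (h y (subset_closure hQ))

theorem cen_iff (hv : ∀ P ∈ gs, ∃ y, E.pk y = P) (ha : E.pk a = P) :
    allL gs (cmt P) = true ↔ Cm 1 a (E.grp gs) := by
  rw [allL_iff]
  refine ⟨fun h => cm_closure (by simp) (by simp) fun y hy => .inl ((is_cmt ha rfl).1 (h _ hy)),
    fun h Q hQ => ?_⟩
  obtain ⟨y, rfl⟩ := hv Q hQ
  exact (is_cmt ha rfl).2 (by simpa [commute_iff_eq] using h y (subset_closure hQ))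

theorem typ_of (hw : E.pk w = Q) {Os cg xg : List ℕ} {cC cX : List LevCert} {j : ℕ}
    (h : typOK (nat_lit 8) (nat_lit 256) (nat_lit 240) (cW.map LevCert.L) nm Q Os cg cC xg cX j = true) :
    E.IsChain (cX.map LevCert.L) (SS W w) ∧ SS W w = E.grp xg :=
  of_typOK chW (fun _ => m_comm) (by rwa [m_X.2, hw])

theorem syl_of {cX cY : List LevCert} {xg yg : List ℕ} {j o : ℕ}
    (h1 : E.IsChain (cX.map LevCert.L) (SS W w) ∧ SS W w = E.grp xg)
    (h2 : subOK (nat_lit 8) (nat_lit 256) (nat_lit 240) (cX.map LevCert.L) xg yg cY = true)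
    (h3 : Nat.card (SS W w) = o * 2 ^ j) (ho : Odd o)
    (h4 : chainCard (nat_lit 240) (cY.map LevCert.L) = 2 ^ j) :
    E.IsChain (cY.map LevCert.L) (E.grp yg) ∧ (∀ P ∈ yg, ∃ y, E.pk y = P) ∧ Syl w (E.grp yg) j := by
  obtain ⟨e1, e2, e3⟩ := of_subOK h1.1 h1.2 h2
  simp only [subOK, Bool.and_eq_true, allL_iff] at h2
  have e4 := e1.card.trans h4
  refine ⟨e1, fun P hP => E.exists_pk_of_valid (h2.1.1 P hP).1, fun a => ⟨fun ha => ⟨e2 ha, ?_⟩, fun ha =>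
    mem_of_coprime e2 e3 (e4 ▸ h3) ha.1 ((Nat.Coprime.pow_left j ho.coprime_two_left).of_dvd_left
      (orderOf_dvd_of_pow_eq_one ha.2))⟩⟩
  exact congrArg Subtype.val (e4 ▸ pow_card_eq_one' (x := (⟨a, ha⟩ : E.grp yg)))

theorem fix_conj (g a : G0) : fix (g * a * g⁻¹) = fix a := by
  rw [fix, fix, ← Set.ncard_image_of_injective {x | a x = x} g.injective]
  congr 1
  ext x
  simp only [Set.mem_ofPred_eq, Equiv.Perm.mul_apply, Set.mem_image]
  exact ⟨fun h => ⟨g⁻¹ x, by rw [Equiv.Perm.eq_inv_iff_eq, h], by simp⟩, by rintro ⟨y, h, rfl⟩; simp [h]⟩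

theorem fix_conj' (hg : g ∈ W) (a : G0) : fix (m * (g * a * g⁻¹)) = fix (m * a) := by
  rw [← fix_conj g (m * a), ← mul_assoc g, (m_comm hg).eq, mul_assoc m, mul_assoc m]

theorem nf_conj (hg : g ∈ W) (a : G0) : nf (g * a * g⁻¹) = nf a := by rw [nf, nf, fix_conj, fix_conj' hg]

theorem nf_neg (a : G0) : nf (m * a) = nf a := by rw [nf, nf, ← mul_assoc, m_sq.1, one_mul, add_comm]

theorem Ty.nf (h : Ty v r) : nf v = nf r := by
  obtain ⟨g, hg, e⟩ := h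
  rw [← nf_conj hg]
  rcases e with e | e <;> rw [e]
  exact nf_neg r

theorem fix_val : ∀ z ∈ [((1 : G0), 240, 0), (wJ, 0, 0), (wR, 126, 2), (wA, 24, 24), (wT, 26, 6),
    (wB, 60, 4), (wE, 8, 8)], fix z.1 = z.2.1 ∧ fix (m * z.1) = z.2.2 := by
  have h := allL_iff.1 nf_ok
  simp only [List.forall_mem_cons, Bool.and_eq_true] at h ⊢
  have k : ∀ {a P i j}, E.pk a = P → Nat.beq (fx P) i = true ∧ Nat.beq (fx (mu nm P)) j = true →
      fix a = i ∧ fix (m * a) = j := fun e h => ⟨is_fx e h.1, is_fx (is_mu m_X.2 e) h.2⟩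
  exact ⟨k is_one h.1, k J_X.2 h.2.1, k R_W.2.2 h.2.2.1, k A_X.2 h.2.2.2.1, k T_W.2.2 h.2.2.2.2.1,
    k B_X.2 h.2.2.2.2.2.1, k E_X.2 h.2.2.2.2.2.2.1, by simp⟩

theorem sq_val : wJ * wJ = m ∧ wR * wR = 1 ∧ wA * wA = 1 ∧ wT * wT = 1 ∧ wB * wB = 1 ∧ wE * wE = 1 := by
  have h := allL_iff.1 sq_ok
  have h1 := q_ok
  simp only [List.forall_mem_cons, Bool.and_eq_true] at h h1
  have k : ∀ {a P}, E.pk a = P → Nat.beq (mu P P) one = true → a * a = 1 := fun e =>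
    (is_eq (is_mu e e) is_one).1
  exact ⟨(is_eq (is_mu J_X.2 J_X.2) m_X.2).1 h1.2, k R_W.2.2 h.1, k A_X.2 h.2.1, k T_W.2.2 h.2.2.1,
    k B_X.2 h.2.2.2.1, k E_X.2 h.2.2.2.2.1⟩

theorem cls (hv : v ∈ W) (h : v * v = 1 ∨ v * v = m) : ∃ r ∈ [1, wJ, wR, wA, wT, wB, wE], Ty v r := by
  obtain ⟨χ, c1, c2⟩ := exists_hom (E := E) (E' := E4) col4 ng_ok
  have ch := Enc.isChain_of_ssOK (E := E4) (fun P hP => by
    obtain ⟨z, hz, rfl⟩ := List.mem_map.1 hP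
    exact ⟨_, (mem_Inc (E := E) (allL_iff.1 ng_ok z hz)).2.1⟩) ssN
  have hc : Nat.card (E4.grp (ng.map Prod.snd)) = 5160960 := by rw [ch.card]; decide +kernel
  have cl := ch.classList (E4.fixes_zero _) (allL_iff.1 cl_ok) cl_pairs hc (by decide +kernel)
  have h1 := ng_in
  simp only [Bool.and_eq_true, allL_iff] at h1
  have hN : E.grp (ng.map Prod.fst) ≤ W := Enc.grp_induction fun g hg => by
    obtain ⟨z, hz, e⟩ := List.mem_map.1 hg
    exact is_inG chW e.symm (h1.1 z hz)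
  obtain ⟨n, n1, n2⟩ : ∃ n, E4.pk n = n16 ∧ (m, n) ∈ Inc E E4 row4 := ⟨_, (mem_Inc h1.2).2⟩
  generalize E.grp (ng.map Prod.fst) = N at *
  have hi : Odd (N.subgroupOf W).index := by
    have e1 := (N.subgroupOf W).index_mul_card
    obtain ⟨i, e2⟩ := card_dvd_of_surjective _ χ.rangeRestrict_surjective
    rw [Nat.card_congr (subgroupOfEquivOfLe hN).toEquiv, e2, c2, hc, card_W] at e1
    exact Odd.of_dvd_nat (n := 135) (by decide) ⟨i, by linarith⟩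
  have h2 : IsPGroup 2 (zpowers (⟨v, hv⟩ : W)) := by
    rw [IsPGroup.iff_card, Nat.card_zpowers]
    obtain ⟨i, -, e⟩ := (Nat.dvd_prime_pow Nat.prime_two).1 (orderOf_dvd_of_pow_eq_one
      (show (⟨v, hv⟩ : W) ^ 2 ^ 2 = 1 from Subtype.ext (by
        rw [coe_pow, show 2 ^ 2 = 2 * 2 from rfl, pow_mul, pow_two, pow_two]
        rcases h with e | e <;> rw [e]
        exacts [mul_one _, m_sq.1])))
    exact ⟨i, e⟩
  obtain ⟨x, hx⟩ := h2.nonempty_fixed_point_of_prime_not_dvd_card (W ⧸ N.subgroupOf W)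
    (Nat.two_dvd_ne_zero.2 (Nat.odd_iff.1 hi))
  obtain ⟨⟨g, hg⟩, rfl⟩ := QuotientGroup.mk_surjective x
  have h0 : (((⟨v, hv⟩ : W) * ⟨g, hg⟩ : W) : W ⧸ N.subgroupOf W) = (⟨g, hg⟩ : W) :=
    hx ⟨⟨v, hv⟩, mem_zpowers _⟩
  have h3 : g⁻¹ * (v * g) ∈ N := mem_subgroupOf.1 (QuotientGroup.eq.1 h0.symm)
  obtain ⟨c, hc, k, hk, e⟩ := cl.conj _ (c2.le ⟨⟨_, h3⟩, rfl⟩)
  obtain ⟨k, rfl⟩ := c2.ge hk
  obtain ⟨y, y1, y2⟩ : ∃ y, E4.pk y = c.X ∧ E4.perm c.X = y := ⟨_, cl.pk_perm hc, rfl⟩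
  have i1 : (k.1⁻¹ * (g⁻¹ * (v * g)) * k, y) ∈ Inc E E4 row4 := by
    have := c1 (k⁻¹ * ⟨_, h3⟩ * k)
    rwa [map_mul, map_mul, ← e, map_inv, y2, show ∀ a b : Equiv.Perm (Fin 16),
      a⁻¹ * (a * b * a⁻¹) * a = b from fun a b => by group] at this
  have hu : (g * k.1)⁻¹ ∈ W := inv_mem (mul_mem hg (hN k.2))
  rw [show k.1⁻¹ * (g⁻¹ * (v * g)) * k = (g * k.1)⁻¹ * v * (g * k.1)⁻¹⁻¹ by group] at i1
  generalize (g * k.1)⁻¹ = u at i1 hu
  have i2 := mul_mem i1 i1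
  rw [Prod.mk_mul_mk, conj_mul] at i2
  have t := allL_iff.1 tab_ok c hc
  rw [force_eq, bimp_iff, ← y1, ← E4.pk_mul, Bool.or_eq_true, beq_iff, beq_iff, ← n1, ← E4.pk_one,
    E4.pk_inj, E4.pk_inj, anyL_iff] at t
  obtain ⟨z, -, t⟩ := t (h.imp (fun e => Inc_right col4 i2 (by rw [e, mul_one, mul_inv_cancel]; exact one_mem _))
    fun e => Inc_right col4 i2 (by rwa [e, (m_comm hu).eq, mul_inv_cancel_right]))
  simp only [Bool.and_eq_true, force_eq, anyL_iff, Bool.or_eq_true] at t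
  obtain ⟨⟨⟨t1, t2⟩, t3⟩, R, t4, t5⟩ := t
  obtain ⟨p1, -, p2⟩ := mem_Inc (E := E) (E' := E4) t2
  rw [beq_iff.1 t1, E4.perm_pk] at p2
  rw [← Inc_left row4_ok i1 p2] at p1
  obtain ⟨q, q1, q2⟩ := ex_inG chW t3
  obtain ⟨r, r1, r2⟩ : ∃ r ∈ [1, wJ, wR, wA, wT, wB, wE], E.pk r = R := by
    simp only [List.mem_cons, List.not_mem_nil, or_false, exists_eq_or_imp, exists_eq_left] at t4 ⊢
    rw [is_one, J_X.2, R_W.2.2, A_X.2, T_W.2.2, B_X.2, E_X.2]
    simpa only [eq_comm] using t4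
  have p3 := is_mu (is_mu q2 p1) (is_iv q2)
  rw [show q * (u * v * u⁻¹) * q⁻¹ = q * u * v * (q * u)⁻¹ by group] at p3
  exact ⟨r, r1, q * u, mul_mem q1 hu, t5.imp (is_eq p3 r2).1 (is_eq p3 (is_mu m_X.2 r2)).1⟩

theorem cls' (hv : v ∈ W) (h : v * v = 1) :
    (nf v = 48 → Ty v wA) ∧ (nf v = 64 → Ty v wB) ∧ (fix v = 26 → ∃ g ∈ W, g * v * g⁻¹ = wT) := by
  obtain ⟨r, r1, t⟩ := cls hv (.inl h)
  have h1 := t.nf
  have f := fix_val
  obtain ⟨g, hg, e⟩ := id t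
  rw [← fix_conj g v]
  simp only [List.forall_mem_cons] at f
  simp only [List.mem_cons, List.not_mem_nil, or_false] at r1
  rw [h1, nf]
  rcases r1 with rfl | rfl | rfl | rfl | rfl | rfl | rfl <;> rcases e with e | e <;>
    refine ⟨fun _ => ?_, fun _ => ?_, fun e' => ?_⟩ <;>
    first | exact t | omega | exact ⟨g, hg, e⟩ | (rw [e] at e'; omega)

end Cfsg.Agent.STD.O8
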