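import Cfsg.Agent.STD.O8W

/-! Copies of `X = W(E₈)'` normalised by the centraliser of their centre; the elements of odd order centralising
two commuting centres. -/

set_option autoImplicit false

namespace Cfsg.Agent.STD.O8

open Subgroup

variable {G : Type*} [Group G]

/-- `n` acts on the copy `Φ` of `X` as `v` -/
def Acts (Φ : G0 → G) (n : G) (v : G0) : Prop := ∀ a ∈ X, n * Φ a * n⁻¹ = Φ (v * a * v⁻¹)

structure Ctx (Φ : G0 → G) : Prop where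
  mul : ∀ {a b}, a ∈ X → b ∈ X → Φ (a * b) = Φ a * Φ b
  inj1 : ∀ {a}, a ∈ X → Φ a = 1 → a = 1
  acts : ∀ {n}, Commute n (Φ m) → ∃ v ∈ W, Acts Φ n v
  uniq : ∀ {k}, Acts Φ k 1 → k * k = 1 → k = 1 ∨ k = Φ m
  odd : ∀ {k l}, Acts Φ k 1 → Acts Φ l 1 → Odd (orderOf k) → Odd (orderOf l) → Odd (orderOf (k * l))

variable {Φ Ψ : G0 → G} {n n' k s y g : G} {a b u v v' w : G0}

theorem m_conj (hv : v ∈ W) : v * m * v⁻¹ = m := mul_inv_eq_iff_eq_mul.2 (m_comm hv)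

theorem m_inv : m⁻¹ = m := inv_eq_of_mul_eq_one_right m_sq.1

theorem Acts.mul (h : Acts Φ n v) (h' : Acts Φ n' v') (hv : v' ∈ W) : Acts Φ (n * n') (v * v') :=
  fun a ha => by
    rw [show n * n' * Φ a * (n * n')⁻¹ = n * (n' * Φ a * n'⁻¹) * n⁻¹ by group, h' a ha,
      h _ (X_conj hv ha)]
    simp only [mul_inv_rev, mul_assoc]

theorem Acts.inv (h : Acts Φ n v) (hv : v ∈ W) : Acts Φ n⁻¹ v⁻¹ := fun a ha => by
  have := h _ (X_conj (inv_mem hv) ha)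
  rw [show v * (v⁻¹ * a * v⁻¹⁻¹) * v⁻¹ = a by group] at this
  rw [← this]; group

theorem Acts.one : Acts Φ 1 1 := fun a _ => by simp

theorem Acts.pow (h : Acts Φ n v) (hv : v ∈ W) (j : ℕ) : Acts Φ (n ^ j) (v ^ j) := by
  induction j with
  | zero => simpa using Acts.one
  | succ j ih => rw [pow_succ, pow_succ]; exact ih.mul h hv

theorem Acts.neg (h : Acts Φ n v) (hv : v ∈ W) : Acts Φ n (m * v) := fun a ha => by
  rw [h a ha, show m * v * a * (m * v)⁻¹ = m * (v * a * v⁻¹) * m⁻¹ by group,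
    (m_comm (X_le (X_conj hv ha))).symm.eq, mul_inv_cancel_right]

theorem Acts.comm (h : Acts Φ n v) (ha : a ∈ X) (hc : Commute a v) : Commute n (Φ a) :=
  mul_inv_eq_iff_eq_mul.1 (by rw [h a ha, ← hc.eq, mul_inv_cancel_right])

theorem Acts.of_sign (h : Acts Φ n v) (hv : v ∈ W) (e : v = w ∨ v = m * w) : Acts Φ n w := by
  rcases e with rfl | rfl
  · exact h
  · simpa only [← mul_assoc, m_sq.1, one_mul] using h.neg hv

/-- the copy twisted by `u` -/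
def tw (Φ : G0 → G) (u : G0) : G0 → G := fun a => Φ (u⁻¹ * a * u⁻¹⁻¹)
/-- the conjugate copy -/
def cj (g : G) (Φ : G0 → G) : G0 → G := fun a => g * Φ a * g⁻¹

omit [Group G] in
theorem tw_m (hu : u ∈ W) : tw Φ u m = Φ m := congrArg Φ (m_conj (inv_mem hu))

theorem Acts.tw (h : Acts Φ n v) (hu : u ∈ W) : Acts (tw Φ u) n (u * v * u⁻¹) := fun a ha => by
  rw [O8.tw, h _ (X_conj (inv_mem hu) ha), O8.tw]
  congr 1; group

omit [Group G] in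
theorem tw_tw : tw (tw Φ u) u⁻¹ = Φ := funext fun a => by simp [tw, mul_assoc]

theorem Acts.cj (h : Acts Φ n v) (g : G) : Acts (cj g Φ) (g * n * g⁻¹) v := fun a ha => by
  rw [O8.cj, O8.cj, ← h a ha]; group

theorem cj_cj : cj g⁻¹ (cj g Φ) = Φ := funext fun a => by simp [cj, mul_assoc]

namespace Ctx

noncomputable def hom (h : Ctx Φ) : X →* G := MonoidHom.mk' (fun a => Φ a) fun a b => h.mul a.2 b.2

theorem hom_inj (h : Ctx Φ) : Function.Injective h.hom :=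
  (injective_iff_map_eq_one _).2 fun a e => Subtype.ext (h.inj1 a.2 e)

theorem one (h : Ctx Φ) : Φ 1 = 1 := h.hom.map_one
theorem inv (h : Ctx Φ) (ha : a ∈ X) : Φ a⁻¹ = (Φ a)⁻¹ := h.hom.map_inv ⟨a, ha⟩
theorem pow (h : Ctx Φ) (ha : a ∈ X) (j : ℕ) : Φ (a ^ j) = Φ a ^ j := h.hom.map_pow ⟨a, ha⟩ j
theorem inj (h : Ctx Φ) (ha : a ∈ X) (hb : b ∈ X) (e : Φ a = Φ b) : a = b :=
  congrArg Subtype.val (h.hom_inj (a₁ := ⟨a, ha⟩) (a₂ := ⟨b, hb⟩) e)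
theorem ord (h : Ctx Φ) (ha : a ∈ X) : orderOf (Φ a) = orderOf a :=
  (orderOf_injective _ h.hom_inj ⟨a, ha⟩).trans (orderOf_coe _).symm
theorem conj (h : Ctx Φ) (ha : a ∈ X) (hb : b ∈ X) : Φ (a * b * a⁻¹) = Φ a * Φ b * (Φ a)⁻¹ := by
  rw [h.mul (mul_mem ha hb) (inv_mem ha), h.mul ha hb, h.inv ha]
theorem acts_self (h : Ctx Φ) (ha : a ∈ X) : Acts Φ (Φ a) a := fun _ hb => (h.conj ha hb).symm
theorem comm (h : Ctx Φ) (ha : a ∈ X) (hb : b ∈ X) : Commute (Φ a) (Φ b) ↔ Commute a b :=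
  ⟨fun e => h.inj (mul_mem ha hb) (mul_mem hb ha) (by rw [h.mul ha hb, h.mul hb ha, e]),
    fun e => by rw [commute_iff_eq, ← h.mul ha hb, e, h.mul hb ha]⟩
theorem z_sq (h : Ctx Φ) : Φ m * Φ m = 1 := by rw [← h.mul m_X.1 m_X.1, m_sq.1, h.one]
theorem z_ne (h : Ctx Φ) : Φ m ≠ 1 := fun e => m_sq.2 (h.inj1 m_X.1 e)
theorem z_comm (h : Ctx Φ) (ha : a ∈ X) : Commute (Φ a) (Φ m) := (h.comm ha m_X.1).2 (m_comm (X_le ha))

theorem of_comm (h : Ctx Φ) (h1 : Acts Φ n v) (hv : v ∈ W) (ha : a ∈ X) (hc : Commute n (Φ a)) :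
    Commute v a :=
  mul_inv_eq_iff_eq_mul.1 (h.inj (X_conj hv ha) ha (by rw [← h1 a ha, hc.eq, mul_inv_cancel_right]))

theorem sign (h : Ctx Φ) (h1 : Acts Φ n v) (h2 : Acts Φ n w) (hv : v ∈ W) (hw : w ∈ W) :
    v = w ∨ v = m * w := by
  have h3 := h1.mul (h2.inv hw) (inv_mem hw)
  rw [mul_inv_cancel] at h3
  exact (faith (mul_mem hv (inv_mem hw)) fun a ha => h.of_comm h3 (mul_mem hv (inv_mem hw)) ha
    (Commute.one_left _)).imp mul_inv_eq_one.1 mul_inv_eq_iff_eq_mul.1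

theorem tw (h : Ctx Φ) (hu : u ∈ W) : Ctx (tw Φ u) := by
  have k1 : ∀ {k}, Acts (O8.tw Φ u) k 1 → Acts Φ k 1 := fun hk => by
    simpa only [tw_tw, mul_one, mul_inv_cancel] using hk.tw (inv_mem hu)
  refine ⟨fun ha hb => ?_, fun ha e => ?_, fun hn => ?_, fun hk e => ?_, fun h1 h2 e1 e2 => ?_⟩
  · rw [O8.tw, O8.tw, O8.tw, ← h.mul (X_conj (inv_mem hu) ha) (X_conj (inv_mem hu) hb), conj_mul]
  · exact conj_eq_one_iff.1 (h.inj1 (X_conj (inv_mem hu) ha) e)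
  · obtain ⟨v, hv, e⟩ := h.acts (tw_m (Φ := Φ) hu ▸ hn)
    exact ⟨_, mul_mem (mul_mem hu hv) (inv_mem hu), e.tw hu⟩
  · exact tw_m (Φ := Φ) hu ▸ h.uniq (k1 hk) e
  · exact h.odd (k1 h1) (k1 h2) e1 e2

theorem cj (h : Ctx Φ) (g : G) : Ctx (cj g Φ) := by
  have k1 : ∀ {k}, Acts (O8.cj g Φ) k 1 → Acts Φ (g⁻¹ * k * g⁻¹⁻¹) 1 := fun hk => by
    simpa only [cj_cj] using hk.cj g⁻¹
  have k2 : ∀ k, orderOf (g⁻¹ * k * g⁻¹⁻¹) = orderOf k := fun k => (MulAut.conj g⁻¹).orderOf_eq k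
  refine ⟨fun ha hb => ?_, fun ha e => ?_, fun {n} hn => ?_, fun hk e => ?_, fun h1 h2 e1 e2 => ?_⟩
  · rw [O8.cj, O8.cj, O8.cj, h.mul ha hb, conj_mul]
  · exact h.inj1 ha (conj_eq_one_iff.1 e)
  · obtain ⟨v, hv, e⟩ := h.acts (n := g⁻¹ * n * g⁻¹⁻¹)
      (by simpa [O8.cj, mul_assoc] using hn.map (MulAut.conj g⁻¹))
    exact ⟨v, hv, by simpa [mul_assoc] using e.cj g⟩
  · exact (h.uniq (k1 hk) (by rw [conj_mul, e]; simp)).imp conj_eq_one_iff.1 fun e => by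
      rw [O8.cj, ← e]; group
  · rw [← k2, ← conj_mul]
    exact h.odd (k1 h1) (k1 h2) (by rwa [k2]) (by rwa [k2])

/-- an involution acting as an involution of `X` -/
theorem inner (h : Ctx Φ) (h1 : Acts Φ n a) (ha : a ∈ X) (n2 : n * n = 1) (a2 : a * a = 1) :
    n = Φ a ∨ n = Φ (m * a) := by
  have h2 := h1.mul ((h.acts_self ha).inv (X_le ha)) (inv_mem (X_le ha))
  rw [mul_inv_cancel] at h2
  refine (h.uniq h2 ?_).imp mul_inv_eq_one.1 fun e => by rw [h.mul m_X.1 ha, ← e, inv_mul_cancel_right]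
  rw [(h1.comm ha (Commute.refl a)).inv_right.symm.mul_mul_mul_comm, n2, ← mul_inv_rev, ← h.mul ha ha, a2,
    h.one, inv_one, mul_one]

theorem K_mem (h : Ctx Φ) (ha : a ∈ X) (h1 : Acts Φ (Φ a) 1) : a = 1 ∨ a = m := by
  simpa using h.sign (h.acts_self ha) h1 (X_le ha) (one_mem _)

end Ctx

theorem eq_one_of_odd {H : Type*} [Group H] {x : H} {j : ℕ} (h1 : Odd (orderOf x)) (h2 : x ^ 2 ^ j = 1) :
    x = 1 :=
  orderOf_eq_one_iff.1 (Nat.Coprime.eq_one_of_dvd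
    (Nat.Coprime.pow_right j h1.coprime_two_right) (orderOf_dvd_of_pow_eq_one h2))

/-- the subgroup generated by the elements of odd order centralising `s` and `y` -/
def OO (s y : G) : Subgroup G := closure {g | Odd (orderOf g) ∧ Commute g s ∧ Commute g y}

theorem OO_symm (s y : G) : OO s y = OO y s := by simp only [OO, and_comm]

theorem SS_comm (ha : a ∈ SS W w) : Commute a w :=
  mem_centralizer_singleton_iff.1 ((closure_le (centralizer {w})).2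
    (fun _ hy => mem_centralizer_singleton_iff.2 hy.2.2) ha)

namespace Ctx

theorem tl0 (h : Ctx Φ) (hy : Acts Φ y w) (hw : w ∈ W) (g1 : Odd (orderOf g)) (g2 : Commute g (Φ m))
    (g3 : Commute g y) : ∃ a ∈ W, Odd (orderOf a) ∧ Commute a w ∧
      ∃ k, Acts Φ k 1 ∧ Odd (orderOf k) ∧ g = Φ a * k := by
  obtain ⟨v, hv, e⟩ := h.acts g2
  have e1 := e.pow hv (orderOf g)
  rw [pow_orderOf_eq_one] at e1
  have e2 := h.sign e1 Acts.one (pow_mem hv _) (one_mem _)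
  have e3 : Acts Φ g (v ^ orderOf g * v) := by
    rcases e2 with e2 | e2 <;> rw [e2]
    · rwa [one_mul]
    · simpa using e.neg hv
  have a1 : v ^ orderOf g * v ∈ W := mul_mem (pow_mem hv _) hv
  have a2 : (v ^ orderOf g * v) ^ orderOf g = 1 := by
    rw [(Commute.self_pow v _).symm.mul_pow]
    rcases e2 with e2 | e2 <;> rw [e2]
    · simp
    · obtain ⟨j, hj⟩ := g1
      rw [mul_one, hj, pow_succ, pow_mul, pow_two, m_sq.1, one_pow, one_mul, m_sq.1]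
  generalize v ^ orderOf g * v = a at e3 a1 a2
  have a3 : Odd (orderOf a) := g1.of_dvd_nat (orderOf_dvd_of_pow_eq_one a2)
  have a4 := odd_mem_X a1 a3
  have k1 := ((h.acts_self a4).inv a1).mul e3 a1
  rw [inv_mul_cancel] at k1
  refine ⟨a, a1, a3, ?_, _, k1, g1.of_dvd_nat (orderOf_dvd_of_pow_eq_one ?_), by group⟩
  · have e4 := (hy.mul e3 a1).mul (hy.inv hw) (inv_mem hw)
    rw [← g3.eq, mul_inv_cancel_right] at e4
    rcases h.sign e4 e3 (mul_mem (mul_mem hw a1) (inv_mem hw)) a1 with e5 | e5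
    · exact (mul_inv_eq_iff_eq_mul.1 e5).symm
    · have e6 := congrArg (· ^ orderOf g) e5
      simp only [conj_pow, (m_comm a1).symm.mul_pow, a2, mul_one, mul_inv_cancel] at e6
      obtain ⟨j, hj⟩ := g1
      rw [hj, pow_succ, pow_mul, pow_two, m_sq.1, one_pow, one_mul] at e6
      exact absurd e6.symm m_sq.2
  · rw [(e3.comm a4 (Commute.refl a)).symm.inv_left.mul_pow, pow_orderOf_eq_one, inv_pow, ← h.pow a4, a2,
      h.one, inv_one, mul_one]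

theorem tl (h : Ctx Φ) (hy : Acts Φ y w) (hw : w ∈ W) (hg : g ∈ OO (Φ m) y) :
    ∃ a ∈ SS W w, ∃ k, Acts Φ k 1 ∧ Odd (orderOf k) ∧ g = Φ a * k := by
  induction hg using closure_induction with
  | mem g hg =>
    obtain ⟨a, a1, a2, a3, e⟩ := h.tl0 hy hw hg.1 hg.2.1 hg.2.2
    exact ⟨a, subset_closure ⟨a1, a2, a3⟩, e⟩
  | one => exact ⟨1, one_mem _, 1, Acts.one, by simp, by rw [h.one, mul_one]⟩
  | mul _ _ _ _ h1 h2 =>
    obtain ⟨a, a1, k, k1, k2, rfl⟩ := h1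
    obtain ⟨b, b1, l, l1, l2, rfl⟩ := h2
    refine ⟨_, mul_mem a1 b1, _, by simpa using k1.mul l1 (one_mem _), h.odd k1 l1 k2 l2, ?_⟩
    rw [h.mul (SS_le _ a1) (SS_le _ b1),
      (k1.comm (SS_le _ b1) (Commute.one_right _)).mul_mul_mul_comm]
  | inv _ _ h1 =>
    obtain ⟨a, a1, k, k1, k2, rfl⟩ := h1
    refine ⟨_, inv_mem a1, _, by simpa using k1.inv (one_mem _), by rwa [orderOf_inv], ?_⟩
    rw [h.inv (SS_le _ a1), ← (k1.comm (SS_le _ a1) (Commute.one_right _)).eq, mul_inv_rev]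

theorem tl2 (h : Ctx Φ) (hy : Acts Φ y w) (hw : w ∈ W) (hg : g ∈ OO (Φ m) y) {j : ℕ}
    (h2 : g ^ 2 ^ j = 1) : ∃ a ∈ SS W w, g = Φ a ∧ a ^ 2 ^ j = 1 := by
  obtain ⟨a, a1, k, k1, k2, rfl⟩ := h.tl hy hw hg
  have a2 := SS_le _ a1
  rw [(k1.comm a2 (Commute.one_right _)).symm.mul_pow, ← h.pow a2, mul_eq_one_iff_eq_inv] at h2
  have k3 := (k1.pow (one_mem _) (2 ^ j)).inv (pow_mem (one_mem _) _)
  rw [← h2, one_pow, inv_one] at k3
  have k4 : k = 1 := eq_one_of_odd (j := j + 1) k2 (by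
    rw [pow_succ, pow_mul, ← inv_eq_one, ← inv_pow, ← h2, pow_two]
    rcases h.K_mem (pow_mem a2 _) k3 with e | e <;> rw [e]
    exacts [by rw [h.one, mul_one], h.z_sq])
  rw [k4, one_pow, inv_one] at h2
  exact ⟨a, a1, by rw [k4, mul_one], h.inj1 (pow_mem a2 _) h2⟩

theorem mem_OO (h : Ctx Φ) (hy : Acts Φ y w) (ha : a ∈ SS W w) : Φ a ∈ OO (Φ m) y := by
  induction ha using closure_induction with
  | mem a ha =>
    have := odd_mem_X ha.1 ha.2.1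
    exact subset_closure ⟨h.ord this ▸ ha.2.1, h.z_comm this, (hy.comm this ha.2.2).symm⟩
  | one => exact h.one ▸ one_mem _
  | mul a b a1 b1 h1 h2 => exact h.mul (SS_le _ a1) (SS_le _ b1) ▸ mul_mem h1 h2
  | inv a a1 h1 => exact h.inv (SS_le _ a1) ▸ inv_mem h1

end Ctx

/-- two copies with commuting centres -/
structure Two (Φ Ψ : G0 → G) (v w : G0) : Prop where
  l : Ctx Φ
  r : Ctx Ψ
  rel : ∃ g, ∃ u ∈ W, Ψ = cj g (tw Φ u)
  ne : Ψ m ≠ Φ m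
  hv : v ∈ W
  hw : w ∈ W
  av : Acts Φ (Ψ m) v
  aw : Acts Ψ (Φ m) w

namespace Two

theorem symm (h : Two Φ Ψ v w) : Two Ψ Φ w v := by
  obtain ⟨g, u, hu, e⟩ := h.rel
  exact ⟨h.r, h.l, ⟨g⁻¹, u⁻¹, inv_mem hu, funext fun a => by simp [e, cj, tw, mul_assoc]⟩, h.ne.symm,
    h.hw, h.hv, h.aw, h.av⟩

theorem tw (h : Two Φ Ψ v w) (hu : u ∈ W) : Two (tw Φ u) Ψ (u * v * u⁻¹) w := by
  obtain ⟨g, c, hc, e⟩ := h.rel
  exact ⟨h.l.tw hu, h.r, ⟨g, c * u⁻¹, mul_mem hc (inv_mem hu), funext fun a => by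
    simp [e, cj, O8.tw, mul_assoc]⟩, tw_m (Φ := Φ) hu ▸ h.ne, mul_mem (mul_mem hu h.hv) (inv_mem hu), h.hw,
    h.av.tw hu, tw_m (Φ := Φ) hu ▸ h.aw⟩

theorem of_sign (h : Two Φ Ψ v w) (e : v = v' ∨ v = m * v') (hv : v' ∈ W) : Two Φ Ψ v' w :=
  ⟨h.l, h.r, h.rel, h.ne, hv, h.hw, h.av.of_sign h.hv e, h.aw⟩

theorem conj (h : Two Φ Ψ v w) : IsConj (Φ m) (Ψ m) := by
  obtain ⟨g, u, hu, e⟩ := h.rel
  exact isConj_iff.2 ⟨g, by rw [e, cj, tw_m hu]⟩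

theorem comm (h : Two Φ Ψ v w) : Commute (Ψ m) (Φ m) := h.av.comm m_X.1 (m_comm h.hv).symm

/-- the `2`-elements of the two subgroups coincide -/
theorem tr (h : Two Φ Ψ v w) (ha : a ∈ SS W v) {j : ℕ} (h2 : a ^ 2 ^ j = 1) :
    ∃ b ∈ SS W w, Φ a = Ψ b ∧ b ^ 2 ^ j = 1 :=
  h.r.tl2 h.aw h.hw (OO_symm (Φ m) (Ψ m) ▸ h.l.mem_OO h.av ha) (by rw [← h.l.pow (SS_le _ ha), h2, h.l.one])

theorem dvd (h : Two Φ Ψ v w) {j : ℕ} (h1 : 2 ^ j ∣ Nat.card (SS W v)) : 2 ^ j ∣ Nat.card (SS W w) := by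
  obtain ⟨P, hP⟩ := Sylow.exists_subgroup_card_pow_prime 2 h1
  have e : ∀ A : Subgroup G0, A ≤ X → ∀ Θ : G0 → G, ∀ c : Ctx Θ,
      Nat.card ((A.subgroupOf X).map (Ctx.hom c) : Subgroup G) = Nat.card A := fun A hA Θ c =>
    (card_map_of_injective c.hom_inj).trans (Nat.card_congr (subgroupOfEquivOfLe hA).toEquiv)
  rw [← hP, ← card_map_of_injective (SS W v).subtype_injective,
    ← e _ ((map_subtype_le P).trans (SS_le _)) Φ h.l, ← e _ (SS_le _) Ψ h.r]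
  refine card_dvd_of_le ?_
  rintro _ ⟨⟨_, hx⟩, ⟨a, ha, rfl⟩, rfl⟩
  obtain ⟨b, b1, b2, -⟩ := h.tr a.2 (j := j)
    (congrArg (fun x : P => x.1.1) (hP ▸ pow_card_eq_one' (x := (⟨a, ha⟩ : P))))
  exact ⟨⟨b, SS_le _ b1⟩, b1, b2.symm⟩

end Two

/-- a conjugate of the centre commuting with it gives a pair -/
theorem Ctx.two (h : Ctx Φ) (h1 : IsConj (Φ m) s) (h2 : s ≠ Φ m) (hv : v ∈ W) (h3 : Acts Φ s v) :
    ∃ Ψ w, Ψ m = s ∧ Two Φ Ψ v w := by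
  obtain ⟨g, rfl⟩ := isConj_iff.1 h1
  obtain ⟨w, hw, e⟩ := (h.cj g).acts (h3.comm m_X.1 (m_comm hv).symm).symm
  exact ⟨O8.cj g Φ, w, rfl, h, h.cj g, ⟨g, 1, one_mem _, funext fun a => by simp [O8.cj, O8.tw]⟩, h2, hv, hw,
    h3, e⟩

end Cfsg.Agent.STD.O8
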