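import Cfsg.Agent.STD.O8Cls
import Cfsg.Agent.STD.O8Ctx
import Cfsg.Agent.STD.O8D2
import Cfsg.Agent.STD.O8D3
import Cfsg.Agent.STD.IS
import Cfsg.Agent.STD1.Ctx
import Cfsg.Agent.S0814
import Cfsg.Agent.S0246
import Cfsg.Agent.H96.OutT

/-! The subgroups generated by the elements of odd order in the centralisers of the elements of `W(E₈)` with
square `±1`. -/

set_option autoImplicit false
set_option maxRecDepth 100000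

namespace Cfsg.Agent.STD.O8

open Cfsg.Agent.H14 Cfsg.Agent.H96.O22 Subgroup

theorem chJ : E.IsChain (cXJ.map LevCert.L) (SS W wJ) := (typ_of J_X.2 typJ).1
theorem chR : E.IsChain (cXR.map LevCert.L) (SS W wR) := (typ_of R_W.2.2 typR).1
theorem chA : E.IsChain (cXA.map LevCert.L) (SS W wA) := (typ_of A_X.2 typA).1
theorem chT : E.IsChain (cXT.map LevCert.L) (SS W wT) := (typ_of T_W.2.2 typT).1
theorem chB : E.IsChain (cXB.map LevCert.L) (SS W wB) := (typ_of B_X.2 typB).1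
theorem chE : E.IsChain (cXE.map LevCert.L) (SS W wE) := (typ_of E_X.2 typE).1
theorem card_J : Nat.card (SS W wJ) = 23040 := by rw [chJ.card]; decide +kernel
theorem card_R : Nat.card (SS W wR) = 1451520 := by rw [chR.card]; decide +kernel
theorem card_A : Nat.card (SS W wA) = 27648 := by rw [chA.card]; decide +kernel
theorem card_T : Nat.card (SS W wT) = 1152 := by rw [chT.card]; decide +kernel
theorem card_B : Nat.card (SS W wB) = 11520 := by rw [chB.card]; decide +kernel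
theorem card_E : Nat.card (SS W wE) = 768 := by rw [chE.card]; decide +kernel

theorem fJ : m ∈ SS W wJ := is_inG chJ m_X.2 J_ok

theorem Syl.m {w y : G0} {Y : Subgroup G0} {j : ℕ} (h : Syl w Y j) (hy : y ∈ Y) : Commute y m :=
  m_comm (X_le (SS_le _ ((h y).1 hy).1))
theorem Syl.w {w y : G0} {Y : Subgroup G0} {j : ℕ} (h : Syl w Y j) (hy : y ∈ Y) : Commute y w :=
  SS_comm ((h y).1 hy).1

theorem neg_sq {w : G0} (hw : w ∈ W) (h : w * w = 1) : m * w * (m * w) = 1 := by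
  rw [(m_comm hw).mul_mul_mul_comm, m_sq.1, h, mul_one]

theorem fA : ∃ Y, Syl wA Y 10 ∧ (∀ c, c = wA ∨ c = m * wA → ∃ y ∈ Y, Cm c y Y ∧ ¬ V4 wA y) ∧
    ∀ a ∈ Y, Cm m a Y → V4 wA a := by
  obtain ⟨y1, y2, y3⟩ := syl_of (typ_of A_X.2 typA) subA (o := 27) (j := 10) card_A (by decide)
    (by decide +kernel)
  have h := A_a
  simp only [Bool.and_eq_true, allL_iff (l := [_, _]), List.forall_mem_cons, Bool.not_eq_true',
    ← Bool.not_eq_true] at h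
  refine ⟨_, y3, ?_, fun a ha hc => (is_inV A_X.2 rfl).1 (bimp_iff.1 (y1.forall_of_allElts A_b a ha)
    ((cm_iff y2 (fun _ => y3.m) m_sq.1 m_X.2 rfl).2 hc))⟩
  rintro c (rfl | rfl)
  · obtain ⟨y, e1, e2⟩ := ex_inG y1 h.2.1.1.1
    exact ⟨y, e1, (cm_iff y2 (fun _ => y3.w) sq_val.2.2.1 A_X.2 e2).1 h.2.1.1.2,
      mt (is_inV A_X.2 e2).2 h.2.1.2⟩
  · obtain ⟨y, e1, e2⟩ := ex_inG y1 h.2.2.1.1.1
    exact ⟨y, e1, (cm_iff y2 (fun _ hy => (y3.m hy).mul_right (y3.w hy)) (neg_sq (X_le A_X.1) sq_val.2.2.1)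
      (is_mu m_X.2 A_X.2) e2).1 h.2.2.1.1.2, mt (is_inV A_X.2 e2).2 h.2.2.1.2⟩

theorem fE : m ∈ SS W wE ∧ wE ∈ SS W wE ∧ ∃ Y, Syl wE Y 8 ∧
    (∃ a ∈ Y, Cm m a Y ∧ ¬ V4 wE a ∧ ∃ h ∈ X, h * wE * h⁻¹ = a) ∧ (∃ h ∈ X, h * wE * h⁻¹ = m * wE) ∧
    ∀ a ∈ Y, a * a = 1 → Cm wE a Y ∨ Cm (m * wE) a Y → V4 wE a ∨ nf a = 64 := by
  obtain ⟨y1, y2, y3⟩ := syl_of (typ_of E_X.2 typE) subE (o := 3) (j := 8) card_E (by decide)
    (by decide +kernel)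
  have h := E_a
  simp only [Bool.and_eq_true, Bool.not_eq_true', ← Bool.not_eq_true] at h
  obtain ⟨⟨⟨⟨⟨⟨⟨⟨h1, h2⟩, h3⟩, h4⟩, h5⟩, h6⟩, h7⟩, h8⟩, h9⟩ := h
  obtain ⟨a, a1, a2⟩ := ex_inG y1 h3
  obtain ⟨g, g1, g2⟩ := ex_inX h6
  obtain ⟨k, k1, k2⟩ := ex_inX h7
  refine ⟨is_inG chE m_X.2 h1, is_inG chE E_X.2 h2, _, y3,
    ⟨a, a1, (cm_iff y2 (fun _ => y3.m) m_sq.1 m_X.2 a2).1 h4, mt (is_inV E_X.2 a2).2 h5, g, g1,
      (is_eq (is_mu (is_mu g2 E_X.2) (is_iv g2)) a2).1 h8⟩,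
    ⟨k, k1, (is_eq (is_mu (is_mu k2 E_X.2) (is_iv k2)) (is_mu m_X.2 E_X.2)).1 h9⟩, fun b b1 b2 b3 => ?_⟩
  have t := bimp_iff.1 (y1.forall_of_allElts E_b b b1)
  rw [Bool.and_eq_true, Bool.or_eq_true, Bool.or_eq_true] at t
  exact (t ⟨(is_eq (is_mu rfl rfl) is_one).2 b2, b3.imp
    (cm_iff y2 (fun _ => y3.w) sq_val.2.2.2.2.2 E_X.2 rfl).2
    (cm_iff y2 (fun _ hy => (y3.m hy).mul_right (y3.w hy)) (neg_sq (X_le E_X.1) sq_val.2.2.2.2.2)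
      (is_mu m_X.2 E_X.2) rfl).2⟩).imp (is_inV E_X.2 rfl).1 (is_nf rfl)

theorem fB : m ∉ SS W wB ∧ m * wB ∈ SS W wB ∧ ∃ ρ ∈ X,
    wB * (ρ * wB * ρ⁻¹) = ρ * (ρ * wB * ρ⁻¹) * ρ⁻¹ ∧ ∃ a b c d : G0,
      (∀ o ∈ [a, b, c, d], o ∈ W ∧ Odd (orderOf o) ∧ Commute o wB ∧ Commute o (ρ * wB * ρ⁻¹)) ∧
      a * b * (a * b) = 1 ∧ c * d * (c * d) = 1 ∧ a * b * (c * d) ≠ 1 ∧ (a * b * (c * d)) ^ 3 = 1 := by
  have h := B_a
  have h' := B_c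
  simp only [Bool.and_eq_true, Bool.not_eq_true', ← Bool.not_eq_true] at h h'
  obtain ⟨ρ, r1, r2⟩ := ex_inX (allL_iff.1 in_ok nrho (by simp))
  have r3 := is_mu (is_mu r2 B_X.2) (is_iv r2)
  have k : ∀ i < 4, ∃ o, E.pk o = nth oB i ∧ o ∈ W ∧ Odd (orderOf o) ∧ Commute o wB ∧
      Commute o (ρ * wB * ρ⁻¹) := fun i hi => by
    have t := allL_iff.1 B_b (nth oB i) (by revert i; decide +kernel)
    simp only [Bool.and_eq_true] at t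
    obtain ⟨o, o1, o2⟩ := ex_inG chW t.1.1.1
    exact ⟨o, o2, o1, is_odd o2 t.1.1.2, (is_cmt o2 B_X.2).1 t.1.2, (is_cmt o2 r3).1 t.2⟩
  obtain ⟨a, a1, a2⟩ := k 0 (by decide)
  obtain ⟨b, b1, b2⟩ := k 1 (by decide)
  obtain ⟨c, c1, c2⟩ := k 2 (by decide)
  obtain ⟨d, d1, d2⟩ := k 3 (by decide)
  have i1 : E.pk (a * b) = ni1 := is_mu a1 b1
  have i2 : E.pk (c * d) = ni2 := is_mu c1 d1
  have i3 := is_mu i1 i2
  exact ⟨mt (is_mem chB m_X.2).2 h.1.1.1, is_inG chB (is_mu m_X.2 B_X.2) h.1.1.2, ρ, r1,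
    (is_eq (is_mu B_X.2 r3) (is_mu (is_mu r2 r3) (is_iv r2))).1 h.2, a, b, c, d,
    by simp only [List.forall_mem_cons]; exact ⟨a2, b2, c2, d2, by simp⟩,
    (is_eq (is_mu i1 i1) is_one).1 h'.1.1.1, (is_eq (is_mu i2 i2) is_one).1 h'.1.1.2,
    mt (is_eq i3 is_one).2 h'.1.2, (pow_three' _).trans ((is_eq (is_mu (is_mu i3 i3) i3) is_one).1 h'.2)⟩

theorem fT : ∃ Y Q : Subgroup G0, Syl wT Y 7 ∧ (∀ g ∈ SS W wT, ∀ q ∈ Q, g * q * g⁻¹ ∈ Q) ∧ Q ≤ Y ∧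
    (∀ K : Subgroup G0, Q ≤ K → (∀ b ∈ Y, Cm 1 b Y → b ∈ K) → Y ≤ K) ∧
    (∃ x ∈ SS W wT, Q ≤ closure {c | ∃ y ∈ Y, c = y * x * y⁻¹ * x⁻¹} ∧ ∀ b ∈ Y, Cm 1 b Y → Commute b x) ∧
    (∃ c ∈ Y, c * c = 1 ∧ ¬ Cm 1 c Y ∧ c ∉ Q ∧ nf c = 48) ∧
    ∀ c ∈ Y, c * c = 1 → ¬ Cm 1 c Y → c ∉ Q → fix (c * wT) = 26 := by
  obtain ⟨y1, y2, y3⟩ := syl_of (typ_of T_W.2.2 typT) subT (o := 9) (j := 7) card_T (by decide)
    (by decide +kernel)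
  obtain ⟨q1, -, q3⟩ := of_subOK chT (typ_of T_W.2.2 typT).2 subQ
  have h := T_a
  simp only [Bool.and_eq_true, Bool.not_eq_true', ← Bool.not_eq_true, allL_iff (l := bgT),
    allL_iff (l := qyT)] at h
  obtain ⟨⟨⟨⟨⟨⟨⟨⟨⟨h1, h2⟩, h3⟩, h4⟩, h5⟩, h6⟩, h7⟩, h8⟩, h9⟩, h10⟩ := h
  obtain ⟨x, x1, x2⟩ := ex_inG chW h1
  obtain ⟨c, c1, c2⟩ := ex_inG y1 h6
  have s : ∀ {g}, E.pk g ∈ ygT ↔ E.pk g ∈ bgT ∨ E.pk g ∈ qgT := by rw [ygT_eq]; exact List.mem_append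
  refine ⟨_, _, y3, q3, closure_mono fun g hg => s.2 (.inr hg), fun K k1 k2 => Enc.grp_induction fun g hg =>
    (s.1 hg).elim (fun e => k2 g (subset_closure hg) ((cen_iff y2 rfl).1 (h4 _ e)))
      fun e => k1 (subset_closure e),
    ⟨x, subset_closure ⟨x1, is_odd x2 h2, (is_cmt x2 T_W.2.2).1 h3⟩, Enc.grp_induction fun g hg => ?_,
      fun b b1 b2 => (is_cmt rfl x2).1 (bimp_iff.1 (y1.forall_of_allElts T_b b b1) ((cen_iff y2 rfl).2 b2))⟩,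
    ⟨c, c1, (is_eq (is_mu c2 c2) is_one).1 h7, mt (cen_iff y2 c2).2 h8, mt (is_mem q1 c2).2 h9,
      is_nf c2 h10⟩, fun d d1 d2 d3 d4 => ?_⟩
  · obtain ⟨z, hz, e⟩ := List.mem_map.1 (qgT_eq ▸ hg)
    obtain ⟨y, e1, e2⟩ := ex_inG y1 (h5 z hz).1
    exact subset_closure ⟨y, e1,
      (is_eq e.symm (is_mu (is_mu (is_mu e2 x2) (is_iv e2)) (is_iv x2))).1 (h5 z hz).2⟩
  · have t := bimp_iff.1 (y1.forall_of_allElts T_c d d1)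
    simp only [Bool.and_eq_true, Bool.not_eq_true', ← Bool.not_eq_true] at t
    exact is_fx (is_mu rfl T_W.2.2) (t ⟨⟨(is_eq (is_mu rfl rfl) is_one).2 d2, mt (cen_iff y2 rfl).1 d3⟩,
      mt (is_mem q1 rfl).1 d4⟩)

theorem fR1 : SS W wR = E.grp MG ∧ SS W wR ≤ closure {a | a ∈ SS W wR ∧ a * a = 1} := by
  have h := MG_ok
  simp only [Bool.and_eq_true, allL_iff, anyL_iff, beq_iff (b := evalWord _ _ _ _ _)] at h
  have h1 : SS W wR ≤ E.grp MG := (typ_of R_W.2.2 typR).2 ▸ Enc.grp_le fun P hP => by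
    obtain ⟨w, -, e⟩ := h.2 P hP
    exact e ▸ Enc.inG_evalWord (Enc.inG_grp fun P hP => ⟨_, (of_inG chR (h.1 P hP).1).2⟩) w
  exact ⟨le_antisymm h1 (Enc.grp_induction fun g hg => is_inG chR rfl (h.1 _ hg).1),
    h1.trans (Enc.grp_induction fun g hg => subset_closure
      ⟨is_inG chR rfl (h.1 _ hg).1, (is_eq (is_mu rfl rfl) is_one).1 (h.1 _ hg).2⟩)⟩

theorem fR2 (α : MulAut (SS W wR)) : ∃ c, MulAut.conj c = α := by
  have h := MG_inc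
  simp only [Bool.and_eq_true, beq_iff] at h
  obtain ⟨χ, -, c2⟩ := exists_hom (E := E) (E' := sE) col63 h.1
  rw [List.map_snd_zip h.2.ge] at c2
  revert χ
  rw [List.map_fst_zip h.2.le, ← fR1.1]
  intro χ c2
  obtain ⟨⟨e⟩, e1⟩ := smodel
  have hZ := card_eq_one.1 (S0246.result (ZMod.card 2) 3 (by norm_num))
  let f : PSp 3 (ZMod 2) ≃* _ := (QuotientGroup.quotientMulEquivOfEq hZ).trans QuotientGroup.quotientBot
  refine STD1.inner_of_equiv (((MulEquiv.ofBijective _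
    (χ.rangeRestrict_surjective.bijective_of_nat_card_le (by rw [c2, e1, card_R]))).trans
      (MulEquiv.subgroupCongr c2)).trans e.symm) (STD.inner_of_card ?_
      (by simpa using S0814.result 2 1 le_rfl (ZMod.card 2) 3 (by decide) (by decide))) α
  exact bot_unique fun a ha => (map_eq_one_iff _ f.injective).1 (mem_bot.1 (hZ ▸ mem_center_iff.2 fun b => by
    simpa using congrArg f (mem_center_iff.1 ha (f.symm b))))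

theorem fR3 : ∃ h2 ∈ X, ∃ h3 ∈ X, ∃ u ∈ W, nf (wR * u) = 16 ∧ nf (h3 * wR * h3⁻¹ * u) = 48 ∧
    ∀ z ∈ [(1, u), (1, h3 * wR * h3⁻¹), (h3, wR), (h3, u), (h2, wR), (h2, h3 * wR * h3⁻¹), (h2, u)],
      z.1⁻¹ * m * z.2 * z.1 * wR ∈ SS W wR := by
  have h := R_h
  have t := allL_iff.1 R_m
  simp only [Bool.and_eq_true, List.forall_mem_cons] at h t ⊢
  obtain ⟨⟨⟨⟨⟨⟨⟨h1, h2⟩, h3⟩, -⟩, h5⟩, h6⟩, h7⟩, -⟩ := h
  obtain ⟨a, a1, a2⟩ := ex_inX h1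
  obtain ⟨b, b1, b2⟩ := ex_inX h2
  obtain ⟨u, u1, u2⟩ := ex_inG chW h3
  have r := (is_mu (is_mu b2 R_W.2.2) (is_iv b2)).trans (beq_iff.1 h5)
  have k : ∀ {x y P Q}, E.pk x = P → E.pk y = Q → inG cXR (mu (mu (mu (mu (iv P) nm) Q) P) nR) = true →
      x⁻¹ * m * y * x * wR ∈ SS W wR := fun e1 e2 =>
    is_inG chR (is_mu (is_mu (is_mu (is_mu (is_iv e1) m_X.2) e2) e1) R_W.2.2)
  exact ⟨a, a1, b, b1, u, u1, is_nf (is_mu R_W.2.2 u2) h6, is_nf (is_mu r u2) h7, k is_one u2 t.1,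
    k is_one r t.2.1, k b2 R_W.2.2 t.2.2.1, k b2 u2 t.2.2.2.1, k a2 R_W.2.2 t.2.2.2.2.1,
    k a2 r t.2.2.2.2.2.1, k a2 u2 t.2.2.2.2.2.2.1, by simp⟩

end Cfsg.Agent.STD.O8
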