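import Cfsg.Agent.STD.O8D1
import Cfsg.Agent.H96.OutT

/-! The Weyl group `W` of type `E₈` on the roots, its subgroup `X` of index two and the map to `O₈⁺(2)`. -/

set_option autoImplicit false
set_option maxRecDepth 100000

namespace Cfsg.Agent.STD.O8

open Cfsg.Agent.H14 Cfsg.Agent.H96 Cfsg.Agent.H96.O22 Subgroup

abbrev G0 := Equiv.Perm (Fin 240)
abbrev G1 := Equiv.Perm (Fin 120)
abbrev E7 : Enc (Fin 120) (nat_lit 120) (nat_lit 7) (nat_lit 128) := pE

theorem of_inG {cs : List LevCert} {K : Subgroup G0} (hc : E.IsChain (cs.map LevCert.L) K) {P : ℕ}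
    (h : inG cs P = true) : E.perm P ∈ K ∧ E.pk (E.perm P) = P := by
  rw [inG, Bool.and_eq_true] at h
  exact ⟨(hc.inG_of_sift h.1 h.2).perm_mem, E.pk_perm h.1⟩

theorem pk_mu (a b : G0) : mu (E.pk a) (E.pk b) = E.pk (a * b) := (E.pk_mul a b).symm
theorem pk_iv (a : G0) : iv (E.pk a) = E.pk a⁻¹ := (E.pk_inv a).symm
theorem pk_one : one = E.pk 1 := E.pk_one.symm
theorem cmt_iff {a b : G0} : cmt (E.pk a) (E.pk b) = true ↔ Commute a b := by
  rw [cmt, pk_mu, pk_mu, beq_iff, E.pk_inj]; rfl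

def W : Subgroup G0 := E.grp (piG.map Prod.fst)
def Wb : Subgroup G1 := E7.grp pgens
def Om : Subgroup G1 := E7.grp xs

theorem chW : E.IsChain (cW.map LevCert.L) W :=
  Enc.isChain_of_ssOK (fun P hP => by
    obtain ⟨z, hz, rfl⟩ := List.mem_map.1 hP
    exact ⟨_, (mem_Inc (E' := E7) (allL_iff.1 piG_ok z hz)).1⟩) ssW

theorem card_W : Nat.card W = 696729600 := by rw [chW.card]; decide +kernel

theorem chWb : E7.IsChain (pcert.map LevCert.L) Wb := by
  obtain ⟨ι, -⟩ := H56.exists_hom H56.F2 (F := ZMod 2) rfl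
  obtain ⟨φ, h⟩ := H56.model_iso ι finSumFinEquiv pE (H56.quadFormPlus_eq ι 4) pok p_ok card_O8p.le
  exact h.chain

noncomputable def eO : O8p ≃* Wb := pmodel.some

theorem card_Wb : Nat.card Wb = 348364800 := (Nat.card_congr eO.toEquiv).symm.trans card_O8p

noncomputable def eC : commutator O8p ≃* (commutator Wb).map Wb.subtype :=
  ((eO.subgroupMap _).trans (MulEquiv.subgroupCongr (by
    rw [_root_.commutator_def, map_commutator, map_top_of_surjective _ eO.surjective]; rfl))).trans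
    (equivMapOfInjective _ _ Wb.subtype_injective)

theorem comm_normal : ∀ g ∈ Wb, ∀ q ∈ (commutator Wb).map Wb.subtype,
    g * q * g⁻¹ ∈ (commutator Wb).map Wb.subtype := by
  rintro g hg _ ⟨q, hq, rfl⟩
  exact ⟨_, (commutator_normal ⊤ ⊤).conj_mem q hq ⟨g, hg⟩, rfl⟩

theorem chO' : E7.IsChain (cO.map LevCert.L) ((commutator Wb).map Wb.subtype) ∧
    (commutator Wb).map Wb.subtype = Om := by
  have h := preO
  simp only [Bool.and_eq_true, allL_iff] at h
  have hc := (Nat.card_congr eC.toEquiv).symm.trans card_comm_O8p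
  refine Enc.isChain_of_preOK (fun P hP => ?_) h.1 (by rw [hc]; decide +kernel)
  obtain ⟨g, hg, rfl⟩ := chWb.inG_of_sift (h.2 P hP).1.1 (h.2 P hP).1.2
  exact ⟨g, mem_of_coprime (map_subtype_le _) comm_normal (j := 2) (by rw [hc, card_Wb]) hg
    (odd_of_ok (h.2 _ hP).2).coprime_two_right, rfl⟩

theorem chO : E7.IsChain (cO.map LevCert.L) Om := chO'.2 ▸ chO'.1
noncomputable def eOm : commutator O8p ≃* Om := eC.trans (MulEquiv.subgroupCongr chO'.2)
theorem card_Om : Nat.card Om = 174182400 := (Nat.card_congr eOm.toEquiv).symm.trans card_comm_O8p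
theorem Om_le : Om ≤ Wb := chO'.2 ▸ map_subtype_le _
theorem Om_conj {g q : G1} (hg : g ∈ Wb) (hq : q ∈ Om) : g * q * g⁻¹ ∈ Om :=
  chO'.2 ▸ comm_normal g hg q (chO'.2 ▸ hq)

theorem cent_Om {g : G1} (hg : g ∈ Wb) (h : ∀ q ∈ Om, Commute g q) : g = 1 := by
  have : eO.symm ⟨g, hg⟩ ∈ centralizer (commutator O8p : Set O8p) := fun y hy => eO.injective (by
    rw [map_mul, map_mul, eO.apply_symm_apply]
    exact Subtype.ext (h _ (eOm ⟨y, hy⟩).2).symm.eq)
  rw [cent_comm_O8p, mem_bot, MulEquiv.symm_apply_eq, map_one] at this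
  exact congrArg Subtype.val this

noncomputable def pi : W →* G1 := (exists_hom (E := E) (E' := E7) col1 piG_ok).choose

theorem pi_inc (g : W) : (g.1, pi g) ∈ Inc E E7 row1 :=
  (exists_hom (E := E) (E' := E7) col1 piG_ok).choose_spec.1 g

theorem pi_eq {P Q : ℕ} (h : inc1 P Q = true) (hP : E.perm P ∈ W) : pi ⟨_, hP⟩ = E7.perm Q :=
  Inc_right col1 (pi_inc _) (mem_Inc h).2.2

theorem range_pi : pi.range = Wb := by
  refine le_antisymm ((exists_hom (E := E) (E' := E7) col1 piG_ok).choose_spec.2.trans_le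
    (Enc.grp_le fun P hP => ?_)) (Enc.grp_induction fun g hg => ?_)
  · obtain ⟨z, hz, rfl⟩ := List.mem_map.1 hP
    have h := allL_iff.1 piG_in z hz
    simp only [Bool.and_eq_true] at h
    exact chWb.inG_of_sift h.1.1 h.1.2
  · have h := lifts_ok
    simp only [Bool.and_eq_true, allL_iff, beq_iff] at h
    rw [← List.map_snd_zip (l₁ := lifts) h.2.ge] at hg
    obtain ⟨z, hz, e⟩ := List.mem_map.1 hg
    exact ⟨⟨_, (of_inG chW (h.1 z hz).1).1⟩, by rw [pi_eq (h.1 z hz).2, e, E7.perm_pk]⟩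

theorem pi_mem (g : W) : pi g ∈ Wb := range_pi ▸ ⟨g, rfl⟩

noncomputable def X : Subgroup G0 := (Om.comap pi).map W.subtype

theorem X_le : X ≤ W := map_subtype_le _

theorem mem_X {a : G0} (h : a ∈ W) : a ∈ X ↔ pi ⟨a, h⟩ ∈ Om :=
  ⟨by rintro ⟨b, hb, rfl⟩; exact hb, fun h1 => ⟨⟨a, h⟩, h1, rfl⟩⟩

theorem X_conj {g a : G0} (hg : g ∈ W) (ha : a ∈ X) : g * a * g⁻¹ ∈ X := by
  refine ⟨⟨g, hg⟩ * ⟨a, X_le ha⟩ * ⟨g, hg⟩⁻¹, ?_, rfl⟩
  rw [SetLike.mem_coe, mem_comap, map_mul, map_mul, map_inv]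
  exact Om_conj (pi_mem _) ((mem_X _).1 ha)

theorem index_X : (X.subgroupOf W).index = 2 := by
  have h := (Om.subgroupOf Wb).index_mul_card
  rw [Nat.card_congr (subgroupOfEquivOfLe Om_le).toEquiv, card_Om, card_Wb] at h
  rw [show X.subgroupOf W = Om.comap pi from comap_map_eq_self_of_injective W.subtype_injective _,
    index_comap, range_pi]
  exact Nat.eq_of_mul_eq_mul_right (by decide) (h.trans (by decide))

theorem card_X : Nat.card X = 348364800 := by
  have h := (X.subgroupOf W).index_mul_card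
  rw [Nat.card_congr (subgroupOfEquivOfLe X_le).toEquiv, index_X, card_W] at h
  omega

theorem mul_mem_X {a b : G0} (ha : a ∈ W) (hb : b ∈ W) (h1 : a ∉ X) (h2 : b ∉ X) : a * b ∈ X :=
  (mul_mem_iff_of_index_two index_X (a := ⟨a, ha⟩) (b := ⟨b, hb⟩)).2 (iff_of_false h1 h2)

theorem odd_mem_X {a : G0} (ha : a ∈ W) (h : Odd (orderOf a)) : a ∈ X :=
  mem_of_coprime X_le (fun _ hg _ => X_conj hg) (j := 2) (by rw [card_W, card_X]) ha h.coprime_two_right

theorem SS_le (w : G0) : SS W w ≤ X := (closure_le _).2 fun _ hy => odd_mem_X hy.1 hy.2.1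

theorem of_inX {b : Bool} {P : ℕ} (h : inX b P = true) : E.pk (E.perm P) = P ∧ ∃ h : E.perm P ∈ W,
    pi ⟨_, h⟩ = E7.perm (piP P) ∧ (E.perm P ∈ X ↔ b = true) := by
  simp only [inX, Bool.and_eq_true, force_eq] at h
  obtain ⟨h1, h2⟩ := of_inG chW h.1
  refine ⟨h2, h1, pi_eq h.2.1 h1, ?_⟩
  rw [mem_X h1, pi_eq h.2.1 h1, chO.mem_iff_sift, (mem_Inc (E := E) h.2.1).2.1]
  have := h.2.2
  revert this
  cases b <;> cases sift _ _ _ _ (piP P) <;> simp

theorem inX_mem {P : ℕ} (h : inX true P = true) : E.perm P ∈ X ∧ E.pk (E.perm P) = P :=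
  ⟨(of_inX h).2.choose_spec.2.2 rfl, (of_inX h).1⟩

noncomputable def m : G0 := E.perm nm
noncomputable def wJ : G0 := E.perm nJ
noncomputable def wR : G0 := E.perm nR
noncomputable def wA : G0 := E.perm nA
noncomputable def wT : G0 := E.perm nT
noncomputable def wB : G0 := E.perm nB
noncomputable def wE : G0 := E.perm nE

theorem m_X : m ∈ X ∧ E.pk m = nm := inX_mem (allL_iff.1 in_ok _ (by simp))
theorem J_X : wJ ∈ X ∧ E.pk wJ = nJ := inX_mem (allL_iff.1 in_ok _ (by simp))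
theorem A_X : wA ∈ X ∧ E.pk wA = nA := inX_mem (allL_iff.1 in_ok _ (by simp))
theorem B_X : wB ∈ X ∧ E.pk wB = nB := inX_mem (allL_iff.1 in_ok _ (by simp))
theorem E_X : wE ∈ X ∧ E.pk wE = nE := inX_mem (allL_iff.1 in_ok _ (by simp))
theorem R_W : wR ∈ W ∧ wR ∉ X ∧ E.pk wR = nR := by
  obtain ⟨h1, h2, -, h3⟩ := of_inX (allL_iff.1 out_ok nR (by simp))
  exact ⟨h2, fun h => by simpa using h3.1 h, h1⟩
theorem T_W : wT ∈ W ∧ wT ∉ X ∧ E.pk wT = nT := by
  obtain ⟨h1, h2, -, h3⟩ := of_inX (allL_iff.1 out_ok nT (by simp))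
  exact ⟨h2, fun h => by simpa using h3.1 h, h1⟩

theorem m_sq : m * m = 1 ∧ m ≠ 1 := by
  have h := m_ok
  simp only [Bool.and_eq_true, ← m_X.2, pk_mu, pk_one, beq_iff, E.pk_inj, Bool.not_eq_true',
    ← Bool.not_eq_true] at h
  exact ⟨h.1.2, h.2⟩

theorem m_comm {g : G0} (hg : g ∈ W) : Commute g m := by
  refine mem_centralizer_singleton_iff.1 (Enc.grp_induction (H := centralizer {m}) (fun g hg => ?_) hg)
  obtain ⟨z, hz, e⟩ := List.mem_map.1 hg
  have h := allL_iff.1 piG_in z hz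
  simp only [Bool.and_eq_true, e, ← m_X.2, cmt_iff] at h
  exact mem_centralizer_singleton_iff.2 h.2

theorem pi_m : pi ⟨m, X_le m_X.1⟩ = 1 := by
  have h := m_ok
  simp only [Bool.and_eq_true] at h
  exact (pi_eq h.1.1 _).trans (by rw [← E7.pk_one, E7.perm_pk])

theorem ker_pi {g : W} (h : pi g = 1) : g.1 = 1 ∨ g.1 = m := by
  have h1 := card_eq_card_quotient_mul_card_subgroup pi.ker
  rw [Nat.card_congr (QuotientGroup.quotientKerEquivRange pi).toEquiv, range_pi, card_W, card_Wb] at h1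
  obtain ⟨w, -, hw⟩ := (Nat.card_eq_two_iff' (1 : pi.ker)).1 (by omega)
  refine or_iff_not_imp_left.2 fun c => congrArg (fun x : pi.ker => x.1.1)
    ((hw ⟨g, h⟩ fun t => c (congrArg (fun x : pi.ker => x.1.1) t)).trans
      (hw ⟨_, pi_m⟩ fun t => m_sq.2 (congrArg (fun x : pi.ker => x.1.1) t)).symm)

/-- only `±1` centralise `X` -/
theorem faith {v : G0} (hv : v ∈ W) (h : ∀ a ∈ X, Commute v a) : v = 1 ∨ v = m := by
  refine ker_pi (g := ⟨v, hv⟩) (cent_Om (pi_mem _) fun q hq => ?_)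
  obtain ⟨a, rfl⟩ := range_pi.ge (Om_le hq)
  exact (show Commute (⟨v, hv⟩ : W) a from Subtype.ext (h _ ⟨a, hq, rfl⟩)).map pi

end Cfsg.Agent.STD.O8
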