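import Cfsg.Agent.DIM5.R3c

/-! Involutions and automorphisms of the alternating groups of degree five, six and seven. -/

set_option autoImplicit false

namespace Cfsg.Agent.STD.Sm

open Equiv Subgroup H10.P3 H56 H56.Alt

/-- one class of involutions; squares of automorphisms are inner; a subgroup of index at most two
of the automorphism group has only inner involutions -/
structure XD (X : Type*) [Group X] : Prop where
  ex : ∃ x y : X, orderOf x = 2 ∧ orderOf y = 2 ∧ x ≠ y ∧ Commute x y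
  cls : ∀ x y : X, orderOf x = 2 → orderOf y = 2 → IsConj x y
  sq : ∀ α : MulAut X, ∃ c, α * α = MulAut.conj c
  out : ∃ χ : MulAut X →* ℤˣ, ∀ α, χ α = 1 → α * α = 1 → ∃ c, α = MulAut.conj c

theorem exists_chi {H : Type*} [Group H] (M : Subgroup H) (h : ∀ a b, a ∉ M → b ∉ M → a * b ∈ M) :
    ∃ χ : H →* ℤˣ, ∀ a, χ a = 1 → a ∈ M := by
  classical
  refine ⟨MonoidHom.mk' (fun a => if a ∈ M then 1 else -1) fun a b => ?_, fun a ha => ?_⟩
  · by_cases ha : a ∈ M <;> by_cases hb : b ∈ M <;>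
      simp [ha, hb, mul_mem_cancel_left, mul_mem_cancel_right, h]
  · by_contra hc
    simp [hc] at ha

theorem xd_of {n : ℕ} (h4 : 4 ≤ n) (h6 : n ≠ 6)
    (ex : ∃ x y : alternatingGroup (Fin n), orderOf x = 2 ∧ orderOf y = 2 ∧ x ≠ y ∧ Commute x y)
    (cls : ∀ x y : alternatingGroup (Fin n), orderOf x = 2 → orderOf y = 2 → IsConj x y) :
    XD (alternatingGroup (Fin n)) := by
  let e := MulEquiv.ofBijective _ (S2119.result n h4 h6)
  have k : ∀ α, Perm.sign (e.symm α) = 1 → ∃ c, α = MulAut.conj c := fun α h =>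
    ⟨⟨e.symm α, h⟩, (e.apply_symm_apply α).symm.trans (MulEquiv.ext fun _ => rfl)⟩
  exact ⟨ex, cls, fun α => k _ (by rw [map_mul, map_mul, Int.units_mul_self]),
    Perm.sign.comp e.symm.toMonoidHom, fun α h _ => k α (by simpa using h)⟩

theorem xd5 : XD (alternatingGroup (Fin 5)) :=
  xd_of (by norm_num) (by norm_num)
    ⟨al [[0, 1], [2, 3]], al [[0, 2], [1, 3]], orderOf_eq_prime (by decide +kernel) (by decide +kernel),
      orderOf_eq_prime (by decide +kernel) (by decide +kernel), by decide +kernel,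
      (commute_iff_eq _ _).2 (by decide +kernel)⟩
    (isConj_of_order a5_classes (fuel := 10) (X := nat_lit 0x3850) (by decide +kernel))

theorem xd7 : XD (alternatingGroup (Fin 7)) :=
  xd_of (by norm_num) (by norm_num)
    ⟨al [[0, 1], [2, 3]], al [[0, 2], [1, 3]], orderOf_eq_prime (by decide +kernel) (by decide +kernel),
      orderOf_eq_prime (by decide +kernel) (by decide +kernel), by decide +kernel,
      (commute_iff_eq _ _).2 (by decide +kernel)⟩
    (isConj_of_order a7_classes (fuel := 20) (X := nat_lit 0x1ac4c1) (by decide +kernel))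

/-- the four possible images of the second generator of `A₆` -/
def bs : Fin 4 → alternatingGroup (Fin 6) :=
  ![a6b, a6m, al [[0, 1, 2, 5], [3, 4]], al [[0, 1, 4, 3], [2, 5]]]

/-- the four images as words -/
def ws : Fin 4 → List Bool :=
  ![[false], [true, false, false, true, false, true, false, false, false, true, false, true],
    [true, false, true, false, false, false, true, false], [true, false, false, false, true]]

/-- the class of an automorphism of `A₆` modulo inner automorphisms -/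
def Cl (α : MulAut (alternatingGroup (Fin 6))) (i : Fin 4) : Prop :=
  ∃ e, α a6a = e * a6a * e⁻¹ ∧ α a6b = e * bs i * e⁻¹

theorem tab : ∀ i j : Fin 4, bs j = wd a6a a6b (ws j) ∧ ∃ k : Fin 4, (i = j → k = 0) ∧
    ((i < 2 ↔ j < 2) → k < 2) ∧ ∃ c ∈ [1, al [[0, 2, 1, 3], [4, 5]], al [[0, 1], [4, 5]],
      al [[2, 3], [4, 5]], al [[0, 3], [1, 2]]],
      a6a = c * a6a * c⁻¹ ∧ wd a6a (bs i) (ws j) = c * bs k * c⁻¹ := by
  decide +kernel

theorem cls6 (x y : alternatingGroup (Fin 6)) : orderOf x = 2 → orderOf y = 2 → IsConj x y :=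
  isConj_of_order a6_classes (fuel := 10) (X := nat_lit 0x2c4c1) (by decide +kernel) x y

theorem o6 : orderOf a6a = 2 := orderOf_eq_prime (by decide +kernel) (by decide +kernel)

theorem exists_cl (α : MulAut (alternatingGroup (Fin 6))) : ∃ i, Cl α i := by
  obtain ⟨d, hd⟩ := isConj_iff.1 (cls6 (α a6a) a6a (by rw [MulEquiv.orderOf_eq, o6]) o6)
  let β : MulAut (alternatingGroup (Fin 6)) := MulAut.conj d * α
  have hβ : ∀ g, α g = d⁻¹ * β g * d := fun g => by simp [β, mul_assoc]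
  have ha : β a6a = a6a := hd
  obtain ⟨c, -, h1, b0, h2, h3⟩ := a6_pairs (β a6b).1
    (by rw [← coe_pow, ← map_pow, show a6b ^ 4 = 1 by decide +kernel]; simp)
    (by rw [← coe_mul]; nth_rw 1 [← ha]
        rw [← coe_pow, ← map_mul, ← map_pow, show (a6a * a6b) ^ 5 = 1 by decide +kernel]; simp)
    (by rw [← coe_mul, ← coe_mul]; nth_rw 1 [← ha]
        rw [← coe_pow, ← map_mul, ← map_mul, ← map_pow,
          show (a6a * (a6b * a6b)) ^ 5 = 1 by decide +kernel]; simp)
  have e1 : α a6a = d⁻¹ * c * a6a * (d⁻¹ * c)⁻¹ := by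
    rw [hβ, ha]; nth_rw 1 [← h1]; group
  have e2 : α a6b = d⁻¹ * c * b0 * (d⁻¹ * c)⁻¹ := by rw [hβ, Subtype.ext h3]; group
  simp only [List.mem_cons, List.not_mem_nil, or_false] at h2
  rcases h2 with rfl | rfl | rfl | rfl
  exacts [⟨0, _, e1, e2⟩, ⟨1, _, e1, e2⟩, ⟨2, _, e1, e2⟩, ⟨3, _, e1, e2⟩]

theorem Cl.mul {α β : MulAut (alternatingGroup (Fin 6))} {i j : Fin 4} (h : Cl α i) (h' : Cl β j) :
    ∃ k, (i = j → k = 0) ∧ ((i < 2 ↔ j < 2) → k < 2) ∧ Cl (α * β) k := by
  obtain ⟨e, e1, e2⟩ := h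
  obtain ⟨f, f1, f2⟩ := h'
  obtain ⟨t0, k, t1, t2, c, -, t3, t4⟩ := tab i j
  have e3 : α (bs j) = e * wd a6a (bs i) (ws j) * e⁻¹ := t0 ▸
    (map_wd α.toMonoidHom _ _ _).trans (by
      rw [MulEquiv.coe_toMonoidHom, e1, e2]
      exact (map_wd (MulAut.conj e).toMonoidHom _ _ _).symm)
  refine ⟨k, t1, t2, α f * e * c, ?_, ?_⟩
  · rw [MulAut.mul_apply, f1, map_mul, map_mul, map_inv, e1]
    nth_rw 1 [t3]
    group
  · rw [MulAut.mul_apply, f2, map_mul, map_mul, map_inv, e3, t4]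
    group

theorem Cl.inn {α : MulAut (alternatingGroup (Fin 6))} (h : Cl α 0) : ∃ c, α = MulAut.conj c := by
  obtain ⟨e, e1, e2⟩ := h
  have := a6_gen (H := α.toMonoidHom.eqLocus (MulAut.conj e).toMonoidHom) e1 e2
  exact ⟨e, MulEquiv.ext fun g =>
    (this ▸ mem_top g : g ∈ α.toMonoidHom.eqLocus (MulAut.conj e).toMonoidHom)⟩

theorem xd6 : XD (alternatingGroup (Fin 6)) := by
  have sq : ∀ α : MulAut (alternatingGroup (Fin 6)), ∃ c, α * α = MulAut.conj c := fun α => by
    obtain ⟨i, hi⟩ := exists_cl α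
    obtain ⟨k, h1, -, h2⟩ := hi.mul hi
    exact (h1 rfl ▸ h2).inn
  have c0 : ∀ c, ∃ i < 2, Cl (MulAut.conj c) i := fun c => ⟨0, by decide, c, rfl, rfl⟩
  have m : ∀ {α β}, (∃ i < 2, Cl α i) → (∃ i < 2, Cl β i) → ∃ i < 2, Cl (α * β) i := by
    rintro α β ⟨i, h1, h2⟩ ⟨j, h3, h4⟩
    obtain ⟨k, -, h5, h6⟩ := h2.mul h4
    exact ⟨k, h5 (by simp [h1, h3]), h6⟩
  let M : Subgroup (MulAut (alternatingGroup (Fin 6))) :=
    { carrier := {α | ∃ i < 2, Cl α i}
      one_mem' := by simpa using c0 1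
      mul_mem' := m
      inv_mem' := fun {α} h => by
        obtain ⟨c, hc⟩ := sq α
        have := m h (c0 c⁻¹)
        rwa [map_inv, ← hc, mul_inv_rev, mul_inv_cancel_left] at this }
  obtain ⟨χ, hχ⟩ := exists_chi M fun α β ha hb => by
    obtain ⟨i, hi⟩ := exists_cl α
    obtain ⟨j, hj⟩ := exists_cl β
    obtain ⟨k, -, h1, h2⟩ := hi.mul hj
    exact ⟨k, h1 (iff_of_false (fun e => ha ⟨i, e, hi⟩) fun e => hb ⟨j, e, hj⟩), h2⟩
  refine ⟨⟨_, al [[0, 2], [1, 3]], o6, orderOf_eq_prime (by decide +kernel) (by decide +kernel),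
    by decide +kernel, (commute_iff_eq _ _).2 (by decide +kernel)⟩, cls6, sq, χ, fun α h1 h2 => ?_⟩
  obtain ⟨i, h3, h4⟩ := hχ α h1
  have : i = 0 ∨ i = 1 := by omega
  rcases this with rfl | rfl
  · exact h4.inn
  · obtain ⟨d, a, b⟩ := h4
    exact (D5.R3c.a6_no_inv α (fun g => by rw [← MulAut.mul_apply, h2, MulAut.one_apply]) a b).elim

end Cfsg.Agent.STD.Sm
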